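import Cfsg.Agent.Lib.UF.SB
import Cfsg.Agent.Lib.USt.SC
import Cfsg.Agent.Lib.USt.TRD

/-!
# S1778 (U₅), split case III: `U₁ × U₂` is Sylow in `N`; the split case does not occur in a simple group.
-/

set_option autoImplicit false
set_option linter.unusedSectionVars false

namespace Cfsg.Lib.UF

open Subgroup G2S Cfsg.Lib.BG Cfsg.Lib.GW GSt.SLa Cfsg.Lib.USt
open GSt (N0 HH)
open scoped commutatorElement Cfsg.Lib.Transfer

variable {J U A G : Type*} [Group J] [Finite J] [Group U] [Finite U] [Group A] [Group G] [Finite G] {m : SM J U A}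
  {ψ μ ν : J →* G} {t g φ r : G} {P T Γ N : Subgroup G} {α β : MulAut J} {θ η ι : A}

theorem conj_conj {X : Type*} [Group X] (a b x : X) : a * (b * x * b⁻¹) * a⁻¹ = a * b * x * (a * b)⁻¹ := by group

namespace SN
variable (s : SN m ψ t μ ν T Γ N)
include s

/-- `x⁻¹ w` has diagonal type: `dl`. -/
theorem dl' {w x : G} {α' β' : MulAut J} (a : Ac μ ν w α β) (hN : w * t ∈ N) (a' : Ac μ ν x α' β') (hx : x ∈ N)
    (h : m.Θ α * (m.Θ β)⁻¹ = m.Θ α' * (m.Θ β')⁻¹) : False := by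
  refine s.dl (a'.inv.mul a) ?_ (by rw [mul_assoc]; exact mul_mem (inv_mem hx) hN)
  simp only [map_mul, map_inv]
  rw [eq_mul_of_mul_inv_eq h, mul_assoc, inv_mul_cancel_left]

/-- `n = ⁅r, t⁆ = (r t) · t (r t)⁻¹ t ∈ Γ ⊓ N` has type `(c, c⁻¹)`, `c = θ η⁻¹`, and is inverted by `t`.  `trd` with `E = N`, `H = HH`, `H₀ = N0`,
`K = {x ∈ N0 ⊓ N of type (d, d⁻¹), d ∈ D}`, `D = {θ' η'⁻¹ | (θ', η') a type of N0 ⊓ N}`.  `n ∉ K` by `dl'` (`w = r t`).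
`n ^ (2 k) t = n ^ k t n ^ (-k)`, `n t = r t r⁻¹`, `sw`. -/
theorem tr2 (hr : r ∈ Γ) (rN : r ∈ N) (a : Ac μ ν (r * t) (m.fl θ) (m.fl η)) :
    ∃ g ∈ N, ∃ l : ℕ, g⁻¹ * ⁅r, t⁆ ^ l * g ∈ HH μ ν t ∧ g⁻¹ * ⁅r, t⁆ ^ l * g ∉ N0 μ ν := by
  have := s.nN
  have q := s.sq
  have tH := s.T_HH s.tT
  have rH := s.T_HH (s.Γ_T hr)
  let D : Subgroup A :=
    { carrier := {d | ∃ x ∈ N, ∃ α β, Ac μ ν x α β ∧ d = m.Θ α * (m.Θ β)⁻¹}
      one_mem' := ⟨1, one_mem _, 1, 1, GSt.Ac.one, by simp⟩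
      mul_mem' := by
        rintro _ _ ⟨x, hx, α, β, a, rfl⟩ ⟨x', hx', α', β', a', rfl⟩
        refine ⟨_, mul_mem hx hx', _, _, a.mul a', ?_⟩
        rw [map_mul, map_mul, mul_inv_rev, m.comm (m.Θ β')⁻¹, mul_assoc, mul_assoc, ← mul_assoc (m.Θ β)⁻¹,
          ← mul_assoc (m.Θ α'), m.comm (m.Θ β)⁻¹]
      inv_mem' := by
        rintro _ ⟨x, hx, α, β, a, rfl⟩
        exact ⟨_, inv_mem hx, _, _, a.inv, by rw [map_inv, map_inv, mul_inv_rev, m.comm]⟩ }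
  let K : Subgroup G :=
    { carrier := {x | ∃ α β, Ac μ ν x α β ∧ m.Θ α ∈ D}
      one_mem' := ⟨1, 1, GSt.Ac.one, by rw [map_one]; exact one_mem _⟩
      mul_mem' := by
        rintro _ _ ⟨α, β, a, h⟩ ⟨α', β', a', h'⟩
        exact ⟨_, _, a.mul a', by rw [map_mul]; exact mul_mem h h'⟩
      inv_mem' := by
        rintro _ ⟨α, β, a, h⟩
        exact ⟨_, _, a.inv, by rw [map_inv]; exact inv_mem h⟩ }
  have k0 : ∀ x ∈ N, x ∈ N0 μ ν → ∀ y ∈ HH μ ν t, ⁅x, y⁆ ∈ K := fun x hx ⟨α, β, a⟩ y hy => by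
    rcases q.mem_HH.1 hy with ⟨α', β', a'⟩ | ⟨α', β', a'⟩
    · exact ⟨_, _, ((a.mul a').mul a.inv).mul a'.inv, by rw [map_mul, m.Θ_cj, map_inv, mul_inv_cancel]; exact one_mem _⟩
    · have := a.mul ((a'.mul (q.ac_t a.inv)).mul a'.inv)
      rw [show x * (y * t * (t * x⁻¹ * t) * (y * t)⁻¹) = ⁅x, y⁆ by simp [commutatorElement_def, mul_assoc, q.tt]] at this
      exact ⟨_, _, this, x, hx, α, β, a, by rw [map_mul, m.Θ_cj, map_inv]⟩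
  have an := a.mul (q.ac_t a.inv)
  rw [show r * t * (t * (r * t)⁻¹ * t) = ⁅r, t⁆ by simp [commutatorElement_def, mul_assoc, q.tt, s.it]] at an
  have nH : ⁅r, t⁆ ∈ HH μ ν t := Au.cm_mem rH tH
  have nN : ⁅r, t⁆ ∈ N := by simpa only [commutatorElement_def, mul_assoc] using mul_mem rN (s.cjN (inv_mem rN) t)
  refine trd (K := K) s.t2 (le_normalizer_of_normal (mem_top t)) tH nN nH
    (by simp [commutatorElement_def, mul_assoc, q.tt, s.it, s.t2]) (commutator_le.2 fun x hx y hy => ?_) (s.pN.ge nN)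
    ?_ (fun k g _ h => ?_)
    fun x hx ⟨α, β, a'⟩ => ⟨_, _, (q.ac_t a').mul a'.inv, _, inv_mem hx.2, _, _, a'.inv, by
      rw [map_mul, map_inv, map_inv, inv_inv, m.comm]⟩
  · by_cases c : x ∈ N0 μ ν
    · exact k0 x hx.2 c y hy.1
    by_cases c' : y ∈ N0 μ ν
    · exact commutatorElement_inv y x ▸ inv_mem (k0 y hy.2 c' x hx.1)
    have := k0 _ (mul_mem hx.2 (inv_mem hy.2)) (q.mul_sw hx.1 (inv_mem hy.1) c (mt inv_mem_iff.1 c')) y hy.1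
    rwa [show ⁅x * y⁻¹, y⁆ = ⁅x, y⁆ by simp [commutatorElement_def, mul_assoc]] at this
  · rintro ⟨α, β, a', x, hx, α', β', a'', e⟩
    refine s.dl' a (by rwa [mul_assoc, s.t2, mul_one]) a'' hx ?_
    rw [← e, ← (q.uniq m.toBM an a').1, map_mul, map_inv]
  · have e : ⁅r, t⁆ = (t * (r * t * r⁻¹))⁻¹ := by simp [commutatorElement_def, mul_assoc, s.it]
    have k₁ := fun j : ℤ => Inv.zpow_conj_left s.t2 (cj2 s.t2 r) j
    have k' := fun j : ℤ => Inv.zpow_conj_left (cj2 s.t2 r) s.t2 j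
    obtain ⟨c, hc, e'⟩ : ∃ c ∈ HH μ ν t, ⁅r, t⁆ ^ k * t = c * t * c⁻¹ := by
      rcases Int.even_or_odd' k with ⟨j, rfl | rfl⟩
      · refine ⟨⁅r, t⁆ ^ j, zpow_mem nH j, ?_⟩
        rw [e, inv_zpow', inv_zpow', k₁, mul_neg]
      · refine ⟨⁅r, t⁆ ^ j * r, mul_mem (zpow_mem nH j) rH, ?_⟩
        rw [← conj_conj, commutatorElement_def, s.it, k', zpow_add_one, mul_assoc, mul_assoc _ t t, s.t2, mul_one]
    have := s.sw (g⁻¹ * c) (by simpa only [e', mul_inv_rev, inv_inv, mul_assoc] using h)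
    rwa [mul_mem_cancel_right hc, inv_mem_iff] at this

/-- `e` acts as `α₁`, `α₂`, conjugate under `R` by the swap `y`, so `α₂ = conj l * α₁ * (conj l)⁻¹` (`NF2`, `l ↦ j u`).  `e' = (ν l)⁻¹ e (ν l)` acts as
`(α₁, α₁)`, so `ρ = e' t` has `ρ²` of type `Ac _ 1 1`, of odd order `o` (`cm_odd`); `ρ ^ o` is central in `⟨e', t⟩` and
`e' ρ ^ o = ρ ^ (1 - o) t` is conjugate to `t` by a power of `ρ ∈ HH`, and commutes with `e'`. -/
theorem pt_of {e y : G} (he : e ∈ T) (e2 : e * e = 1) (ht : Ty m μ ν e ι ι) (ι1 : ι ≠ 1) (hy : y ∈ T) (y0 : y ∉ N0 μ ν)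
    (hc : e * y = y * e) : ∃ h, Pt m μ ν t (h * e * h⁻¹) ι := by
  have q := s.sq
  obtain ⟨u, u', ae⟩ := ht
  obtain ⟨θ, η, v, v', ay⟩ := s.ty (mul_mem hy s.tT) ((q.mem_HH.1 (s.T_HH hy)).resolve_left y0)
  obtain ⟨a2, -⟩ := q.ac_sq m.toBM ae e2
  have ι2 : ι * ι = 1 := by rw [← m.Θ_spec (m.j u) ι, ← map_mul, a2, map_one]
  have a1 := (ay.mul (q.ac_t ae)).mul ay.inv
  rw [show y * t * (t * e * t) * (y * t)⁻¹ = e by simp [mul_assoc, q.tt, ← mul_assoc y, ← hc]] at a1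
  obtain ⟨w, hw⟩ := m.NF2 _ ι η ι2 ι1 a2
  have a3 := ((q.ac_μν 1 (m.j v' * w)).inv.mul ae).mul (q.ac_μν 1 (m.j v' * w))
  rw [(q.uniq m.toBM ae a1).2, ← conj_conj, hw] at a3
  replace a3 : Ac μ ν ((μ 1 * ν (m.j v' * w))⁻¹ * e * (μ 1 * ν (m.j v' * w))⁻¹⁻¹) (MulAut.conj (m.j u) * m.fl ι)
      (MulAut.conj (m.j u) * m.fl ι) := by simpa [mul_assoc] using a3
  have e2' := cj2 e2 (μ 1 * ν (m.j v' * w))⁻¹
  generalize (μ 1 * ν (m.j v' * w))⁻¹ = c at a3 e2'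
  have a4 : Ac μ ν ((c * e * c⁻¹ * t) ^ 2) 1 1 := by simpa only [a2, _root_.sq, mul_assoc] using a3.mul (q.ac_t a3)
  have a5 : ∀ k, Ac μ ν (((c * e * c⁻¹ * t) ^ 2) ^ k) 1 1 := fun k => by simpa only [one_pow] using a4.pow k
  obtain ⟨k, hk⟩ : Odd (orderOf ((c * e * c⁻¹ * t) ^ 2)) := Nat.not_even_iff_odd.1 fun ⟨k, hk⟩ => by
    have := orderOf_dvd_of_pow_eq_one (q.cm_odd m.toBM (n := 1) (a5 k)
      (by rw [pow_one, ← pow_mul, mul_two, ← hk, pow_orderOf_eq_one]))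
    have := orderOf_pos ((c * e * c⁻¹ * t) ^ 2)
    have := Nat.le_of_dvd (by omega) ‹orderOf _ ∣ k›
    omega
  have o := pow_orderOf_eq_one ((c * e * c⁻¹ * t) ^ 2)
  rw [hk] at o
  have e3 := Inv.zpow_conj_left e2' s.t2 k
  rw [zpow_mul, zpow_natCast, zpow_natCast, zpow_ofNat] at e3
  refine ⟨(c * e * c⁻¹ * t) ^ k * c, ?_⟩
  rw [← conj_conj]
  refine ⟨cj2 e2' _, ?_, ⟨_, _, e3 ▸ (a5 k).mul a3, ?_, ?_⟩, ι2, ι1⟩
  · rw [e3]
    generalize c * e * c⁻¹ = f at e2' o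
    have i : ∀ n : ℕ, t * (f * t) ^ n * t = ((f * t) ^ n)⁻¹ := fun n => by
      rw [← inv_pow, mul_inv_rev, s.it, inv_eq_of_mul_eq_one_left e2']
      nth_rw 3 [← s.it]
      rw [← conj_pow, mul_assoc t, mul_inv_cancel_right]
    rw [← pow_mul] at o ⊢
    calc _ = (f * t) ^ (2 * k + 1) := by rw [pow_succ, mul_assoc]
      _ = ((f * t) ^ (2 * k + 1))⁻¹ := eq_inv_of_mul_eq_one_left (by rw [← pow_add, ← two_mul, o])
      _ = _ := by rw [← i, pow_succ]; simp [mul_assoc, s.t2]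
  all_goals rw [one_mul, m.Θ_spec]

/-- An elementary abelian subgroup of `S'` centralizing `y`. -/
theorem card_bb {y : G} {i : ℕ} (ht : Ty m μ ν y θ η) (h1 : orderOf θ = 2 ^ (i + 1)) (h2 : orderOf η = 2 ^ (i + 1))
    (yo : y ^ 2 ^ (i + 1) = 1) {E : Subgroup G} (hE : El E) (h : ∀ x ∈ E, y * x = x * y) :
    Nat.card ↥(E ⊓ SS m μ ν) ≤ m.bb i ^ 2 := by
  have k : ∀ {μ ν : J →* G} {θ η} (s : SN m ψ t μ ν T Γ N), Ty m μ ν y θ η → orderOf η = 2 ^ (i + 1) → ∀ X ≤ E,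
      Nat.card ((X.comap (s.sq.i m)).map (.snd _ _)) ≤ m.bb i := fun s ⟨a, d, e⟩ o X hX => by
    rw [← card_map_of_injective m.em.inj]
    refine m.up _ i ((congrArg _ (m.Θ_spec (m.j d) _)).trans o) (s.sq.ac_pow m.toBM e yo).2 _
      (El.map (El.map (fun x hx => s.sq.i_inj m (by rw [map_mul, hE _ (hX hx), map_one])) _) _) ?_
    rintro _ ⟨_, ⟨x, hx, rfl⟩, rfl⟩
    exact (m.R_j _ _ _).trans (congrArg _ (s.sq.fix_pr m e (h _ (hX hx))).2)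
  have f1 := (s.card_pr (P := E)).trans (Nat.mul_le_mul_right _ (k s ht h2 _ le_rfl))
  have f2 := (s.symm.card_pr (P := E ⊓ (μ.comp m.j).range)).trans (Nat.mul_le_mul_right _ (k s.symm ht.symm h1 _ inf_le_left))
  rw [inf_assoc E _ (ν.comp m.j).range, s.sq.U12 m, inf_bot_eq, card_bot, mul_one,
    inf_eq_left.2 (show E ⊓ _ ≤ SS m ν μ from inf_le_right.trans le_sup_right)] at f2
  exact f1.trans (_root_.sq (m.bb i) ▸ Nat.mul_le_mul_left _ f2)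

/-- `y* ∈ T` of type `(c, c⁻¹)`, `orderOf c = 2 ^ (i + 1) ≥ 4`, `E ≤ C_T(y*)` elementary abelian.  `E ≤ N0` (a swap in `E` gives `c = c⁻¹`).
`X ≤ Z` from `zc`; `μ j X` centralizes `E` (types of `E` have square `1`, `ιZ`) and `y*`; `|E ⊔ μ j X| ≤ 4 (bb i)²` (`card_four`, `fix_pr`, `up`). -/
theorem meet {y : G} {c : A} {i : ℕ} (hy : y ∈ T) (ht : Ty m μ ν y c c⁻¹) (hc : orderOf c = 2 ^ (i + 1)) (hi : 1 ≤ i)
    (yo : y ^ 2 ^ (i + 1) = 1) (hA : 2 ^ (i + 2) ∣ Nat.card A) {E : Subgroup G} (hE : El E) (hT : E ≤ T) (h : ∀ x ∈ E, x * y = y * x)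
    (hb : 2 * m.bb i ^ 2 ≤ Nat.card E) : ∃ z ∈ center U, z ≠ 1 ∧ μ (m.j z) ∈ E := by
  have q := s.sq
  by_contra! c0
  have E0 : E ≤ N0 μ ν := fun x hx => by_contra fun c1 => by
    obtain ⟨α, β, a⟩ := (q.mem_HH.1 (s.T_HH (hT hx))).resolve_left c1
    obtain ⟨α', β', a'⟩ := ht.N0
    have := (a.mul (q.ac_t a')).mul a.inv
    rw [show x * t * (t * y * t) * (x * t)⁻¹ = y by simp [mul_assoc, q.tt, ← mul_assoc x, h x hx]] at this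
    have e := (q.ty_Θ m ht this).1.symm.trans ((m.Θ_cj _ _).trans (q.ty_Θ m ht a').2)
    have := orderOf_dvd_of_pow_eq_one (show c ^ 2 ^ 1 = 1 by rw [pow_one, _root_.sq, mul_eq_one_iff_eq_inv, ← e])
    rw [hc, Nat.pow_dvd_pow_iff_le_right one_lt_two] at this
    omega
  obtain ⟨X, XZ, X4, hX⟩ := m.zc c (fun e => by
    rw [e, orderOf_one, eq_comm, Nat.pow_eq_one] at hc; omega) (by rwa [hc, ← pow_succ'])
  have iμ : Function.Injective (μ.comp m.j) := fun a b e =>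
    congrArg Prod.fst (q.i_inj m (a₁ := (a, 1)) (a₂ := (b, 1)) (congrArg (· * ν (m.j 1)) e))
  have fx : ∀ {g θ η}, Ty m μ ν g θ η → ∀ z ∈ center U, m.fU θ z = z → g * μ (m.j z) = μ (m.j z) * g :=
    fun ⟨a, _, e⟩ z hz h => cjf.1 ((e.1 _).trans (by rw [m.R_j, h, cjf.2 (mem_center_iff.1 hz a)]))
  have cE : E ≤ 𝐂(X.map (μ.comp m.j)) := fun x hx => mem_cent.2 (by
    rintro _ ⟨z, hz, rfl⟩
    obtain ⟨θ, η, a, a', e⟩ := s.ty (hT hx) (E0 hx)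
    exact (fx ⟨a, a', e⟩ z (XZ hz) (m.ιZ θ (by
      rw [← m.Θ_spec (m.j a) θ, ← map_mul, (q.ac_sq m.toBM e (hE x hx)).1, map_one]) z (XZ hz))).symm)
  have XS : X.map (μ.comp m.j) ≤ SS m μ ν := (map_le_range _ _).trans le_sup_left
  have mE := fun x => mem_sup_right_norm (x := x) (cE.trans (cent_le_norm _))
  have eE : El (E ⊔ X.map (μ.comp m.j)) := fun x hx => by
    obtain ⟨a, ha, b, hb, rfl⟩ := (mE x).1 hx
    exact Inv.mul_self_mul_of_comm (hE a ha) (El.map (fun z hz => m.elZ z (XZ hz)) _ b hb) (mem_cent.1 (cE ha) b hb).symm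
  have n1 := s.four (P := E ⊔ X.map (μ.comp m.j)) fun x hx => ⟨sup_le hT (XS.trans s.SS_T) hx,
    s.I4_sq (sup_le E0 (XS.trans s.SS_N0) hx) (eE x hx)⟩
  have n2 := s.card_bb ht hc (by rwa [orderOf_inv]) yo eE fun x hx => (mc.1 ((sup_le (fun x hx => mc.2 (h x hx)) (by
    rintro _ ⟨z, hz, rfl⟩; exact mc.2 (fx ht z (XZ hz) (hX z hz)).symm) : E ⊔ X.map (μ.comp m.j) ≤ 𝐂[y]) hx)).symm
  rw [Core.card_sup_of_disjoint (cE.trans (cent_le_norm _)) (eq_bot_iff.2 (by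
    rintro _ ⟨h1, z, hz, rfl⟩
    rw [show z = 1 from by_contra fun z1 => c0 z (XZ hz) z1 h1, map_one]; exact one_mem _)), card_map_of_injective iμ] at n1
  nlinarith [m.b0 i, Nat.mul_le_mul hb X4]

/-- `n₀ ∈ Γ ⊓ N` of type `(c, c⁻¹)`, inverted by `t`, conjugate to the swap `y ∈ T ⊓ N`; `o = orderOf c = orderOf n₀ = 2 ^ (i + 1)` (`Γ_eq`),
`n₀ ^ 2 ^ i = φ` (`eq_ph`).  `i = 0` contradicts `alpha`.  Let `i ≥ 1`, `y t` of type `(θ₂, η₂)`, `y²` of type `(σ, σ)`, `σ = θ₂ η₂`.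
`φ₂ = y ^ 2 ^ i ∈ N0` is conjugate to `φ`, `ty_ph`: `orderOf σ = 2 ^ i`.  If `o = |A|`, then `c` generates `A`, `σ` and `θ₂ η₂⁻¹` are squares,
`θ₂ η₂⁻¹ = (c²) ^ k`, against `dl'` (`w = y t`, `x = n₀ ^ k`).  So `2 ^ (i + 2) ∣ |A|`.  `y μ x y⁻¹ = ν (β x)`, `y ν x y⁻¹ = μ (α x)`, `α β ∈ R` is the first
action of `y²`; `low` (index `i - 1`), `bsq`: `X ≤ U` elementary abelian, fixed by `α β`, `|X| ≥ (bb i)²`.  `A₀ = {μ (j x) ν (β (j x))} ≤ S' ⊓ C(y)`,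
`E = A₀ ⊔ ⟨φ₂⟩`.  A Sylow subgroup of `N(⟨n₀⟩)` contains `t`, so lies in `HH` (`two`): conjugate `E ⊔ ⟨y⟩` into `T` with `y ↦ y*` an
`HH`-conjugate of a generator of `⟨n₀⟩`.  `meet`, `Zc`: `μ z` is conjugate to some `e ∈ E`.  If `e ∉ A₀`: `pt_of`, `ty_ph` give type `(ι, ι)` for
`μ z`.  If `e = μ (j x) ν (β (j x))`: `NF1` conjugates it to `ψ (j x)`, against `ord`. -/
theorem star (p : Ph m μ ν Γ N φ ι) {n y : G} {c : A} (hn : n ∈ Γ) (nN : n ∈ N) (a : Ac μ ν n (m.fl c) (m.fl c⁻¹))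
    (nt : t * n * t = n⁻¹) (hy : y ∈ T) (y0 : y ∉ N0 μ ν) (h : IsConj n y) : False := by
  have q := s.sq
  have := m.fin
  have := m.cyc
  obtain ⟨g, rfl⟩ := isConj_iff.1 h
  obtain ⟨k₀, hk₀⟩ := s.pΓ ⟨n, hn⟩
  replace hk₀ : n ^ 2 ^ k₀ = 1 := congrArg Subtype.val hk₀
  have ak : ∀ k, Ac μ ν (n ^ k) (m.fl (c ^ k)) (m.fl (c ^ k)⁻¹) := fun k => by simpa only [← map_pow, inv_pow] using a.pow k
  have o : ∀ k, n ^ k = 1 ↔ c ^ k = 1 := fun k => ⟨fun e => m.fl_inj ((q.uniq m.toBM (ak k) (e ▸ GSt.Ac.one)).1.trans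
    (map_one _).symm), fun e => q.cm_odd m.toBM (n := k₀) (by simpa only [e, inv_one, map_one] using ak k)
      (by rw [← pow_mul, mul_comm, pow_mul, hk₀, one_pow])⟩
  obtain ⟨i, -, hi⟩ := (Nat.dvd_prime_pow Nat.prime_two).1 (orderOf_dvd_of_pow_eq_one ((o _).1 hk₀))
  obtain ⟨i, rfl⟩ := Nat.exists_eq_succ_of_ne_zero (show i ≠ 0 from fun e => y0 (by
    rw [← pow_one n, (o 1).2 (by rw [pow_one, ← orderOf_eq_one_iff, hi, e]; rfl)]; simp))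
  rw [Nat.succ_eq_add_one] at hi
  have d1 := hi ▸ pow_orderOf_eq_one c
  have d2 : c ^ 2 ^ i * c ^ 2 ^ i = 1 := by rw [← pow_add, ← two_mul, ← pow_succ', d1]
  have d3 : c ^ 2 ^ i ≠ 1 := pow_ne_one_of_lt_orderOf (by positivity) (hi ▸ Nat.pow_lt_pow_right one_lt_two (by omega))
  have w := s.eq_ph p (pow_mem hn (2 ^ i)) (ak _) d2 (by rw [← mul_inv_rev, d2, inv_one]) d3 (by rwa [Ne, inv_eq_one])
  obtain ⟨i, rfl⟩ := Nat.exists_eq_succ_of_ne_zero (show i ≠ 0 from fun e => y0 (by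
    rw [e, pow_zero, pow_one] at w
    rw [w] at hy ⊢
    exact s.alpha p (s.T_HH hy)))
  rw [Nat.succ_eq_add_one] at hi d1 w
  have yφ : (g * n * g⁻¹) ^ 2 ^ (i + 1) = g * φ * g⁻¹ := by rw [conj_pow, w]
  have yo : (g * n * g⁻¹) ^ 2 ^ (i + 1 + 1) = 1 := by rw [conj_pow, (o _).2 d1]; simp
  have yN := s.cjN nN g
  have ey : g⁻¹ * (g * n * g⁻¹) * g⁻¹⁻¹ = n := by group
  generalize g * n * g⁻¹ = y at hy y0 yφ yo yN ey
  obtain ⟨θ, η, u, u', ay⟩ := s.ty (mul_mem hy s.tT) ((q.mem_HH.1 (s.T_HH hy)).resolve_left y0)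
  have a2 := ay.mul (q.ac_t ay)
  rw [show y * t * (t * (y * t) * t) = y ^ 2 by simp [mul_assoc, q.tt, s.t2, _root_.sq], ← m.R_mul] at a2
  have a3 := a2.pow (2 ^ i)
  rw [← pow_mul, ← pow_succ', yφ] at a3
  obtain ⟨e1, e2⟩ := s.ty_ph (s.pt p) a3
  have e3 := e1
  rw [map_pow, m.Θ_spec] at e3
  have σ1 : (θ * η) ^ 2 ^ (i + 1) = 1 := by rw [pow_succ, pow_mul, e3, _root_.sq, p.ι2]
  have σo := orderOf_eq_prime_pow (e3 ▸ p.ι1) σ1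
  have hA : 2 ^ (i + 1 + 2) ∣ Nat.card A := by
    obtain ⟨k, hk⟩ := IsPGroup.iff_card.1 m.p2
    have h1 := orderOf_dvd_natCard c
    rw [hk] at h1 ⊢
    rw [hi, Nat.pow_dvd_pow_iff_le_right one_lt_two] at h1
    refine pow_dvd_pow 2 (lt_of_le_of_ne h1 fun e => ?_)
    have h2 : zpowers c = ⊤ := eq_top_of_le_card _ (by rw [Nat.card_zpowers, hi, hk, e])
    obtain ⟨v, rfl⟩ := mem_powers_iff_mem_zpowers.2 (h2.ge (mem_top θ))
    obtain ⟨v', h3⟩ := mem_powers_iff_mem_zpowers.2 (h2.ge (mem_top η⁻¹))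
    obtain rfl : η = (c ^ v')⁻¹ := inv_eq_iff_eq_inv.1 h3.symm
    rw [(Commute.pow_pow_self c v v').inv_right.mul_pow, inv_pow, mul_inv_eq_one, ← pow_mul, ← pow_mul, pow_eq_pow_iff_modEq, hi,
      pow_succ'] at σ1
    obtain ⟨k, hk⟩ : 2 ∣ v + v' := by
      have := Nat.ModEq.mul_right_cancel' (by positivity) σ1
      unfold Nat.ModEq at this
      omega
    refine s.dl' ay (by rwa [mul_assoc, s.t2, mul_one]) (ak k) (pow_mem nN k) ?_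
    rw [m.Θ_spec, m.Θ_spec, m.Θ_fl, m.Θ_fl, inv_inv, inv_inv, ← pow_add, ← pow_add, hk, two_mul]
  obtain ⟨X, eX, fX, nX⟩ := m.low _ _ i σo (q.ac_pow m.toBM a2 (by rw [← pow_mul, ← pow_succ', yo])).1
  rw [m.bsq i ((pow_dvd_pow 2 (by omega)).trans hA)] at nX
  let b : U →* G := (q.pr.comp ((MonoidHom.id J).prod (MulAut.conj (m.j u') * m.fl η).toMonoidHom)).comp m.j
  have hb : ∀ x, b x = μ (m.j x) * ν ((MulAut.conj (m.j u') * m.fl η) (m.j x)) := fun _ => rfl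
  have bS : ∀ x, b x ∈ SS m μ ν := fun x => (q.mem_SS m).2 ⟨_, _, by rw [hb, m.R_j]⟩
  have bi : Function.Injective b := fun x x' e => congrArg Prod.fst (q.i_inj m (a₁ := (x, _)) (a₂ := (x', _)) (by
    rwa [hb, hb, m.R_j, m.R_j] at e))
  have cy : ∀ x ∈ X.map b, x * y = y * x := by
    rintro _ ⟨x, hx, rfl⟩
    rw [eq_comm, ← mul_inv_eq_iff_eq_mul, hb, ← conj_mul, (q.swap ay _).1, (q.swap ay _).2, ← MulAut.mul_apply, ← m.R_mul,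
      m.R_j _ _ (θ * η), fX x hx, s.comm]
  have fT : g * φ * g⁻¹ ∈ T := yφ ▸ pow_mem hy _
  obtain ⟨θ', η', tf⟩ := s.ty fT ⟨_, _, a3⟩
  rw [← (q.ty_Θ m tf a3).1, ← (q.ty_Θ m tf a3).2, e1, e2] at tf
  have f2 := cj2 p.sq g
  have cf : ∀ x ∈ X.map b, x * (g * φ * g⁻¹) = g * φ * g⁻¹ * x := fun x hx => yφ ▸ (Commute.pow_right (cy x hx) _).eq
  have XS : X.map b ≤ SS m μ ν := by rintro _ ⟨x, -, rfl⟩; exact bS x
  have eE := (eX.map b).sup f2 cf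
  have nE := GSt.two_mul_le (left_lt_sup.2 fun e : zpowers (g * φ * g⁻¹) ≤ X.map b =>
    s.not_SS tf p.ι1 (XS (e (mem_zpowers _))))
  rw [card_map_of_injective bi] at nE
  have EP : X.map b ⊔ zpowers (g * φ * g⁻¹) ≤ T ⊓ 𝐂[y] := sup_le (fun x hx => ⟨s.SS_T (XS hx), mc.2 (cy x hx)⟩)
    (zpowers_le.2 ⟨fT, yφ ▸ pow_mem (self_mem_cent1 y) _⟩)
  obtain ⟨R, hR, h1⟩ := Syl.exists_ge (M := 𝐍(zpowers n)) (Inv.isPGroup_zpowers_of_mul_self s.t2) (zpowers_le.2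
    (mem_normalizer_fintype (by
      rintro _ ⟨k, rfl⟩
      rw [← conj_zpow, s.it, nt]
      exact zpow_mem (inv_mem (mem_zpowers n)) k)))
  have l : g⁻¹ ⋆ (T ⊓ 𝐂[y]) ≤ 𝐍(zpowers n) := Transfer.conj_le_iff.2 fun x hx =>
    cent_le_norm _ (cent_zpowers n ▸ mc.2 (ey ▸ cjc (mc.1 hx.2) g⁻¹))
  obtain ⟨c₁, hc₁, h2⟩ := hR.exists_conj_le ((pgroup_conj _).2 (pgroup_of_le s.syl.pgroup inf_le_left)) l
  obtain ⟨c₂, hc₂, h3⟩ := Syl.exists_conj_le (s.syl.of_le s.T_HH le_top) hR.pgroup (s.two hR.pgroup (h1 (mem_zpowers t)))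
  have h4 : ∀ x ∈ T ⊓ 𝐂[y], c₂ * c₁ * g⁻¹ * x * (c₂ * c₁ * g⁻¹)⁻¹ ∈ T := fun x hx => by
    rw [← conj_conj, ← conj_conj]
    exact Transfer.conj_le_iff.1 h3 _ (Transfer.conj_le_iff.1 h2 _ ⟨x, hx, rfl⟩)
  obtain ⟨v, hv⟩ := mem_powers_iff_mem_zpowers.2 (conj_mem_of_norm hc₁ (mem_zpowers n))
  have vo : orderOf (c ^ v) = 2 ^ (i + 1 + 1) := by
    rw [← hi]
    refine orderOf_eq_orderOf_iff.2 fun k => ?_
    rw [← pow_mul, ← o, pow_mul, show n ^ v = _ from hv, conj_pow, conj_eq_one_iff, o]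
  have yT := h4 y ⟨hy, self_mem_cent1 y⟩
  obtain ⟨d, td, hd⟩ : ∃ d, Ty m μ ν (c₂ * c₁ * g⁻¹ * y * (c₂ * c₁ * g⁻¹)⁻¹) d d⁻¹ ∧ orderOf d = 2 ^ (i + 1 + 1) := by
    have e : c₂ * c₁ * g⁻¹ * y * (c₂ * c₁ * g⁻¹)⁻¹ = c₂ * n ^ v * c₂⁻¹ := by
      rw [← conj_conj, ← conj_conj, ey, show n ^ v = _ from hv]
    rw [e] at yT ⊢
    rcases q.mem_HH.1 hc₂ with ⟨α, β, a'⟩ | ⟨α, β, a'⟩
    · have a'' := (a'.mul (ak v)).mul a'.inv
      obtain ⟨θ, η, h⟩ := s.ty yT ⟨_, _, a''⟩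
      rw [← (q.ty_Θ m h a'').1, ← (q.ty_Θ m h a'').2, m.Θ_cj, m.Θ_cj, m.Θ_fl, m.Θ_fl] at h
      exact ⟨_, h, vo⟩
    · have a'' := (a'.mul (q.ac_t (ak v))).mul a'.inv
      rw [show c₂ * t * (t * n ^ v * t) * (c₂ * t)⁻¹ = c₂ * n ^ v * c₂⁻¹ by simp [mul_assoc, q.tt]] at a''
      obtain ⟨θ, η, h⟩ := s.ty yT ⟨_, _, a''⟩
      rw [← (q.ty_Θ m h a'').1, ← (q.ty_Θ m h a'').2, m.Θ_cj, m.Θ_cj, m.Θ_fl, m.Θ_fl] at h
      exact ⟨_, by rwa [inv_inv], by rwa [orderOf_inv]⟩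
  generalize c₂ * c₁ * g⁻¹ = k at h4 yT td
  obtain ⟨z, hz, z1, e, he, ez⟩ := s.meet yT td hd (by omega) (by rw [conj_pow, yo]; simp) hA
    (eE.map (MulAut.conj k).toMonoidHom) (by rintro _ ⟨x, hx, rfl⟩; exact h4 x (EP hx))
    (by rintro _ ⟨x, hx, rfl⟩; exact cjc (mc.1 (EP hx).2) k)
    (by rw [card_map_of_injective (MulAut.conj k).injective]; exact (Nat.mul_le_mul_left 2 nX).trans nE)
  obtain ⟨l, hl⟩ := isConj_iff.1 (m.Zc z hz z1).symm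
  have ez : e = k⁻¹ * μ l * μ (m.j m.z) * (k⁻¹ * μ l)⁻¹ := by
    rw [← conj_conj, ← map_inv, ← map_mul, ← map_mul, hl, ← ez]; simp [mul_assoc]
  obtain ⟨x, hx, f, hf, ex⟩ := (mem_sup_left_norm (norm_of_cent (zp_cent.2 fun x hx => mem_cent1.2 (cf x hx)))).1 he
  rcases GSt.SN.zp2 f2 hf with rfl | rfl
  · obtain ⟨x, hx, rfl⟩ := hx
    obtain ⟨l', hl'⟩ := isConj_iff.1 (m.NF1 (MulAut.conj (m.j u') * m.fl η) (m.j x) (by rw [← map_mul, eX x hx, map_one]))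
    refine s.ord ((show 4 ∣ 2 ^ (i + 1 + 2) from pow_dvd_pow 2 (by omega : 2 ≤ _)).trans hA) ((ν l')⁻¹ * (k⁻¹ * μ l)) (m.j x) ?_
    rw [← conj_conj, ← ez, ← ex, mul_one, hb, ← hl', s.diag, ← map_inv, ← mul_assoc, ← s.comm]
    simp [mul_assoc]
  · have te := SQ.ty_mul m ((q.ty_one s.toSY (s.SS_T (XS hx))).2 (XS hx)) tf
    rw [ex, one_mul] at te
    obtain ⟨h, p'⟩ := s.pt_of (EP he).1 (eE e he) te p.ι1 hy y0 (mc.1 (EP he).2)
    have := s.ty_ph p' (g := (h * (k⁻¹ * μ l))⁻¹) (α := MulAut.conj (m.j m.z)) (β := MulAut.conj 1) (by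
      rw [ez, conj_conj h, conj_conj, inv_mul_cancel]; simpa using q.ac_μν (m.j m.z) 1)
    exact p.ι1 (this.1.symm.trans (m.Θ_conj _))

/-- `exists_ph`, `case1`: a swap `u r ∈ T ⊓ N`, `r ∈ Γ ⊓ N`; `tr2`; conjugate the swap into `T` by `HH`; `star`. -/
theorem fin : Syl 2 (SS m μ ν) N := by
  have := s.nN
  have q := s.sq
  have hS := s.syl.inf le_top (le_normalizer_of_normal (H := N))
  by_cases c : T ⊓ N ≤ SS m μ ν
  · exact le_antisymm c (le_inf s.SS_T s.SS_N) ▸ hS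
  obtain ⟨φ, ι, p⟩ := s.exists_ph c
  exfalso
  obtain ⟨x, hx, x0⟩ := SetLike.not_le_iff_exists.1 (s.case1 p)
  obtain ⟨u, hu, r, hr, rfl⟩ := (s.mem x).1 hx.1
  have rN := (mul_mem_cancel_left (s.SS_N hu)).1 hx.2
  obtain ⟨θ, η, a⟩ := s.std1 hr fun c => x0 (mul_mem (s.SS_N0 hu) c)
  obtain ⟨g, -, l, h1, h2⟩ := s.tr2 hr rN a
  have an := a.mul (q.ac_t a.inv)
  rw [show r * t * (t * (r * t)⁻¹ * t) = ⁅r, t⁆ by simp [commutatorElement_def, mul_assoc, q.tt, s.it]] at an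
  have nΓ : ⁅r, t⁆ ^ l ∈ Γ := pow_mem (Au.cm_mem hr s.tΓ) l
  obtain ⟨k, hk⟩ := s.pΓ ⟨_, nΓ⟩
  obtain ⟨h, hh, e⟩ := Syl.exists_conj_le (s.syl.of_le s.T_HH le_top) (Inv.isPGroup_zpowers (x := g⁻¹ * ⁅r, t⁆ ^ l * g) (k := k) (by
    nth_rw 2 [← inv_inv g]
    rw [conj_pow, show (⁅r, t⁆ ^ l) ^ 2 ^ k = 1 from congrArg Subtype.val hk]; simp)) (zpowers_le.2 h1)
  refine s.star p (c := (θ * η⁻¹) ^ l) nΓ (pow_mem (by
    simpa only [commutatorElement_def, mul_assoc] using mul_mem rN (s.cjN (inv_mem rN) t)) l) ?_ ?_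
    (Transfer.conj_le_iff.1 e _ (mem_zpowers _)) (fun c => h2 (by simpa [mul_assoc] using conj_mem_of_norm' (s.HH_N0 hh) c))
    (isConj_iff.2 ⟨h * g⁻¹, by group⟩)
  · simpa only [← inv_pow, mul_inv_rev, inv_inv, map_pow, map_mul, map_inv] using an.pow l
  · nth_rw 3 [← s.it]
    rw [← conj_pow, ← inv_pow]
    congr 1
    simp [commutatorElement_def, mul_assoc, q.tt, s.it, s.t2]
end SN

theorem SM.up' (m : SM J U A) : UP U := 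
  ⟨m.pU, fun h => m.z1 (mem_bot.1 ((commutator_le (H₃ := ⊥)).2 (fun x _ y _ => commutatorElement_eq_one_iff_mul_comm.2 (h x y))
    (m.ZU m.zZ))), m.ZU, m.cab, m.CP⟩

/-- `SQ.sp`, `exists_sy`, `SN.fin`, `PD.false` in `N` (compare the end of `GSt.core`). -/
theorem split_false (m : SM J U A) (s : St ψ t) (d : SD ψ t μ ν (m.j m.z)) [N.Normal] [IsSimpleGroup N] (hN : μ.range ≤ N) :
    False := by
  have q : SQ ψ t μ ν := ⟨s, d.toSD0⟩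
  have sp := q.sp m d.can
  obtain ⟨δ, T, Γ, sy⟩ := sp.exists_sy m
  have a2 : ν.range ≤ N := by
    rintro _ ⟨x, rfl⟩
    rw [← d.tμ]
    simpa [s.it] using ‹N.Normal›.conj_mem _ (hN ⟨x, rfl⟩) t
  have hc : ⁅N, N⁆ = N := by
    rcases (inferInstance : (commutator N).Normal).eq_bot_or_eq_top with e | e
    · refine absurd (fun x y => mem_center_iff.1 (m.center_of fun w => d.kerμ _ ?_) x) m.not_comm
      have : ⁅(⟨_, hN ⟨y, rfl⟩⟩ : N), (⟨_, hN ⟨w, rfl⟩⟩ : N)⁆ ∈ commutator N := commutator_mem_commutator trivial trivial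
      rw [e, mem_bot, Subtype.ext_iff] at this
      rw [map_commutatorElement]
      exact this
    · rw [← map_subtype_commutator, e, ← MonoidHom.range_eq_map, range_subtype]
  have b1 : ∀ x, μ.comp δ.toMonoidHom x ∈ N := fun x => hN ⟨_, rfl⟩
  have b2 : ∀ x, ν.comp δ.toMonoidHom x ∈ N := fun x => a2 ⟨_, rfl⟩
  have sn := SN.mk (sp.comp δ) sy ‹_› hc (by rintro _ ⟨x, rfl⟩; exact b1 x) (by rintro _ ⟨x, rfl⟩; exact b2 x)
  have hs := sn.fin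
  rw [← sn.sq.i_range] at hs
  have pf : ∀ χ : J →* N, ⁅χ.range, χ.range⁆ = χ.range := fun χ => by
    rw [MonoidHom.range_eq_map, ← map_commutator, ← _root_.commutator_def, m.perf]
  refine PD.false (i := (sn.sq.i m).codRestrict N fun x => hs.le ⟨x, rfl⟩) (M₁ := (MonoidHom.codRestrict _ N b1).range)
    (M₂ := (MonoidHom.codRestrict _ N b2).range) m.up' ⟨⟨fun a b e => sn.sq.i_inj m (congrArg Subtype.val e),
      (Hall.map_iff N.subtype_injective).1 ?_⟩, pf _, pf _, fun a => ⟨m.j a, Subtype.ext (by simp [SQ.i_apply])⟩,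
      fun a => ⟨m.j a, Subtype.ext (by simp [SQ.i_apply])⟩, ?_⟩
  · rw [← MonoidHom.range_eq_map, range_subtype, MonoidHom.map_range]
    exact hs
  · rintro _ ⟨x, rfl⟩ _ ⟨y, rfl⟩
    exact Subtype.ext (d.comm _ _)

end Cfsg.Lib.UF
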