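import Cfsg.Agent.Lib.UF.PD
import Cfsg.Agent.Lib.L4S.Id

/-!
# S1778 (U₅): the split case `R = K × K`, and the passage from `N(O) / O` to `G`.  See `docs/UF.md`.
-/

set_option autoImplicit false

namespace Cfsg.Lib.UF

open Module Subgroup G2S Cfsg.Lib.BG Cfsg.Lib.GW GSt.SLa Cfsg.Lib.Unitary
open scoped commutatorElement Cfsg.Lib.Transfer

section gen
variable {J A G H : Type*} [Group J] [Finite J] [Group A] [Group G] [Finite G] [Group H] {ψ μ ν : J →* G} {t : G} {O N : Subgroup G}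

/-- `⁅μ a, ψ b⁆ = μ ⁅a, b⁆`. -/
theorem SD0.le (d : SD0 ψ t μ ν) (b : BM J A) [N.Normal] (hN : ψ.range ≤ N) : μ.range ≤ N := by
  rw [MonoidHom.range_eq_map, map_le_iff_le_comap, ← b.perf]
  refine commutator_le.2 fun x _ y _ => ?_
  have : μ ⁅x, y⁆ = μ x * ψ y * (μ x)⁻¹ * (ψ y)⁻¹ := by
    rw [d.diag, mul_inv_rev, ← mul_assoc (μ x), mul_assoc _ (ν y), ← map_inv μ x, ← d.comm]; simp [commutatorElement_def, mul_assoc]
  exact mem_comap.2 (this ▸ N.mul_mem (‹N.Normal›.conj_mem _ (hN ⟨y, rfl⟩) _) (N.inv_mem (hN ⟨y, rfl⟩)))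

/-- A perfect group: homomorphisms into `C(O)` that agree modulo `O` are equal (`(f x)⁻¹ f' x ∈ O` commutes with both images). -/
theorem ext_O (pf : commutator H = ⊤) {f f' : H →* G} (h : ∀ x, f x ∈ 𝐂(O)) (h' : ∀ x, f' x ∈ 𝐂(O)) (k : ∀ x, (f x)⁻¹ * f' x ∈ O) :
    f = f' := by
  have a : ∀ x y, Commute ((f x)⁻¹ * f' x) (f y) := fun x y => h y _ (k x)
  let c : H →* G := MonoidHom.mk' (fun x => (f x)⁻¹ * f' x) fun x y => by
    rw [map_mul, map_mul, mul_inv_rev, ← mul_assoc _ (f y)⁻¹, (a x y).inv_right.eq]; group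
  have : commutator H ≤ c.ker := commutator_le.2 fun x _ y _ => by
    rw [MonoidHom.mem_ker, map_commutatorElement, commutatorElement_eq_one_iff_commute]
    exact (a x y).inv_right.mul_right (h' y _ (k x))
  exact MonoidHom.ext fun x => inv_mul_eq_one.1 (this (pf ▸ mem_top x))

/-- `D = C(O) ≤ N(O)` is normal in `N(O)`, its image in `N(O) / O` is normal and contains `ψ J`; `D → N(O) / O` has the central kernel
`Z(O)`; `L4S.lift_one`. -/
theorem lift_O (mu : HasCyclicSchurMultiplier H 1) (pf : commutator H = ⊤) (φ : H →* 𝐍(O) ⧸ O.subgroupOf 𝐍(O)) (hψ : ∀ x, ψ x ∈ 𝐍(O))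
    (hc : ∀ x, ψ x ∈ 𝐂(O)) (hN : ∀ N : Subgroup (𝐍(O) ⧸ O.subgroupOf 𝐍(O)), N.Normal →
      ((QuotientGroup.mk' (O.subgroupOf 𝐍(O))).comp (ψ.codRestrict _ hψ)).range ≤ N → φ.range ≤ N) :
    ∃ φ' : H →* 𝐍(O), (∀ x, (φ' x).1 ∈ 𝐂(O)) ∧ (QuotientGroup.mk' (O.subgroupOf 𝐍(O))).comp φ' = φ := by
  let D := (𝐂(O)).subgroupOf 𝐍(O)
  let π := QuotientGroup.mk' (O.subgroupOf 𝐍(O))
  have n : D.Normal := inferInstance
  obtain ⟨η, e⟩ := L4S.lift_one mu pf (ξ := π.comp D.subtype) (fun x hx => mem_center_iff.2 fun y =>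
    Subtype.ext (Subtype.ext (y.2 _ ((QuotientGroup.eq_one_iff (N := O.subgroupOf 𝐍(O)) x.1).1 hx)).symm)) φ fun m => by
      obtain ⟨x, hx, e⟩ := hN (D.map π) (n.map _ (QuotientGroup.mk'_surjective _)) (by rintro _ ⟨x, rfl⟩; exact ⟨_, hc x, rfl⟩) ⟨m, rfl⟩
      exact ⟨⟨x, hx⟩, e⟩
  exact ⟨D.subtype.comp η, fun x => (η x).2, e⟩

/-- `lift_O` for `μ`, `ν = t μ t`; `⁅μ x, ν y⁆ ∈ O` is central in `C(O)`, so bimultiplicative and trivial (`perf`); `ext_O`. -/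
theorem S1.lift_sd (s : S1 ψ t O) (b : BM J A) (mu : HasCyclicSchurMultiplier J 1) (hψ : ∀ x, ψ x ∈ 𝐍(O)) (ht : t ∈ 𝐍(O))
    {μ ν : J →* 𝐍(O) ⧸ O.subgroupOf 𝐍(O)} (d : SD0 ((QuotientGroup.mk' (O.subgroupOf 𝐍(O))).comp (ψ.codRestrict _ hψ))
      (QuotientGroup.mk' (O.subgroupOf 𝐍(O)) ⟨t, ht⟩) μ ν) :
    ∃ μ ν : J →* G, SD0 ψ t μ ν ∧ ∀ o ∈ O, ∀ x, o * μ x = μ x * o := by
  obtain ⟨μ₁, c, e⟩ := lift_O mu b.perf μ hψ (fun x o ho => s.Oψ o ho x) fun N _ hN => d.le b hN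
  let π := QuotientGroup.mk' (O.subgroupOf 𝐍(O))
  have π1 : ∀ {a c}, π a = π c ↔ (a⁻¹ * c).1 ∈ O := QuotientGroup.eq
  have e : ∀ x, π (μ₁ x) = μ x := DFunLike.congr_fun e
  let ν₁ := (MulAut.conj (⟨t, ht⟩ : 𝐍(O))).toMonoidHom.comp μ₁
  have e' : ∀ x, π (ν₁ x) = ν x := fun x => by
    rw [← d.tμ, ← e, ← map_mul, ← map_mul]; exact congrArg π (Subtype.ext (congrArg (t * (μ₁ x).1 * ·) s.it))
  have tO : t ∈ 𝐂(O) := s.Ot
  have c' : ∀ x, (ν₁ x).1 ∈ 𝐂(O) := fun x => mul_mem (mul_mem tO (c x)) (inv_mem tO)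
  have cm : ∀ x y, (μ₁ x).1 * ν₁ y = ν₁ y * μ₁ x := fun x y => (cjf.1 (DFunLike.congr_fun (ext_O b.perf (f := 𝐍(O).subtype.comp μ₁)
    (f' := (𝐍(O).subtype.comp (MulAut.conj (ν₁ y)).toMonoidHom).comp μ₁) c (fun x => mul_mem (mul_mem (c' y) (c x)) (inv_mem (c' y)))
    fun x => (π1 (a := μ₁ x) (c := ν₁ y * μ₁ x * (ν₁ y)⁻¹)).1 (by simp only [map_mul, map_inv, e, e', ← d.comm, mul_inv_cancel_right])) x).symm).symm
  refine ⟨𝐍(O).subtype.comp μ₁, 𝐍(O).subtype.comp ν₁, ⟨fun x k => d.kerμ x (by rw [← e, show μ₁ x = 1 from Subtype.ext k, map_one]),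
    fun x => congrArg (t * (μ₁ x).1 * ·) s.it.symm, cm, DFunLike.congr_fun (ext_O b.perf (f := ψ)
      (f' := .mk' (fun x => (μ₁ x).1 * ν₁ x) fun x y => ?_) (fun x o ho => s.Oψ o ho x) (fun x => mul_mem (c x) (c' x)) fun x =>
        (π1 (a := ⟨ψ x, hψ x⟩) (c := μ₁ x * ν₁ x)).1 (by rw [map_mul, e, e', ← d.diag]; rfl))⟩, fun o ho x => c x o ho⟩
  simp only [map_mul, coe_mul, mul_assoc]; rw [← mul_assoc (μ₁ y).1, cm, mul_assoc]
end gen

variable {F V : Type*} [Field F] [CharP F 2] [Finite F] [AddCommGroup V] [Module F V] [Finite V] {σ : F →+* F}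
  {B : V →ₛₗ[σ] V →ₗ[F] F} {G : Type*} [Group G] [Finite G] {ψ μ μ' : SUG B →* G} {t g : G} {e e' u v w : V}
  {c d x ω ν : F} {y : V → F → G} {O : Subgroup G}

/-- `MU.mult_SU`, `nonempty_sug_equiv`. -/
theorem Ok.mult (h : Ok B) : HasCyclicSchurMultiplier (SUG B) 1 := by
  obtain ⟨n, hn, hq⟩ := h.bar
  obtain ⟨e⟩ := h.herm.nonempty_sug_equiv hq rfl
  have d := h.d5
  have : 2 ∣ 2 ^ n := dvd_pow_self 2 (by omega)
  exact Schur.hasSchurMultiplier_congr_left (MU.mult_SU hq (by omega) (by omega) (by omega) (by omega) (by omega)) e.symm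

omit [Finite G] in
theorem Gd0.bar (p : Gd0 ψ t e g) (hψ : ∀ x, ψ x ∈ 𝐍(O)) (ht : t ∈ 𝐍(O)) (hg : g ∈ 𝐍(O)) :
    Gd0 ((QuotientGroup.mk' (O.subgroupOf 𝐍(O))).comp (ψ.codRestrict _ hψ)) (QuotientGroup.mk' (O.subgroupOf 𝐍(O)) ⟨t, ht⟩) e
      (QuotientGroup.mk' (O.subgroupOf 𝐍(O)) ⟨g, hg⟩) := by
  refine ⟨?_, ?_, fun x hx => (p.gQ x hx).imp fun y k => ?_⟩ <;>
    simp only [MonoidHom.comp_apply, ← map_inv, ← map_mul] <;> refine congrArg _ (Subtype.ext ?_)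
  exacts [p.gt, p.gz, k]

/-- `μ z * g` centralizes `t` and `ψ Q`: `cq`.  `g = μ z ψ (tv e c) o` has `o² = 1`; `g = μ z ψ (tv e c) t o` has `g² = ψ z o²`. -/
theorem S1.sd (s : S1 ψ t O) (h : Ok B) (h0 : e ≠ 0) (he : B e e = 0) (d : SD0 ψ t μ μ') (hO : ∀ o ∈ O, ∀ x, o * μ x = μ x * o) :
    SD ψ t μ μ' (tv B e 1) := by
  refine ⟨d, fun g g2 hc gt => ?_⟩
  obtain ⟨r, hr⟩ := odd_pow s.odd
  have o1 : ∀ o ∈ O, o * o = 1 → o = 1 := fun o p e => (pow_odd e r).symm.trans (hr o p)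
  have cm : ∀ u ∈ Stab B e, Commute (μ (tv B e 1)) (ψ u) := fun u hu => show _ * _ = _ * _ by
    rw [d.diag, ← mul_assoc, ← map_mul, ← h.stab_tv hu, map_mul, mul_assoc, d.comm, mul_assoc]
  have sq : ∀ f : SUG B →* G, ∀ c, f (tv B e c) * f (tv B e c) = 1 := fun f c => by rw [← map_mul, h.tv_sq, map_one]
  obtain ⟨c, -, o, ho, k⟩ := s.cq h h0 he (k := μ (tv B e 1) * g) (by
    calc μ (tv B e 1) * g * t = t * (t * μ (tv B e 1) * t) * ψ (tv B e 1) * g := by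
          rw [mul_assoc _ (ψ _), ← mul_assoc t, ← mul_assoc t, s.t2, one_mul, mul_assoc _ t, ← mul_assoc t, ← gt, mul_assoc _ g g, g2, mul_one,
            mul_assoc]
      _ = _ := by rw [d.tμ, d.diag, d.comm, ← mul_assoc _ (μ' _), mul_assoc t, sq, mul_one, mul_assoc])
    fun u hu => by rw [mul_assoc, hc u (h.stab_tv (Q_le hu) 1), ← mul_assoc, cm u (Q_le hu), mul_assoc]
  have cc := cm _ (Q_le (h.tv_mem_Q e c))
  have c1 : Commute o (ψ (tv B e c)) := s.Oψ o ho _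
  have c2 : Commute o (μ (tv B e 1)) := hO o ho _
  rcases k with k | k <;> replace k := eq_inv_mul_of_mul_eq k <;> rw [inv_eq_of_mul_eq_one_left (sq μ 1)] at k
  · rw [k, (cc.symm.mul_left c2).mul_mul_mul_comm, sq, one_mul, c1.mul_mul_mul_comm, sq, one_mul] at g2
    rw [k, o1 o ho g2, mul_one, d.diag]
    exact mul_mem (mem_sup_left ⟨_, rfl⟩) (mul_mem (mem_sup_left ⟨_, rfl⟩) (mem_sup_right ⟨_, rfl⟩))
  have c3 : Commute t (ψ (tv B e c)) := s.tψ _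
  have : g * g = ψ (tv B e 1) * (o * o) := by
    rw [k, d.diag (tv B e 1), ← d.tμ]
    simp only [mul_assoc]
    rw [c2.left_comm, c1.left_comm, Commute.left_comm (s.Ot o ho), ← c3.left_comm, ← cc.left_comm, ← mul_assoc (ψ _), sq, one_mul]
  have m : ψ (tv B e 1) ∈ O := eq_inv_of_mul_eq_one_left (this.symm.trans g2) ▸ inv_mem (mul_mem ho ho)
  exact absurd (s.tv_one h h0 he (map_one σ) (o1 _ m (sq ψ 1))) one_ne_zero

namespace ZD
variable (z : ZD ψ t y ω ν) (h : Ok B) (hx : x * x + x = ν) (hx' : σ x = x)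
include z h hx hx'

/-- `ε = x + ω`, `σ ε = ε + 1` are the idempotents.  `Y = y e' (c ε)`, `P a = PP (σ ε) u (a e)` has in `Pe … u` the class
`((x + 1) a e, a e)` (`pe_P`), fixed by `Y` (`pe_act`).  `Y (P a) Y⁻¹ = P a · y u (ρ a)` (`pe_same`), `ρ` is additive (`P_add`).
`Tq (l, l⁻¹)` on `(e, e', u, u')`, `N l = 1`, fixes `Y`, `y u _` and maps `P a` to `P (l² a)` (`P_smul`): `ρ = 0`. -/
theorem sp_P (p : Hy B e e') (u0 : u ≠ 0) (hu : B u u = 0) (h1 : B e u = 0) (h2 : B e' u = 0) (hc : σ c = c) (a : F) :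
    Commute (y e' (c * (x + ω))) (PP y (x + ω + 1) u (a • e)) := by
  have hω := z.hω
  have eu : ∀ a : F, B u (a • e) = 0 := fun a => by simp [h.cm h1]
  have ee : ∀ a : F, B (a • e) (a • e) = 0 := fun a => by simp [p.ee]
  have ex : ∀ a : F, ∃ r, y e' (c * (x + ω)) * PP y (x + ω + 1) u (a • e) * (y e' (c * (x + ω)))⁻¹ =
      PP y (x + ω + 1) u (a • e) * y u r := fun a => by
    have k := z.pe_P h hω u0 hu (ee a) (eu a) (r₀ := x + 1) (r₁ := 1) (by simp [hx']) (map_one σ)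
    have := z.pe_act h u0 hu p.ff (h.cm h2) (r₀ := c * x) (r₁ := c) (by simp [hc, hx']) hc k
    rw [show x + 1 + 1 * ω = x + ω + 1 by ring] at k this
    rw [← mul_add] at this
    refine z.pe_same h hω u0 hu k (by
      convert this using 1 <;> simp only [map_smul, h.fe p, smul_eq_mul] <;> match_scalars <;> grind)
  choose ρ hρ using ex
  have add : ∀ a b, ρ (a + b) = ρ a + ρ b := fun a b => z.inj h u0 hu (mul_left_cancel (a := PP y (x + ω + 1) u ((a + b) • e)) (by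
    rw [← hρ, z.P_add h hu p.ee (h.cm h1), ← conj_mul, hρ, hρ, z.add _ _ _ hu, mul_assoc, mul_assoc, ← mul_assoc (y u _),
      ← z.P_y h hu (ee b) (eu b) hu hu (eu b), mul_assoc]))
  obtain ⟨l, hl, hl'⟩ := h.n1
  have l0 : l ≠ 0 := by rintro rfl; simp at hl
  have sl : (σ l)⁻¹ = l := inv_eq_of_mul_eq_one_left hl
  obtain ⟨u', fr⟩ := h.fr_ex'' p u0 hu h1 h2
  obtain ⟨g, tg⟩ := h.tq_ex fr l0 (inv_ne_zero l0) (by simp [l0])
  obtain ⟨g1, g2, g3, -⟩ := h.tq_ap fr tg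
  have tor : ∀ a, ρ (l * (a * l)) = ρ a := fun a => by
    have := congrArg (fun k => ψ g * k * (ψ g)⁻¹) (hρ a)
    rw [← conj_mul, ← conj_mul, ← conj_mul, ← conj_inv, z.eqv _ _ _ p.ff, z.eqv _ _ _ hu, z.P_eqv h hu (ee a) (eu a), map_smul, g1, g2, g3,
      z.smul _ _ _ p.ff, z.smul _ _ _ hu, smul_smul, z.P_smul h hu (ee _) (eu _), smul_smul, map_inv₀, map_inv₀, sl, h.ss, mul_inv_cancel₀ l0, inv_mul_cancel₀ l0, one_mul,
      one_mul, hρ] at this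
    exact z.inj h u0 hu (mul_left_cancel this)
  have := add (l * (a / (1 + l * l) * l)) (a / (1 + l * l))
  rw [tor, aa, show l * (a / (1 + l * l) * l) + a / (1 + l * l) = a by have := add1_ne hl'; grind] at this
  exact cjf.1 (by rw [hρ, this, z.zero h hu, mul_one])

/-- If `B v w ≠ 0` scale to `Hy w v` (`smul`); in a frame `(w, v, u, u')`,
`y w (d σ ε) = ⁅PP (σ ε) w u, PP (σ ε) w (d u₁)⁆`, `u₁ = ω u'` (`cm`), `sp_P` (`P_symm`, `P_smul`). -/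
theorem sp_comm (hv : B v v = 0) (hw : B w w = 0) (hc : σ c = c) (hd : σ d = d) : Commute (y v (c * (x + ω))) (y w (d * (x + ω + 1))) := by
  have hω := z.hω
  by_cases k : B w v = 0
  · exact z.comm _ _ _ _ hv hw (h.cm k)
  have p : Hy B w ((B w v)⁻¹ • v) := ⟨hw, by simp [hv], by simp [k]⟩
  obtain ⟨u, u', fr⟩ := h.fr_ex' p
  have m : ∀ u (s : F), u ≠ 0 → B u u = 0 → B w u = 0 → B ((B w v)⁻¹ • v) u = 0 →
      Commute (y v (c * (x + ω))) (PP y (x + ω + 1) w (s • u)) := fun u s a b d e => by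
    rw [← h.ss s, ← z.P_smul h hw b d, z.P_symm h (by simp [hw]) b (by simp [d]), ← smul_inv_smul₀ k v, z.smul _ _ _ p.ff, ← mul_assoc]
    exact z.sp_P h hx hx' p a b d e (by rw [map_mul, h.nK, hc]) _
  have pe : ∀ u (s : F), B u u = 0 → B w u = 0 → Pe ψ t y ω w (PP y (x + ω + 1) w (s • u)) ((x + 1) • s • u) (s • u) := fun u s a b => by
    simpa only [one_mul, one_smul, add_right_comm x 1] using z.pe_P h hω p.ne hw (f := s • u) (by simp [a]) (by simp [b]) (r₀ := x + 1)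
      (r₁ := 1) (by simp [hx']) (map_one σ)
  have := z.cm _ _ _ _ _ _ _ p.ne hw (pe u 1 fr.hf.ee fr.ef) (pe u' (d * ω) fr.hf.ff fr.ef')
  have b : bf B ((1 : F) • u) ((d * ω) • u') = d := by simp [bf, fr.hf.ef, h.fe fr.hf, hd]; grind
  have s : σ (x + 1) = x + 1 := by simp [hx']
  simp only [bf_smul_left s, bf_smul_right s, b] at this
  rw [show d * (x + ω + 1) = (x + 1) * ((x + 1) * d) + ω * ((x + 1) * d + (x + 1) * d) + (ω + ν) * d by grind, ← this]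
  have a1 := m u 1 fr.hf.ne fr.hf.ee fr.ef fr.e'f
  have a2 := m u' (d * ω) (h.hy_symm fr.hf).ne fr.hf.ff fr.ef' fr.e'f'
  exact ((a1.mul_right a2).mul_right a1.inv_right).mul_right a2.inv_right

/-- `M₁ = ⟨y v (c ε)⟩`, `M₂ = t M₁ t = ⟨y v (c σ ε)⟩` commute, `ψ J ≤ M₁ M₂` (`gen_tv`).  `M₁ → M₁ M₂ / M₂` is onto with central kernel:
`L4S.lift_one` (`mult`) gives `μ : J → M₁` with `(μ x)⁻¹ ψ x ∈ M₂`.  Conjugate by `t`: `(μ x · t μ x t)⁻¹ ψ x ∈ M₁ ⊓ M₂`; `hom_ext`. -/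
theorem split : ∃ μ μ', SD0 ψ t μ μ' := by
  have hω := z.hω
  let M : F → Subgroup G := fun a => closure {g | ∃ v c, B v v = 0 ∧ σ c = c ∧ g = y v (c * a)}
  have tM : ∀ a, M a ≤ (M (σ a)).comap (MulAut.conj t).toMonoidHom := fun a => (closure_le _).2 (by
    rintro _ ⟨v, c, p, q, rfl⟩
    exact subset_closure ⟨v, c, p, q, show t * _ * t⁻¹ = _ by rw [z.it, z.ct _ _ p, map_mul, q]⟩)
  have t1 := tM (x + ω)
  have t2 := tM (x + ω + 1)
  rw [show σ (x + ω) = x + ω + 1 by rw [map_add, hx']; grind] at t1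
  rw [show σ (x + ω + 1) = x + ω by rw [map_add, map_add, hx', map_one]; grind] at t2
  have c : M (x + ω) ≤ 𝐂(M (x + ω + 1)) := (closure_le _).2 (by
    rintro _ ⟨v, c, p, q, rfl⟩
    rw [centralizer_closure]
    rintro _ ⟨w, d, p', q', rfl⟩
    exact (z.sp_comm h hx hx' p p' q q').symm)
  have gen : ∀ g, ψ g ∈ M (x + ω) ⊔ M (x + ω + 1) := fun g => mem_comap.1 ((h.gen_tv fun v c p q => mem_comap.2 (by
    rw [← z.ext v c p q, show c = c * (x + ω) + c * (x + ω + 1) by grind, z.add _ _ _ p]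
    exact mul_mem (mem_sup_left (subset_closure ⟨v, c, p, q, rfl⟩)) (mem_sup_right (subset_closure ⟨v, c, p, q, rfl⟩)))).ge (mem_top g))
  generalize M (x + ω) = M₁, M (x + ω + 1) = M₂ at t1 t2 c gen
  have n := c.trans (centralizer_le_normalizer _)
  have n' : ∀ g, ψ g ∈ 𝐍(M₂) := fun g => sup_le n le_normalizer (gen g)
  let π := QuotientGroup.mk' (M₂.subgroupOf 𝐍(M₂))
  have π1 : ∀ {a c}, π a = π c ↔ (a⁻¹ * c).1 ∈ M₂ := QuotientGroup.eq
  obtain ⟨η, e⟩ := L4S.lift_one h.mult h.perf (ξ := π.comp (inclusion n)) (fun a ha => mem_center_iff.2 fun b =>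
    Subtype.ext (c b.2 _ ((QuotientGroup.eq_one_iff (N := M₂.subgroupOf 𝐍(M₂)) (inclusion n a)).1 ha)).symm) (π.comp (ψ.codRestrict _ n')) fun g => by
      obtain ⟨a, ha, b, hb, k⟩ := (coe_mul_of_left_le_normalizer_right _ _ n).le (gen g)
      exact ⟨⟨a, ha⟩, π1.2 (show a⁻¹ * ψ g ∈ M₂ by rwa [← k, inv_mul_cancel_left])⟩
  have e : ∀ g, (ψ g)⁻¹ * η g ∈ M₂ := fun g => π1.1 (DFunLike.congr_fun e g).symm
  have cm : ∀ a b, (η a).1 * MulAut.conj t (η b) = MulAut.conj t (η b) * η a := fun a b => (c (η a).2 _ (t1 (η b).2)).symm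
  have cO : M₁ ⊔ M₂ ≤ 𝐂(M₁ ⊓ M₂) := sup_le (fun a ha o ho => c ha o ho.2) fun a ha o ho => (c ho.1 a ha).symm
  have dg : ∀ g, ψ g = η g * MulAut.conj t (η g) := DFunLike.congr_fun (ext_O h.perf (f := ψ)
    (f' := .mk' (fun g => (η g).1 * MulAut.conj t (η g)) fun a b => by
      simp only [map_mul, coe_mul, mul_assoc]; rw [← mul_assoc (η b).1, cm, mul_assoc]) (fun g => cO (gen g))
    (fun g => cO (mul_mem_sup (η g).2 (t1 (η g).2))) fun g => ⟨by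
      have := t2 (e g)
      rw [mem_comap, map_mul, map_inv, show (MulAut.conj t).toMonoidHom (ψ g) = ψ g from cjf.2 (z.tψ g)] at this
      rw [MonoidHom.mk'_apply, cm, ← mul_assoc]; exact mul_mem this (η g).2,
      by rw [MonoidHom.mk'_apply, ← mul_assoc]; exact mul_mem (e g) (t1 (η g).2)⟩)
  exact ⟨M₁.subtype.comp η, (MulAut.conj t).toMonoidHom.comp (M₁.subtype.comp η), fun g (k : (η g).1 = 1) => z.ker g (by
    rw [dg, k, map_one, mul_one]), fun g => congrArg (t * (η g).1 * ·) z.it.symm, cm, dg⟩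

end ZD

end Cfsg.Lib.UF
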