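import Cfsg.Agent.Lib.UF.Z1
import Cfsg.Agent.Lib.UF.Z2
import Cfsg.Agent.Lib.UF.XR
import Cfsg.Agent.Lib.UF.FE
import Cfsg.Agent.Lib.UF.SE
import Cfsg.Agent.Lib.GSt.Core
import Cfsg.Agent.S1769

/-!
# S1778 (U₅): the core theorem.
-/

set_option autoImplicit false

namespace Cfsg.Lib.UF

open Module Matrix Subgroup G2S Cfsg.Lib.BG Cfsg.Lib.GW GSt.SLa Cfsg.Lib.Unitary
open scoped commutatorElement Cfsg.Lib.Transfer

variable {F : Type*} [Field F] [CharP F 2] [Finite F] {n : ℕ} {s : RingAut F} {G : Type*} [Group G] [Finite G]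
  {ψ : SUG (BD s n) →* G} {t g : G} {N : Subgroup G}

theorem St.comm_eq (s₀ : St ψ t) (h : Ok (BD s n)) [IsSimpleGroup N] (hN : ψ.range ≤ N) : ⁅N, N⁆ = N := by
  rcases (inferInstance : (commutator N).Normal).eq_bot_or_eq_top with e | e
  · refine absurd (fun x y => mem_center_iff.1 (h.bm.center_of (x := y) fun w => s₀.ker _ ?_) x) h.bm.not_comm
    have : ⁅(⟨_, hN ⟨y, rfl⟩⟩ : N), (⟨_, hN ⟨w, rfl⟩⟩ : N)⁆ ∈ commutator N := commutator_mem_commutator trivial trivial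
    rw [e, mem_bot, Subtype.ext_iff] at this
    exact (map_commutatorElement ..).trans this
  · rw [← map_subtype_commutator, e, ← MonoidHom.range_eq_map, range_subtype]

theorem St.rank (s₀ : St ψ t) (h : Ok (BD s n)) (hN : ψ.range ≤ N) : ¬ PRankLE 2 2 N := fun k => by
  obtain ⟨r, r1, hq⟩ := h.bar
  obtain ⟨E, hE, -, c⟩ := h.inn hq (mul_one 1)
  have hA := hE.map (ψ.codRestrict N fun x => hN ⟨x, rfl⟩)
  have c1 := k _ ⟨⟨fun a b => Subtype.ext (hA.comm a.2 b.2)⟩⟩ fun a ha => by rw [sq]; exact hA a ha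
  have c2 : Nat.card E ≤ _ := (Nat.card_le_card_of_injective (fun x : E => (⟨_, mem_map_of_mem _ x.2⟩ : E.map (ψ.codRestrict N _)))
    fun a b e => Subtype.ext (s₀.inj2 h.bm (n := 1) (k := 1) (by rw [pow_one, sq]; exact hE _ a.2)
      (by rw [pow_one, sq]; exact hE _ b.2) (congrArg (·.1.1) e))).trans c1
  have c3 : 2 ≤ finrank F (VV n F) / 2 := by have := h.d4; omega
  have := (pow_le_pow_iff_right₀ one_lt_two).1 ((pow_mul 2 r _).le.trans (c.trans c2))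
  nlinarith

theorem core (h : Ok (BD s n)) (s₀ : St ψ t) [N.Normal] [IsSimpleGroup N] (hN : ψ.range ≤ N) (h1 : g * t * g⁻¹ ≠ t)
    (h2 : Commute (g * t * g⁻¹) t) : (∃ y ∈ N, ∃ z, z ≠ 1 ∧ z * z = 1 ∧ y * y = 1 ∧ y * ψ z = ψ z * y ∧ y * t * y = t * ψ z) ∧
      Nonempty (N ≃* ProjectiveSpecialLinearGroup (LS.I n) F) := by
  have p := h.hy0
  obtain ⟨g, gd⟩ := s₀.step0 h p.ne p.ee h1 h2
  obtain ⟨O, s₁, hg⟩ := s₀.s1 h p.ne p.ee gd
  have hψ : ∀ x, ψ x ∈ 𝐍(O) := fun x => s₁.norm (s₀.tψ x).symm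
  have ht : t ∈ 𝐍(O) := s₁.norm rfl
  obtain ⟨Y, zp⟩ := (s₁.bar h.bm hψ ht).exists_zp h p.ne p.ee ((s₁.bar h.bm hψ ht).gd h p.ne p.ee (gd.bar hψ ht hg))
  obtain ⟨Y, zq⟩ := zp.exists_zq h
  obtain ⟨y, za⟩ := (zq.zr h).exists_za h
  obtain ⟨ω, hω⟩ := h.om
  obtain ⟨ν, zd⟩ := za.exists_zd h hω
  obtain ⟨x, hx, hx' | hx'⟩ := h.root zd.hν
  · obtain ⟨μ, μ', d⟩ := zd.split h hx hx'
    obtain ⟨μ, μ', d, hO⟩ := s₁.lift_sd h.bm h.mult hψ ht d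
    obtain ⟨A, m, hm⟩ := h.exists_sm
    exact (split_false m s₀ (hm ▸ s₁.sd h p.ne p.ee d hO) (d.le h.bm hN)).elim
  obtain ⟨y', zd'⟩ := zd.field h hx hx'
  obtain ⟨X, xd⟩ := zd'.exists_xd h
  obtain ⟨φ, fd, hφ⟩ := xd.exists_phi h
  obtain ⟨φ, fd⟩ := s₁.lift_fd h hψ ht fd hφ
  have hM := fd.le h hN
  obtain ⟨y, hy, k⟩ := fd.exy h
  refine ⟨⟨y, hM hy, k⟩, ?_⟩
  have inj : Function.Injective (φ.comp LS.ju) := (injective_iff_map_eq_one _).2 fun u e => by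
    obtain ⟨k, hk⟩ := LS.pU u
    exact LS.ju_inj ((LS.cen2 (fd.kerφ h e) (k := k) (by rw [← map_pow, hk, map_one])).trans (map_one _).symm)
  have em := GSt.em_cod inj (fd.fin h (s₀.comm_eq h hN) hM)
  obtain ⟨r, r1, hq⟩ := h.bar
  have := Fintype.ofFinite F
  obtain ⟨S⟩ : Nonempty (Sylow 2 N) := inferInstance
  obtain ⟨P⟩ : Nonempty (Sylow 2 (ProjectiveSpecialLinearGroup (LS.I n) F)) := inferInstance
  obtain ⟨e1⟩ := LmS.em_equiv em S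
  obtain ⟨e2⟩ := LmS.em_equiv (LmS.em_PSL (F := F) (n + 3)) P
  exact Cfsg.Agent.S1769.result (s₀.rank h hN) (2 * r) (by omega) (by rw [Fintype.card_eq_nat_card, hq.card, ← pow_mul, mul_comm]) _
    (by omega) S P ⟨e1.symm.trans e2⟩

end Cfsg.Lib.UF
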