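import Cfsg.Agent.Lib.UF.Gn
import Cfsg.Agent.Lib.Unitary.AutC
import Cfsg.Agent.Lib.Unitary.Parab
import Cfsg.Agent.Lib.Unitary.Transv
import Cfsg.Agent.Lib.Unitary.Gram
import Cfsg.Agent.Lib.LS.Bas

/-!
# S1778 (U₅): the model `J = SU (V, B)`, `char F = 2`, and the stages.  See `docs/UF.md`.
`K` = fixed field of `σ`.  `B` is `σ`-linear in the first argument, `u v^*` denotes the map `x ↦ B v x • u`.
-/

set_option autoImplicit false

noncomputable section

namespace Cfsg.Lib.UF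

open Module Subgroup G2S Cfsg.Lib.BG Cfsg.Lib.GW GSt.SLa Cfsg.Lib.Unitary
open scoped commutatorElement Cfsg.Lib.Transfer

variable {F V : Type*} [Field F] [AddCommGroup V] [Module F V] {σ : F →+* F}

section defs
variable (B : V →ₛₗ[σ] V →ₗ[F] F)

/-- `m = 5`. -/
structure Ok : Prop extends IsHerm σ B where
  d5 : finrank F V = 5

/-- Admissible parameters of `ei`. -/
structure Va (e w : V) (γ : F) : Prop where
  ee : B e e = 0
  ew : B e w = 0
  tr : γ + σ γ = B w w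

/-- A hyperbolic pair. -/
structure Hy (e e' : V) : Prop where
  ee : B e e = 0
  ff : B e' e' = 0
  ef : B e e' = 1

/-- A basis of a totally isotropic line. -/
structure Ln (e f : V) : Prop where
  ee : B e e = 0
  ff : B f f = 0
  ef : B e f = 0
  ne : e ≠ 0
  nm : f ∉ F ∙ e

/-- Two orthogonal hyperbolic pairs. -/
structure Fr (e e' f f' : V) : Prop where
  he : Hy B e e'
  hf : Hy B f f'
  ef : B e f = 0
  ef' : B e f' = 0
  e'f : B e' f = 0
  e'f' : B e' f' = 0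

/-- Totally isotropic subspace. -/
abbrev Ti (I : Submodule F V) : Prop := I ≤ perp B I

/-- The `K`-bilinear alternating form `Tr B`. -/
def bf (v w : V) : F := B v w + B w v

/-- The vector stabilizer. -/
def Stab (e : V) : Subgroup (SUG B) where
  carrier := {x | x.1 e = e}
  mul_mem' {x y} (hx : x.1 e = e) (hy : y.1 e = e) := show x.1 (y.1 e) = e by rw [hy, hx]
  one_mem' := rfl
  inv_mem' {x} (hx : x.1 e = e) := show x.1.symm e = e from x.1.symm_apply_eq.2 hx.symm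

/-- The pointwise stabilizer. -/
def Fix (I : Submodule F V) : Subgroup (SUG B) := ⨅ v ∈ I, Stab B v

/-- The unipotent radical of the point stabilizer. -/
def Q (e : V) : Subgroup (SUG B) := (QE B e).subgroupOf (SUG B)

/-- `x - 1` maps into `I`. -/
def W (I : Submodule F V) : Subgroup (SUG B) where
  carrier := {x | ∀ v, x.1 v - v ∈ I}
  mul_mem' {x y} hx hy v := by
    have := I.add_mem (hx (y.1 v)) (hy v)
    rwa [sub_add_sub_cancel] at this
  one_mem' v := by simp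
  inv_mem' {x} hx v := by
    have := I.neg_mem (hx (x.1.symm v))
    rwa [neg_sub, LinearEquiv.apply_symm_apply] at this

/-- The image of `x - 1`. -/
def rg (x : SUG B) : Submodule F V := LinearMap.range (dev x.1)

/-- The rank of `x - 1`. -/
def rk (x : SUG B) : ℕ := finrank F (rg B x)

/-- `α` is induced by the `θ`-semilinear isometry `Φ`. -/
structure Ind (α : MulAut (SUG B)) (Φ : V ≃+ V) (θ : RingAut F) : Prop where
  smul : ∀ s v, Φ (s • v) = θ s • Φ v
  iso : ∀ u v, B (Φ u) (Φ v) = θ (B u v)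
  act : ∀ x v, (α x).1 (Φ v) = Φ (x.1 v)

variable [CharP F 2] [Finite V]

open Classical in
/-- `1 + w e^* + e w^* + γ e e^*` (`1` if not admissible). -/
def ei (e w : V) (γ : F) : SUG B :=
  if h : IsHerm σ B ∧ Va B e w γ then
    ⟨eichler B e w γ h.2.ee h.2.ew (h.1.eq_zero_comm.1 h.2.ew),
      h.1.eichler_mem_SUG _ _ _ (by rw [h.2.tr]; exact CharTwo.add_self_eq_zero _)⟩ else 1

/-- The transvection `1 + c e e^*`. -/
def tv (e : V) (c : F) : SUG B := ei B e 0 c

end defs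

variable {B : V →ₛₗ[σ] V →ₗ[F] F} {e e' f f' u v w w' : V} {a b c d γ γ' : F} {x y : SUG B} {I : Submodule F V}

instance instFinSUG [Finite V] : Finite (SUG B) := have : Finite (V ≃ₗ[F] V) := DFunLike.finite _; inferInstance

theorem J_ext (h : ∀ v, x.1 v = y.1 v) : x = y := Subtype.ext (LinearEquiv.ext h)
theorem mul_ap (x y : SUG B) (v : V) : (x * y).1 v = x.1 (y.1 v) := rfl
theorem one_ap (v : V) : (1 : SUG B).1 v = v := rfl
@[simp] theorem inv_ap (x : SUG B) (v : V) : x.1 ((x⁻¹).1 v) = v := x.1.apply_symm_apply v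
@[simp] theorem ap_inv (x : SUG B) (v : V) : (x⁻¹).1 (x.1 v) = v := x.1.symm_apply_apply v
@[simp] theorem iso (x : SUG B) (u v : V) : B (x.1 u) (x.1 v) = B u v := x.2.1 u v
theorem iso_l (x : SUG B) (u v : V) : B (x.1 u) v = B u ((x⁻¹).1 v) := by rw [← iso x u, inv_ap]
theorem iso_r (x : SUG B) (u v : V) : B u (x.1 v) = B ((x⁻¹).1 u) v := by rw [← iso x _ v, inv_ap]
theorem inv_eq_of (h : x.1 u = v) : (x⁻¹).1 v = u := by rw [← h, ap_inv]
theorem mem_Stab : x ∈ Stab B e ↔ x.1 e = e := Iff.rfl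
theorem mem_Fix : x ∈ Fix B I ↔ ∀ v ∈ I, x.1 v = v := by simp [Fix, mem_iInf, mem_Stab]
theorem mem_Q : x ∈ Q B e ↔ x.1 ∈ QE B e := Iff.rfl
theorem mem_W : x ∈ W B I ↔ ∀ v, x.1 v - v ∈ I := Iff.rfl
theorem mem_W' : x ∈ W B I ↔ rg B x ≤ I := ⟨by rintro h _ ⟨v, rfl⟩; exact h v, fun h v => h ⟨v, rfl⟩⟩
theorem mem_W_rg (x : SUG B) : x ∈ W B (rg B x) := mem_W'.2 le_rfl
theorem W_mono {I' : Submodule F V} (h : I ≤ I') : W B I ≤ W B I' := fun _ hx v => h (hx v)
theorem Q_le : Q B e ≤ Stab B e := fun _ h => h.2.1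
theorem Va.tv (h : B e e = 0) [CharP F 2] (hc : σ c = c) : Va B e 0 c :=
  ⟨h, by simp, by simp [hc, CharTwo.add_self_eq_zero]⟩
theorem Va.zero (h : B e e = 0) (hw : B w w = 0) (h' : B e w = 0) : Va B e w 0 := ⟨h, h', by simp [hw]⟩
theorem Va.fix [CharP F 2] (h : Va B e 0 c) : σ c = c := (CharTwo.add_eq_zero.1 (by simpa using h.tr)).symm
theorem Va.map (h : Va B e w γ) (x : SUG B) : Va B (x.1 e) (x.1 w) γ := ⟨by simp [h.ee], by simp [h.ew], by simp [h.tr]⟩
theorem Hy.map (h : Hy B e e') (x : SUG B) : Hy B (x.1 e) (x.1 e') := ⟨by simp [h.ee], by simp [h.ff], by simp [h.ef]⟩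
theorem Hy.ne (h : Hy B e e') : e ≠ 0 := fun z => by simpa [z] using h.ef
theorem Ln.map (h : Ln B e f) (x : SUG B) : Ln B (x.1 e) (x.1 f) :=
  ⟨by simp [h.ee], by simp [h.ff], by simp [h.ef], by simpa using h.ne, fun k => h.nm (by
    obtain ⟨a, ha⟩ := Submodule.mem_span_singleton.1 k
    exact Submodule.mem_span_singleton.2 ⟨a, x.1.injective (by rw [map_smul, ha])⟩)⟩
theorem Ln.ne' (h : Ln B e f) : f ≠ 0 := fun z => h.nm (z ▸ Submodule.zero_mem _)
theorem Ln.indep (h : Ln B e f) (z : a • e + b • f = 0) : a = 0 ∧ b = 0 := by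
  have hb : b = 0 := by_contra fun hb => h.nm (Submodule.mem_span_singleton.2 ⟨-(a / b), by
    rw [← smul_right_inj hb, smul_smul, eq_neg_of_add_eq_zero_right z, ← neg_smul]; congr 1; field_simp⟩)
  exact ⟨by simpa [hb, h.ne] using z, hb⟩
theorem bf_comm (v w : V) : bf B v w = bf B w v := add_comm _ _
theorem bf_add_left (u v w : V) : bf B (u + v) w = bf B u w + bf B v w := by simp [bf]; ring
theorem bf_add_right (u v w : V) : bf B u (v + w) = bf B u v + bf B u w := by simp [bf]; ring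
theorem bf_smul_left (hc : σ c = c) (v w : V) : bf B (c • v) w = c * bf B v w := by simp [bf, hc]; ring
theorem bf_smul_right (hc : σ c = c) (v w : V) : bf B v (c • w) = c * bf B v w := by simp [bf, hc]; ring
@[simp] theorem bf_zero_left (v : V) : bf B 0 v = 0 := by simp [bf]
@[simp] theorem bf_zero_right (v : V) : bf B v 0 = 0 := by simp [bf]
@[simp] theorem bf_iso (x : SUG B) (v w : V) : bf B (x.1 v) (x.1 w) = bf B v w := by simp [bf]
theorem rg_conj (x y : SUG B) : rg B (x * y * x⁻¹) = (rg B y).map x.1.toLinearMap := by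
  refine le_antisymm ?_ ?_
  · rintro _ ⟨v, rfl⟩
    exact ⟨_, ⟨(x⁻¹).1 v, rfl⟩, by simp [dev_apply, mul_ap, -InvMemClass.coe_inv, -MulMemClass.coe_mul]⟩
  · rintro _ ⟨_, ⟨v, rfl⟩, rfl⟩
    exact ⟨x.1 v, by simp [dev_apply, mul_ap, -InvMemClass.coe_inv, -MulMemClass.coe_mul]⟩
theorem rk_conj (x y : SUG B) : rk B (x * y * x⁻¹) = rk B y := by
  rw [rk, rg_conj, LinearEquiv.finrank_map_eq]; rfl
theorem rg_eq_bot : rg B x = ⊥ ↔ x = 1 :=
  ⟨fun h => J_ext fun v => sub_eq_zero.1 ((Submodule.mem_bot F).1 (h.le ⟨v, rfl⟩)), by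
    rintro rfl; exact eq_bot_iff.2 (mem_W'.1 (one_mem _))⟩

theorem vv (F : Type*) [Field F] [CharP F 2] [Module F V] (v : V) : v + v = 0 := by
  rw [← two_smul F, show (2 : F) = 0 from CharTwo.two_eq_zero, zero_smul]
theorem vneg (F : Type*) [Field F] [CharP F 2] [Module F V] (v : V) : -v = v := neg_eq_of_add_eq_zero_left (vv F v)
theorem vsub (F : Type*) [Field F] [CharP F 2] [Module F V] (v w : V) : v - w = v + w := by rw [sub_eq_add_neg, vneg F]

variable [CharP F 2]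

theorem aa (c : F) : c + c = 0 := CharTwo.add_self_eq_zero c
@[simp] theorem bf_self (v : V) : bf B v v = 0 := aa _

variable [Finite V]

theorem ei_junk (h : ¬ Va B e w γ) : ei B e w γ = 1 := dif_neg fun k => h k.2

namespace Ok
variable (h : Ok B)
include h
omit [CharP F 2] [Finite V] in
theorem herm : IsHerm σ B := h.toIsHerm
omit [CharP F 2] [Finite V] in
theorem d4 : 4 ≤ finrank F V := h.d5 ▸ by omega
omit [CharP F 2] [Finite V] h in
theorem big : (∃ c, σ c = c ∧ c ≠ 0 ∧ c ≠ 1) ∨ ∀ c, σ c = c → c = 0 ∨ c = 1 :=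
  or_iff_not_imp_left.2 fun k c hc => by_contra fun z => k ⟨c, hc, not_or.1 z⟩
omit [CharP F 2] [Finite V] in
theorem cm (e : B u v = 0) : B v u = 0 := h.herm.eq_zero_comm.1 e
omit [CharP F 2] [Finite V] in
theorem ss (a : F) : σ (σ a) = a := h.invol a
omit [CharP F 2] [Finite V] in
theorem nK (a : F) : σ (a * σ a) = a * σ a := by rw [map_mul, h.ss, mul_comm]
omit [CharP F 2] [Finite V] in
theorem tK (a : F) : σ (a + σ a) = a + σ a := by rw [map_add, h.ss, add_comm]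
omit [CharP F 2] [Finite V] in
theorem bf_eq (v w : V) : bf B v w = B v w + σ (B v w) := by rw [bf, h.symm]
omit [CharP F 2] [Finite V] in
theorem bfK (v w : V) : σ (bf B v w) = bf B v w := by rw [h.bf_eq, h.tK]
omit [CharP F 2] [Finite V] in
theorem fe (p : Hy B e e') : B e' e = 1 := by rw [← h.symm, p.ef, map_one]
omit [CharP F 2] [Finite V] in
theorem hy_symm (p : Hy B e e') : Hy B e' e := ⟨p.ff, p.ee, h.fe p⟩
omit [CharP F 2] [Finite V] in
theorem ln_symm (p : Ln B e f) : Ln B f e := ⟨p.ff, p.ee, h.cm p.ef, p.ne', fun k => by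
  obtain ⟨a, ha⟩ := Submodule.mem_span_singleton.1 k
  simpa using (p.indep (a := -1) (b := a) (by simp [ha])).1⟩
omit [CharP F 2] [Finite V] in
theorem fr_symm (p : Fr B e e' f f') : Fr B f f' e e' := ⟨p.hf, p.he, h.cm p.ef, h.cm p.e'f, h.cm p.ef', h.cm p.e'f'⟩
omit [CharP F 2] [Finite V] in
theorem fr_ln (p : Fr B e e' f f') : Ln B e f := ⟨p.he.ee, p.hf.ee, p.ef, p.he.ne, fun k => by
  obtain ⟨a, ha⟩ := Submodule.mem_span_singleton.1 k
  have := h.fe p.hf
  simp [← ha, h.cm p.ef'] at this⟩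
omit [Finite V] in
theorem va_ex (he : B e e = 0) (hw : B e w = 0) : ∃ γ, Va B e w γ :=
  let ⟨γ, k⟩ := h.herm.exists_trace_eq (h.herm.self_fixed w); ⟨γ, he, hw, k⟩
omit [CharP F 2] [Finite V] in
theorem va_mul (p : Va B e w γ) (p' : Va B e w' γ') : Va B e (w + w') (γ + γ' + B w w') :=
  ⟨p.ee, by simp [p.ew, p'.ew], by simp only [map_add, LinearMap.add_apply, h.symm]; linear_combination p.tr + p'.tr⟩
omit [CharP F 2] [Finite V] in
theorem va_inv (p : Va B e w γ) : Va B e w (σ γ) := ⟨p.ee, p.ew, by rw [h.ss, add_comm, p.tr]⟩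
omit [CharP F 2] [Finite V] in
theorem va_smul (p : Va B e w γ) (a : F) : Va B e (σ a • w) (a * σ a * γ) :=
  ⟨p.ee, by simp [p.ew], by simp [h.ss, ← p.tr]; ring⟩
omit [Finite V] in
theorem va_shift (p : Va B e w γ) (a : F) : Va B e (w + a • e) γ :=
  ⟨p.ee, by simp [p.ew, p.ee], by simp [p.tr, p.ee, p.ew, h.cm p.ew]⟩
omit [Finite V] in
theorem va_add (p : Va B e w γ) (hc : σ c = c) : Va B e w (γ + c) :=
  ⟨p.ee, p.ew, by rw [map_add, hc, ← p.tr]; linear_combination aa c⟩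

theorem ei_ap (p : Va B e w γ) (v : V) : (ei B e w γ).1 v = v + B e v • w + B w v • e + (γ * B e v) • e := by
  rw [ei, dif_pos ⟨h.herm, p⟩, eichler_apply, vsub F]
theorem ei_coe (p : Va B e w γ) : ∃ h1 h2, (ei B e w γ).1 = eichler B e w γ p.ee h1 h2 :=
  ⟨p.ew, h.cm p.ew, by rw [ei, dif_pos ⟨h.herm, p⟩]⟩
theorem tv_ap (he : B e e = 0) (hc : σ c = c) (v : V) : (tv B e c).1 v = v + (c * B e v) • e := by
  simp [tv, h.ei_ap (.tv he hc)]
theorem tv_coe (he : B e e = 0) (hc : σ c = c) : ∃ h1, (tv B e c).1 = transv B e c he h1 :=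
  ⟨by rw [hc, aa], LinearEquiv.ext (h.tv_ap he hc)⟩
theorem ei_mul (p : Va B e w γ) (p' : Va B e w' γ') :
    ei B e w γ * ei B e w' γ' = ei B e (w + w') (γ + γ' + B w w') := J_ext fun v => by
  simp only [mul_ap, h.ei_ap p, h.ei_ap p', h.ei_ap (h.va_mul p p'), map_add, map_smul, LinearMap.add_apply, p.ee, p'.ew,
    h.cm p.ew, smul_eq_mul]
  module
@[simp] theorem ei_zero (e : V) : ei B e 0 0 = 1 := by
  by_cases p : Va B e 0 0
  · exact J_ext fun v => by simp [h.ei_ap p]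
  · exact ei_junk p
@[simp] theorem tv_zero (e : V) : tv B e 0 = 1 := h.ei_zero e
@[simp] theorem tv_zero' (c : F) : tv B 0 c = 1 := by
  by_cases p : Va B 0 0 c
  · exact J_ext fun v => by simp [tv, h.ei_ap p]
  · exact ei_junk p
theorem ei_inv (p : Va B e w γ) : (ei B e w γ)⁻¹ = ei B e w (σ γ) :=
  inv_eq_of_mul_eq_one_right (by rw [h.ei_mul p (h.va_inv p), vv F, p.tr, aa, h.ei_zero])
theorem ei_sq (p : Va B e w γ) : ei B e w γ * ei B e w γ = tv B e (B w w) := by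
  rw [h.ei_mul p p, vv F, aa, zero_add, tv]
theorem ei_conj (x : SUG B) (e w : V) (γ : F) : x * ei B e w γ * x⁻¹ = ei B (x.1 e) (x.1 w) γ := by
  by_cases p : Va B e w γ
  · exact J_ext fun v => by simp only [mul_ap, h.ei_ap p, h.ei_ap (p.map x), map_add, map_smul, inv_ap, iso_l]
  · rw [ei_junk p, ei_junk fun k => p (by simpa only [ap_inv] using k.map x⁻¹), mul_one, mul_inv_cancel]
theorem tv_conj (x : SUG B) (e : V) (c : F) : x * tv B e c * x⁻¹ = tv B (x.1 e) c := by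
  rw [tv, h.ei_conj, map_zero, tv]
theorem ei_smul (p : Va B e w γ) (a : F) : ei B (a • e) w γ = ei B e (σ a • w) (a * σ a * γ) := J_ext fun v => by
  have p' : Va B (a • e) w γ := ⟨by simp [p.ee], by simp [p.ew], p.tr⟩
  simp only [h.ei_ap p', h.ei_ap (h.va_smul p a), LinearMap.map_smulₛₗ, LinearMap.smul_apply, smul_eq_mul, h.ss]
  module
theorem tv_smul (he : B e e = 0) (hc : σ c = c) (a : F) : tv B (a • e) c = tv B e (a * σ a * c) := by
  rw [tv, h.ei_smul (.tv he hc), smul_zero, tv]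
theorem ei_shift (p : Va B e w γ) (a : F) : ei B e (w + a • e) γ = ei B e w (γ + (a + σ a)) := J_ext fun v => by
  simp only [h.ei_ap (h.va_shift p a), h.ei_ap (h.va_add p (h.tK a)), map_add, LinearMap.map_smulₛₗ, LinearMap.add_apply,
    LinearMap.smul_apply, smul_eq_mul]
  module
theorem ei_tv (p : Va B e w γ) (hc : σ c = c) : ei B e w γ * tv B e c = ei B e w (γ + c) := by
  simp [tv, h.ei_mul p (.tv p.ee hc)]
theorem tv_ei (p : Va B e w γ) (hc : σ c = c) : tv B e c * ei B e w γ = ei B e w (γ + c) := by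
  simp [tv, h.ei_mul (.tv p.ee hc) p, add_comm]
theorem tv_add (he : B e e = 0) (hc : σ c = c) (hd : σ d = d) : tv B e (c + d) = tv B e c * tv B e d :=
  (h.ei_tv (.tv he hc) hd).symm
theorem tv_sq (e : V) (c : F) : tv B e c * tv B e c = 1 := by
  by_cases p : Va B e 0 c
  · simp [tv, h.ei_sq p, h.ei_zero]
  · simp [tv, ei_junk p]
theorem tv_inv (e : V) (c : F) : (tv B e c)⁻¹ = tv B e c := inv_eq_of_mul_eq_one_right (h.tv_sq e c)
theorem ei_swap (p : Va B e w γ) (p' : Va B e w' γ') :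
    ei B e w γ * ei B e w' γ' = ei B e w' γ' * ei B e w γ * tv B e (bf B w w') := by
  rw [h.ei_mul p p', h.ei_mul p' p, h.ei_tv (h.va_mul p' p) (h.bfK _ _), add_comm w, bf]
  congr 1; linear_combination - aa (B w' w)
theorem ei_fix (p : Va B e w γ) (h1 : B e v = 0) (h2 : B w v = 0) : (ei B e w γ).1 v = v := by simp [h.ei_ap p, h1, h2]
theorem ei_perp (p : Va B e w γ) (h1 : B e v = 0) : (ei B e w γ).1 v = v + B w v • e := by simp [h.ei_ap p, h1]
theorem tv_fix (h1 : B e v = 0) (c : F) : (tv B e c).1 v = v := by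
  by_cases p : Va B e 0 c
  · exact h.ei_fix p h1 (by simp)
  · rw [tv, ei_junk p]; rfl
/-- The symmetry `e ↔ w` for isotropic `w`. -/
theorem ei_symm (he : B e e = 0) (hw : B w w = 0) (hew : B e w = 0) : ei B e w 0 = ei B w e 0 := J_ext fun v => by
  simp only [h.ei_ap (.zero he hw hew), h.ei_ap (.zero hw he (h.cm hew))]; module
theorem tv_tv (he : B e e = 0) (hw : B w w = 0) (hew : B e w = 0) (hc : σ c = c) :
    tv B (e + w) c = ei B e (c • w) c * tv B w c := J_ext fun v => by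
  have p : Va B e (c • w) c := ⟨he, by simp [hew], by simp [hc, hw, aa]⟩
  simp only [mul_ap, h.tv_ap (show B (e + w) (e + w) = 0 by simp [he, hw, hew, h.cm hew]) hc, h.tv_ap hw hc, h.ei_ap p,
    map_add, map_smul, LinearMap.map_smulₛₗ, LinearMap.add_apply, LinearMap.smul_apply, smul_eq_mul, hc, hew, hw]
  module
theorem ei_mem_Q (e w : V) (γ : F) : ei B e w γ ∈ Q B e := by
  by_cases p : Va B e w γ
  · obtain ⟨_, _, k⟩ := h.ei_coe p
    exact mem_Q.2 (k ▸ h.herm.eichler_mem_QE (by rw [p.tr, aa]))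
  · exact ei_junk p ▸ one_mem _
theorem tv_mem_Q (e : V) (c : F) : tv B e c ∈ Q B e := h.ei_mem_Q ..
theorem Q_ex (p : Hy B e e') (hx : x ∈ Q B e) : ∃ w γ, Va B e w γ ∧ B e' w = 0 ∧ x = ei B e w γ := by
  obtain ⟨w, γ, h1, h2, h3, h4, k⟩ := h.herm.exists_eichler_of_mem_QE p.ee p.ff p.ef hx
  have q : Va B e w γ := ⟨p.ee, h1, CharTwo.add_eq_zero.1 h4⟩
  exact ⟨w, γ, q, h3, Subtype.ext (k.trans (h.ei_coe q).choose_spec.choose_spec.symm)⟩
omit [CharP F 2] [Finite V] in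
theorem hy_ex (h0 : e ≠ 0) (he : B e e = 0) : ∃ e', Hy B e e' :=
  let ⟨f, a, b⟩ := h.herm.exists_hyperbolic h0 he; ⟨f, he, a, b⟩
theorem Q_ex' (h0 : e ≠ 0) (he : B e e = 0) (hx : x ∈ Q B e) : ∃ w γ, Va B e w γ ∧ x = ei B e w γ :=
  let ⟨_, p⟩ := h.hy_ex h0 he; let ⟨w, γ, a, _, b⟩ := h.Q_ex p hx; ⟨w, γ, a, b⟩
/-- The class of `ei e w γ` in `e^⊥ / e` is well defined. -/
theorem ei_inj (h0 : e ≠ 0) (p : Va B e w γ) (p' : Va B e w' γ') (k : ei B e w γ = ei B e w' γ') :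
    ∃ a, w' = w + a • e ∧ γ = γ' + (a + σ a) := by
  obtain ⟨e', q⟩ := h.hy_ex h0 p.ee
  have k1 := congrArg (fun x : SUG B => x.1 e') k
  simp only [h.ei_ap p, h.ei_ap p', q.ef, one_smul, mul_one] at k1
  obtain ⟨a, rfl⟩ : ∃ a : F, w' = w + a • e := ⟨B w e' + γ - B w' e' - γ', by linear_combination (norm := module) -k1⟩
  refine ⟨a, rfl, smul_left_injective F h0 ?_⟩
  simp only [map_add, LinearMap.map_smulₛₗ, LinearMap.add_apply, LinearMap.smul_apply, q.ef, smul_eq_mul] at k1 ⊢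
  linear_combination (norm := module) k1
theorem ei_inj' (p : Hy B e e') (h1 : B e' w = 0) (h2 : B e' w' = 0) (q : Va B e w γ) (q' : Va B e w' γ')
    (k : ei B e w γ = ei B e w' γ') : w = w' ∧ γ = γ' := by
  obtain ⟨a, rfl, rfl⟩ := h.ei_inj p.ne q q' k
  obtain rfl : a = 0 := by simpa [h1, h.fe p] using h2
  simp
theorem tv_inj (h0 : e ≠ 0) (he : B e e = 0) (hc : σ c = c) (hd : σ d = d) (k : tv B e c = tv B e d) : c = d := by
  obtain ⟨e', q⟩ := h.hy_ex h0 he
  exact (h.ei_inj' q (by simp) (by simp) (.tv he hc) (.tv he hd) k).2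
theorem tv_ne (h0 : e ≠ 0) (he : B e e = 0) (hc : σ c = c) (c0 : c ≠ 0) : tv B e c ≠ 1 :=
  fun k => c0 (h.tv_inj h0 he hc (map_zero σ) (k.trans (h.tv_zero e).symm))
theorem ei_two (e w : V) (γ : F) : ei B e w γ ^ 2 ^ 2 = 1 := by
  by_cases p : Va B e w γ
  · rw [show 2 ^ 2 = 2 * 2 from rfl, pow_mul, pow_two, pow_two, h.ei_sq p, h.tv_sq]
  · simp [ei_junk p]
theorem tv_comm (huv : B u v = 0) (c d : F) : tv B u c * tv B v d = tv B v d * tv B u c :=
  cjf.1 (by rw [h.tv_conj, h.tv_fix huv])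
end Ok

end Cfsg.Lib.UF
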