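import Cfsg.Agent.Lib.UF.Def

/-!
# S1778 (U₅): geometry of the model, part a: the field, frames, diagonal elements, transitivity.  See `docs/UF.md`.
-/

set_option autoImplicit false
set_option linter.unusedSectionVars false

namespace Cfsg.Lib.UF

open Module Subgroup G2S Cfsg.Lib.BG Cfsg.Lib.GW GSt.SLa Cfsg.Lib.Unitary
open scoped commutatorElement Cfsg.Lib.Transfer

variable {F V : Type*} [Field F] [CharP F 2] [Finite F] [AddCommGroup V] [Module F V] [Finite V] {σ : F →+* F}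
  {B : V →ₛₗ[σ] V →ₗ[F] F} {e e' f f' g u v w e₁ f₁ : V} {a b c d γ : F} {x y : SUG B} {I : Submodule F V}

/-- Frobenius is bijective. -/
theorem sqrt_ex (c : F) : ∃ a, a * a = c := by
  have := Fintype.ofFinite F
  obtain ⟨a, ha⟩ := FiniteField.isSquare_of_char_two (ringChar.eq F 2) c
  exact ⟨a, ha.symm⟩

/-- `Fˣ` has odd order. -/
theorem odd_unit (F : Type*) [Field F] [CharP F 2] [Finite F] : ∃ k, ∀ a : F, a ≠ 0 → a ^ (2 * k + 1) = 1 := by
  have := Fintype.ofFinite F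
  have h1 := FiniteField.even_card_of_char_two (ringChar.eq F 2)
  have h2 : 1 < Fintype.card F := Fintype.one_lt_card
  refine ⟨(Fintype.card F - 2) / 2, fun a ha => ?_⟩
  rw [show 2 * ((Fintype.card F - 2) / 2) + 1 = Fintype.card F - 1 by omega]
  exact FiniteField.pow_card_sub_one_eq_one a ha

omit [Finite F] in
theorem sq_inj (k : a * a = b * b) : a = b := by
  have : (a + b) * (a + b) = 0 := by linear_combination k + aa (a * b) + aa (b * b)
  exact CharTwo.add_eq_zero.1 (mul_self_eq_zero.1 this)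

omit [Finite F] in
theorem p1 (t : F) : t + 1 = t - 1 := (CharTwo.sub_eq_add t 1).symm

/-- The diagonal element `a, (σ a)⁻¹, b, (σ b)⁻¹` of the frame, `1` on its complement. -/
def Tq (B : V →ₛₗ[σ] V →ₗ[F] F) (e e' f f' : V) (a b : F) (x : SUG B) : Prop :=
  ∀ v, x.1 v = v + ((a + 1) * B e' v) • e + (((σ a)⁻¹ + 1) * B e v) • e' + ((b + 1) * B f' v) • f + (((σ b)⁻¹ + 1) * B f v) • f'

/-- A frame and a unit vector orthogonal to it: a basis. -/
structure F5 (B : V →ₛₗ[σ] V →ₗ[F] F) (e e' f f' r : V) : Prop extends Fr B e e' f f' where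
  rr : B r r = 1
  er : B e r = 0
  e'r : B e' r = 0
  fr : B f r = 0
  f'r : B f' r = 0

omit [Finite F] [Finite V] [CharP F 2] in
theorem Ln.li (p : Ln B e f) : LinearIndependent F ![e, f] := LinearIndependent.pair_iff.2 fun _ _ k => p.indep k

section hm
variable (h : IsHerm σ B)
include h

theorem hm_tr_nd (k : ∀ c, a * c + σ (a * c) = 0) : a = 0 := by_contra fun ha => by
  obtain ⟨ω, hω⟩ := h.exists_trace_eq (map_one σ)
  have := k (ω / a)
  rw [mul_div_cancel₀ _ ha, hω] at this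
  exact one_ne_zero this

theorem hm_span (k : ∀ w, B e w = 0 → B v w = 0) : v ∈ F ∙ e := by
  rw [← h.perp_perp (F ∙ e)]
  exact fun w hw => h.eq_zero_comm.1 (k w (mem_perp_singleton.1 hw))

theorem hm_nd (k : ∀ w, B e w = 0 → bf B v w = 0) : v ∈ F ∙ e :=
  hm_span h fun w hw => hm_tr_nd h fun c => by
    have := k (c • w) (by simp [hw])
    rwa [bf, ← h.symm v, map_smul, smul_eq_mul, mul_comm] at this

/-- Isotropic vectors span `V` additively. -/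
theorem hm_ind0 (hd : finrank F V ≠ 1) {P : V → Prop} (h0 : ∀ u, B u u = 0 → P u) (hadd : ∀ u v, P u → P v → P (u + v)) (w : V) :
    P w := by
  rcases Nat.eq_zero_or_pos (finrank F V) with z | z
  · have := finrank_zero_iff.1 z
    exact h0 w (by rw [Subsingleton.elim w 0, map_zero])
  obtain ⟨e, e0, he⟩ := h.exists_isotropic (by omega)
  obtain ⟨f, hf, hef⟩ := h.exists_hyperbolic e0 he
  have hfe : B f e = 1 := by rw [← h.symm, hef, map_one]
  obtain ⟨w₀, h1, h2, k⟩ := h.hyp_decomp he hf hef w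
  obtain ⟨c, hc⟩ := h.exists_trace_eq (h.self_fixed w₀)
  have : w = w₀ + e + c • f + (B f w - 1) • e + (B e w - c) • f := by linear_combination (norm := module) k
  rw [this]
  refine hadd _ _ (hadd _ _ (h0 _ ?_) (h0 _ (by simp [he]))) (h0 _ (by simp [hf]))
  simp only [map_add, LinearMap.add_apply, map_smul, LinearMap.map_smulₛₗ, LinearMap.smul_apply, smul_eq_mul, h1, h2, he, hf, hef,
    hfe, h.eq_zero_comm.1 h1, h.eq_zero_comm.1 h2]
  linear_combination hc + aa (B w₀ w₀)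

omit h in
theorem hm_indY {Y : Submodule F V} (hY : IsHerm σ (B.domRestrict₁₂ Y Y)) (hd : finrank F Y ≠ 1) {P : V → Prop}
    (h0 : ∀ u ∈ Y, B u u = 0 → P u) (hadd : ∀ u ∈ Y, ∀ v ∈ Y, P u → P v → P (u + v)) (hw : w ∈ Y) : P w :=
  hm_ind0 hY hd (P := fun u => P u.1) (fun u k => h0 u u.2 k) (fun u v => hadd u u.2 v v.2) ⟨w, hw⟩

/-- Isotropic vectors span `e^⊥` additively. -/
theorem hm_ind1 (hd : 4 ≤ finrank F V) {P : V → Prop} (h0 : ∀ u, B u u = 0 → B e u = 0 → P u)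
    (hadd : ∀ u v, B e u = 0 → B e v = 0 → P u → P v → P (u + v)) (h1 : B e w = 0) : P w := by
  by_cases e0 : e = 0
  · exact hm_ind0 h (by omega) (fun u k => h0 u k (by simp [e0])) (fun u v => hadd u v (by simp [e0]) (by simp [e0])) w
  by_cases he : B e e = 0
  · obtain ⟨f, hf, hef⟩ := h.exists_hyperbolic e0 he
    obtain ⟨w₀, k1, k2, k⟩ := h.hyp_decomp he hf hef w
    have := h.finrank_hypPerp he hef
    rw [k, h1, zero_smul, add_zero]
    refine hadd _ _ k1 (by simp [he]) ?_ (h0 _ (by simp [he]) (by simp [he]))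
    exact hm_indY (h.isHerm_hypPerp he hef) (by omega) (fun u hu k => h0 u k (mem_hypPerp.1 hu).1)
      (fun u hu v hv => hadd u v (mem_hypPerp.1 hu).1 (mem_hypPerp.1 hv).1) (mem_hypPerp.2 ⟨k1, k2⟩)
  · have := h.finrank_perp_singleton e0
    exact hm_indY (h.restrict_perp (IsHerm.disjoint_perp_singleton he)) (by omega) (fun u hu k => h0 u k (mem_perp_singleton.1 hu))
      (fun u hu v hv => hadd u v (mem_perp_singleton.1 hu) (mem_perp_singleton.1 hv)) (mem_perp_singleton.2 h1)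

theorem hm_wsu {ι : Type*} [Fintype ι] {x y : ι → V} (hx : LinearIndependent F x) (hy : LinearIndependent F y)
    (hB : ∀ i j, B (x i) (x j) = B (y i) (y j)) (hn : 2 * Fintype.card ι < finrank F V) : ∃ g : SUG B, ∀ i, g.1 (x i) = y i := by
  obtain ⟨z, hz, hz'⟩ := h.exists_nonisotropic_perp_of_finrank (W := Submodule.span F (Set.range y))
    (by rwa [finrank_span_eq_card hy])
  obtain ⟨g, hg, k⟩ := h.witt_family_SUG hx hy hB hz' fun i => h.eq_zero_comm.1 (mem_perp_span.1 hz _ ⟨i, rfl⟩)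
  exact ⟨⟨g, hg⟩, k⟩

theorem hm_noniso (hd : 1 ≤ finrank F V) : ∃ z, B z z ≠ 0 :=
  let ⟨z, _, k⟩ := h.exists_nonisotropic_perp_of_finrank (W := ⊥) (by rw [finrank_bot]; omega); ⟨z, k⟩

end hm

namespace Ok
variable (h : Ok B)
include h

/-- `exists_isBar`, `exists_prime_pow_of_card`. -/
theorem bar : ∃ n, 1 ≤ n ∧ IsBar (2 ^ n) σ := by
  have := Fintype.ofFinite F
  obtain ⟨q, hq⟩ := h.herm.exists_isBar
  obtain ⟨p, n, -, hp, hn, rfl⟩ := exists_prime_pow_of_card (F := F) (q := q) (by rw [← Nat.card_eq_fintype_card, hq.card])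
  obtain rfl : p = 2 := CharP.eq F hp ‹CharP F 2›
  exact ⟨n, hn, hq⟩

/-- The root of `sqrt_ex` is unique, so fixed by `σ`. -/
theorem sqrt (hc : σ c = c) : ∃ a, σ a = a ∧ a * a = c :=
  let ⟨a, ha⟩ := sqrt_ex c; ⟨a, sq_inj (by rw [← map_mul, ha, hc]), ha⟩

theorem om : ∃ ω : F, ω + σ ω = 1 := h.herm.exists_trace_eq (map_one σ)

/-- `exists_norm_one_ne_one`; `l² = 1` gives `l = 1`. -/
theorem n1 : ∃ l : F, l * σ l = 1 ∧ l * l ≠ 1 := by
  obtain ⟨n, -, hq⟩ := h.bar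
  obtain ⟨l, h1, h2⟩ := hq.exists_norm_one_ne_one
  exact ⟨l, h1, fun k => h2 (sq_inj (by rw [k, mul_one]))⟩

theorem nrm (hc : σ c = c) : ∃ a, a * σ a = c := h.herm.exists_norm_eq hc

/-- `c = ω / a`. -/
theorem tr_nd (k : ∀ c, a * c + σ (a * c) = 0) : a = 0 := hm_tr_nd h.herm k

/-- A `K`-linear functional `F → K` is `Tr (s ·)`: `s = φ 1 * σ ω + φ ω`-type formula in the basis `1, ω`. -/
theorem tr_dual (φ : F →+ F) (hK : ∀ a, σ (φ a) = φ a) (hl : ∀ c a, σ c = c → φ (c * a) = c * φ a) :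
    ∃ s, ∀ a, φ a = s * a + σ (s * a) := by
  obtain ⟨ω, hω⟩ := h.om
  have w : σ ω = 1 + ω := by linear_combination hω - aa ω
  refine ⟨φ 1 * σ ω + φ ω, fun a => ?_⟩
  have k : a = (a + (a + σ a) * ω) * 1 + (a + σ a) * ω := by linear_combination - aa ((a + σ a) * ω)
  have k1 := hl (a + (a + σ a) * ω) 1 (by
    simp only [map_add, map_mul, h.ss, w]; linear_combination aa (σ a))
  conv_lhs => rw [k, map_add, k1, hl _ _ (h.tK a)]
  simp only [map_add, map_mul, h.ss, hK, w, map_one]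
  linear_combination - aa (φ 1 * σ a)

/-- A `K`-linear functional on `X = hypPerp` is `bf v₀`: `w ↦ s(w)` with `φ (a • w) = Tr (s(w) a)` (`tr_dual`) is `F`-linear
(`tr_nd`), `IsHerm.exists_eq` for `isHerm_hypPerp`. -/
theorem bf_dual (p : Hy B e e') (φ : hypPerp B e e' →+ F) (hK : ∀ w, σ (φ w) = φ w)
    (hl : ∀ c w, σ c = c → φ (c • w) = c * φ w) : ∃ v : hypPerp B e e', ∀ w, φ w = bf B v w := by
  choose s hs using fun w : hypPerp B e e' => h.tr_dual (AddMonoidHom.mk' (fun a => φ (a • w)) fun a b => by rw [add_smul, map_add])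
    (fun a => hK _) (fun c a hc => by simp only [AddMonoidHom.mk'_apply, mul_smul, hl _ _ hc])
  simp only [AddMonoidHom.mk'_apply] at hs
  let S : hypPerp B e e' →ₗ[F] F :=
    { toFun := s
      map_add' := fun u v => CharTwo.add_eq_zero.1 (h.tr_nd fun c => by
        have := hs (u + v) c
        rw [smul_add, map_add, hs, hs] at this
        simp only [map_add, map_mul] at this ⊢
        linear_combination this + aa (s (u + v) * c) + aa (σ (s (u + v)) * σ c))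
      map_smul' := fun a u => CharTwo.add_eq_zero.1 (h.tr_nd fun c => by
        have := hs (a • u) c
        rw [smul_smul, hs] at this
        simp only [map_add, map_mul, smul_eq_mul, RingHom.id_apply] at this ⊢
        linear_combination this + aa (s (a • u) * c) + aa (σ (s (a • u)) * σ c)) }
  obtain ⟨v, hv⟩ := (h.herm.isHerm_hypPerp p.ee p.ef).exists_eq S
  refine ⟨v, fun w => ?_⟩
  have k : B v w = s w := LinearMap.congr_fun hv w
  simpa [h.bf_eq, k] using hs w 1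

/-- `bf` is nondegenerate on `e^⊥ / e` (`tr_nd`, `perp_perp`). -/
theorem bf_nd (_he : B e e = 0) (_hv : B e v = 0) (k : ∀ w, B e w = 0 → bf B v w = 0) : v ∈ F ∙ e := hm_nd h.herm k

/-- `bf v` is onto `K` on `e^⊥`. -/
theorem bf_onto (_he : B e e = 0) (hv : v ∉ F ∙ e) (hc : σ c = c) : ∃ w, B e w = 0 ∧ bf B v w = c := by
  obtain ⟨w, h1, h2⟩ : ∃ w, B e w = 0 ∧ B v w ≠ 0 := by_contra fun k => hv (hm_span h.herm fun w hw => by_contra fun n => k ⟨w, hw, n⟩)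
  obtain ⟨t, ht⟩ := h.herm.exists_trace_eq hc
  exact ⟨(t / B v w) • w, by simp [h1], by rw [h.bf_eq, map_smul, smul_eq_mul, div_mul_cancel₀ _ h2, ht]⟩

/-- `q = 2`: the norm is `1`, `σ` is squaring, `F = {0, 1, ω, ω + 1}`. -/
theorem two (hq : ∀ c, σ c = c → c = 0 ∨ c = 1) : finrank F V = 5 ∧ (∀ a : F, a ≠ 0 → a * σ a = 1) ∧ (∀ a : F, σ a = a * a) ∧
    ∃ ω : F, ω * ω = ω + 1 ∧ ω ≠ 0 ∧ ω ≠ 1 ∧ ∀ a, a = 0 ∨ a = 1 ∨ a = ω ∨ a = ω + 1 := by
  have hn : ∀ a : F, a ≠ 0 → a * σ a = 1 := fun a ha => (hq _ (h.nK a)).resolve_left (by simpa using ha)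
  obtain ⟨ω, hω⟩ := h.om
  have w : σ ω = 1 + ω := by linear_combination hω - aa ω
  have w0 : ω ≠ 0 := by rintro rfl; simp at hω
  have w2 : ω * ω = ω + 1 := by linear_combination hn ω w0 - ω * w - aa ω
  have all : ∀ a : F, a = 0 ∨ a = 1 ∨ a = ω ∨ a = ω + 1 := fun a => by
    rcases hq _ (h.tK a) with k | k
    · exact (hq a (CharTwo.add_eq_zero.1 k).symm).imp_right .inl
    · rcases hq (a + ω) (by rw [map_add, w]; linear_combination k - aa a + aa (1 : F)) with k | k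
      · exact .inr (.inr (.inl (CharTwo.add_eq_zero.1 k)))
      · exact .inr (.inr (.inr (by linear_combination k - aa ω)))
  refine ⟨h.d5, hn, fun a => ?_, ω, w2, w0, ?_, all⟩
  · rcases all a with rfl | rfl | rfl | rfl
    · simp
    · simp
    · rw [w, w2, add_comm]
    · rw [map_add, w, map_one]; linear_combination - w2 - aa ω
  · rintro rfl; simp [aa] at hω

theorem iso_ex : ∃ e : V, e ≠ 0 ∧ B e e = 0 := h.herm.exists_isotropic (by have := h.d4; omega)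

theorem fr_ex'' (p : Hy B e e') (h0 : f ≠ 0) (hf : B f f = 0) (h1 : B e f = 0) (h2 : B e' f = 0) : ∃ f', Fr B e e' f f' := by
  obtain ⟨f', k1, k2⟩ := (h.herm.isHerm_hypPerp p.ee p.ef).exists_hyperbolic (e := ⟨f, mem_hypPerp.2 ⟨h1, h2⟩⟩)
    (fun z => h0 (congrArg Subtype.val z)) hf
  exact ⟨f', p, ⟨hf, k1, k2⟩, h1, (mem_hypPerp.1 f'.2).1, h2, (mem_hypPerp.1 f'.2).2⟩

/-- `exists_partner` twice, then correct `f'` by a multiple of `e` (or `exists_hyperbolic` in `hypPerp`). -/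
theorem fr_ex (p : Ln B e f) : ∃ e' f', Fr B e e' f f' := by
  obtain ⟨e', k1, k2⟩ := h.herm.exists_partner p.li 0 (fun i => by fin_cases i <;> simp [p.ee, h.cm p.ef])
  obtain ⟨f', k⟩ := h.fr_ex'' ⟨p.ee, k1, by simpa using k2 0⟩ p.ne' p.ff p.ef (h.cm (by simpa using k2 1))
  exact ⟨e', f', k⟩

/-- `hypPerp` has dimension `≥ 2`. -/
theorem fr_ex' (p : Hy B e e') : ∃ f f', Fr B e e' f f' := by
  have := h.herm.finrank_hypPerp p.ee p.ef
  obtain ⟨f, f0, hf⟩ := (h.herm.isHerm_hypPerp p.ee p.ef).exists_isotropic (by have := h.d4; omega)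
  exact ⟨f, h.fr_ex'' p (fun z => f0 (Subtype.ext z)) hf (mem_hypPerp.1 f.2).1 (mem_hypPerp.1 f.2).2⟩

theorem ln_ex (h0 : e ≠ 0) (he : B e e = 0) : ∃ f, Ln B e f :=
  let ⟨_, p⟩ := h.hy_ex h0 he; let ⟨f, _, q⟩ := h.fr_ex' p; ⟨f, h.fr_ln q⟩

omit [Finite F] [Finite V] [CharP F 2] in
/-- The Gram matrix of a frame. -/
theorem fr_all (p : Fr B e e' f f') : (B e e = 0 ∧ B e e' = 1 ∧ B e f = 0 ∧ B e f' = 0) ∧ (B e' e = 1 ∧ B e' e' = 0 ∧ B e' f = 0 ∧
    B e' f' = 0) ∧ (B f e = 0 ∧ B f e' = 0 ∧ B f f = 0 ∧ B f f' = 1) ∧ B f' e = 0 ∧ B f' e' = 0 ∧ B f' f = 1 ∧ B f' f' = 0 :=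
  ⟨⟨p.he.ee, p.he.ef, p.ef, p.ef'⟩, ⟨h.fe p.he, p.he.ff, p.e'f, p.e'f'⟩, ⟨h.cm p.ef, h.cm p.e'f, p.hf.ee, p.hf.ef⟩, h.cm p.ef',
    h.cm p.e'f', h.fe p.hf, p.hf.ff⟩

omit [Finite F] [Finite V] [CharP F 2] in
theorem fr_dec (p : Fr B e e' f f') (v : V) : ∃ w, B e w = 0 ∧ B e' w = 0 ∧ B f w = 0 ∧ B f' w = 0 ∧
    v = w + B e' v • e + B e v • e' + B f' v • f + B f v • f' :=
  ⟨v - B e' v • e - B e v • e' - B f' v • f - B f v • f', by simp [h.fr_all p], by simp [h.fr_all p], by simp [h.fr_all p],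
    by simp [h.fr_all p], by module⟩

/-- The complement of a frame. -/
theorem fr_perp (p : Fr B e e' f f') : ∃ Y : Submodule F V, (∀ w, w ∈ Y ↔ B e w = 0 ∧ B e' w = 0 ∧ B f w = 0 ∧ B f' w = 0) ∧
    IsHerm σ (B.domRestrict₁₂ Y Y) ∧ finrank F Y + 4 = finrank F V := by
  have li : LinearIndependent F ![e, e', f, f'] := LinearIndependent.of_pairwise_dual_eq_zero_one _ ![B e', B e, B f', B f]
    (fun i j k => by fin_cases i <;> fin_cases j <;> simp [h.fr_all p] at k ⊢) (fun i => by fin_cases i <;> simp [h.fr_all p])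
  have m : ∀ w, w ∈ perp B (Submodule.span F (Set.range ![e, e', f, f'])) ↔ B e w = 0 ∧ B e' w = 0 ∧ B f w = 0 ∧ B f' w = 0 :=
    fun w => by rw [mem_perp_span]; simp; tauto
  refine ⟨_, m, h.herm.restrict_perp (Submodule.disjoint_def.2 fun v hv hv' => ?_), ?_⟩
  · obtain ⟨c, rfl⟩ := (Submodule.mem_span_range_iff_exists_fun F).1 hv
    have := (m _).1 hv'
    simp [Fin.sum_univ_four, h.fr_all p] at this ⊢
    simp [this]
  · rw [add_comm, ← h.herm.finrank_add_finrank_perp (Submodule.span F (Set.range ![e, e', f, f'])), finrank_span_eq_card li]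
    rfl

/-- The complement of a frame is a line. -/
theorem fr_line (p : Fr B e e' f f') {r : V} (hr : B r r ≠ 0) (a1 : B e r = 0) (a2 : B e' r = 0) (a3 : B f r = 0) (a4 : B f' r = 0)
    (h1 : B e w = 0) (h2 : B e' w = 0) (h3 : B f w = 0) (h4 : B f' w = 0) : ∃ c : F, w = c • r := by
  obtain ⟨Y, m, -, d⟩ := h.fr_perp p
  obtain ⟨c, hc⟩ := (finrank_eq_one_iff_of_nonzero' (K := F) (V := Y) ⟨r, (m r).2 ⟨a1, a2, a3, a4⟩⟩
    (fun z => hr (by simp [show r = 0 from congrArg Subtype.val z]))).1 (by have := h.d5; omega) ⟨w, (m w).2 ⟨h1, h2, h3, h4⟩⟩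
  exact ⟨c, (congrArg Subtype.val hc).symm⟩

theorem f5_ex (p : Fr B e e' f f') : ∃ r, F5 B e e' f f' r := by
  obtain ⟨Y, m, hY, d⟩ := h.fr_perp p
  obtain ⟨z, hz⟩ := hm_noniso hY (by have := h.d5; omega)
  obtain ⟨a, ha⟩ := h.nrm (c := (B z z)⁻¹) (by rw [map_inv₀, h.herm.self_fixed])
  obtain ⟨h1, h2, h3, h4⟩ := (m z).1 z.2
  refine ⟨a • z, p, ?_, by simp [h1], by simp [h2], by simp [h3], by simp [h4]⟩
  have hz' : B z z ≠ 0 := hz
  simp only [map_smul, LinearMap.map_smulₛₗ, LinearMap.smul_apply, smul_eq_mul]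
  rw [← mul_assoc, ha, inv_mul_cancel₀ hz']

omit [Finite F] [Finite V] [CharP F 2] in
/-- The Gram matrix. -/
theorem f5_all {r : V} (p : F5 B e e' f f' r) : ((B e e = 0 ∧ B e e' = 1 ∧ B e f = 0 ∧ B e f' = 0) ∧ (B e' e = 1 ∧ B e' e' = 0 ∧
    B e' f = 0 ∧ B e' f' = 0) ∧ (B f e = 0 ∧ B f e' = 0 ∧ B f f = 0 ∧ B f f' = 1) ∧ B f' e = 0 ∧ B f' e' = 0 ∧ B f' f = 1 ∧ B f' f' = 0) ∧
    (B e r = 0 ∧ B e' r = 0 ∧ B f r = 0 ∧ B f' r = 0) ∧ (B r e = 0 ∧ B r e' = 0 ∧ B r f = 0 ∧ B r f' = 0) ∧ B r r = 1 :=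
  ⟨h.fr_all p.toFr, ⟨p.er, p.e'r, p.fr, p.f'r⟩, ⟨h.cm p.er, h.cm p.e'r, h.cm p.fr, h.cm p.f'r⟩, p.rr⟩

theorem f5_dec {r : V} (p : F5 B e e' f f' r) (v : V) : v = B e' v • e + B e v • e' + B f' v • f + B f v • f' + B r v • r := by
  obtain ⟨w, k1, k2, k3, k4, k5⟩ := h.fr_dec p.toFr v
  obtain ⟨c, rfl⟩ := h.fr_line p.toFr (by simp [p.rr]) p.er p.e'r p.fr p.f'r k1 k2 k3 k4
  have : B r v = c := by rw [k5]; simp [h.f5_all p]
  rw [this]; nth_rw 1 [k5]; abel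

theorem f5_symm {r : V} (p : F5 B e e' f f' r) : F5 B f f' e e' r := ⟨h.fr_symm p.toFr, p.rr, p.fr, p.f'r, p.er, p.e'r⟩

/-- `exists_apply_eq`. -/
theorem ln_w (p : Ln B e f) (a : F) : ∃ w, B e w = 0 ∧ B w f = a :=
  let ⟨_, f', q⟩ := h.fr_ex p; ⟨σ a • f', by simp [h.fr_all q], by simp [h.fr_all q, h.ss]⟩

/-- The torus of a hyperbolic pair in `UG`. -/
theorem tor_ex (p : Hy B e e') (ha : a ≠ 0) : ∃ t ∈ UG B, LinearMap.det (t : V →ₗ[F] V) = a / σ a ∧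
    ∀ v, t v = v + ((a + 1) * B e' v) • e + (((σ a)⁻¹ + 1) * B e v) • e' := by
  have ha' : σ a ≠ 0 := (map_ne_zero σ).2 ha
  refine ⟨tor B e e' p.ef (h.fe p) (Units.mk0 a ha) (Units.mk0 _ ha')⁻¹, h.herm.tor_mem_UG _ _ p.ee p.ff (by simp [ha']), ?_,
    fun v => by simp [tor_apply _ _ p.ff, p1]⟩
  rw [← LinearEquiv.coe_det, det_tor]; simp [div_eq_mul_inv]

/-- Product of two `tor`, determinant `a b / σ (a b)`. -/
theorem tq_ex (p : Fr B e e' f f') (ha : a ≠ 0) (hb : b ≠ 0) (hab : σ (a * b) = a * b) : ∃ x, Tq B e e' f f' a b x := by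
  obtain ⟨s, s1, s2, s3⟩ := h.tor_ex p.he ha
  obtain ⟨t, t1, t2, t3⟩ := h.tor_ex p.hf hb
  refine ⟨⟨s * t, mem_SUG'.2 ⟨mul_mem s1 t1, ?_⟩⟩, fun v => ?_⟩
  · rw [LinearEquiv.coe_toLinearMap_mul, map_mul, s2, t2, div_mul_div_comm, ← map_mul, hab, div_self (mul_ne_zero ha hb)]
  · simp only [LinearEquiv.mul_apply, s3, t3 v, map_add, map_smul, h.fr_all p, smul_eq_mul]
    module

omit [Finite F] [Finite V] in
theorem tq_ap (p : Fr B e e' f f') (k : Tq B e e' f f' a b x) : x.1 e = a • e ∧ x.1 e' = (σ a)⁻¹ • e' ∧ x.1 f = b • f ∧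
    x.1 f' = (σ b)⁻¹ • f' ∧ ∀ w, B e w = 0 → B e' w = 0 → B f w = 0 → B f' w = 0 → x.1 w = w := by
  refine ⟨?_, ?_, ?_, ?_, fun w h1 h2 h3 h4 => by simp [k w, h1, h2, h3, h4]⟩ <;> rw [k] <;> simp only [h.fr_all p, p1] <;> module

omit [Finite F] [Finite V] in
theorem tq_mul (p : Fr B e e' f f') (k : Tq B e e' f f' a b x) (k' : Tq B e e' f f' c d y) :
    Tq B e e' f f' (a * c) (b * d) (x * y) := fun v => by
  obtain ⟨h1, h2, h3, h4, -⟩ := h.tq_ap p k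
  simp only [mul_ap, k' v, map_add, map_smul, h1, h2, h3, h4, k v, p1, map_mul, mul_inv]
  module

omit [Finite F] [Finite V] in
theorem tq_comm (p : Fr B e e' f f') (k : Tq B e e' f f' a b x) (k' : Tq B e e' f f' c d y) : x * y = y * x :=
  J_ext fun v => by rw [h.tq_mul p k k' v, h.tq_mul p k' k v, mul_comm a, mul_comm b]

/-- `odd_unit`, `tq_mul`. -/
theorem tq_odd (p : Fr B e e' f f') (ha : a ≠ 0) (hb : b ≠ 0) (k : Tq B e e' f f' a b x) : ∃ n, x ^ (2 * n + 1) = 1 := by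
  have : ∀ n : ℕ, Tq B e e' f f' (a ^ n) (b ^ n) (x ^ n) := fun n => by
    induction n with
    | zero => intro v; simp [aa]
    | succ n ih => simpa only [pow_succ] using h.tq_mul p ih k
  obtain ⟨n, hn⟩ := odd_unit F
  exact ⟨n, J_ext fun v => by rw [this _ v]; simp [hn a ha, hn b hb, aa]⟩

/-- For `N l = 1`, `l² ≠ 1`, the map `w ↦ σ l • x w` has the eigenvalues `l⁻²`, `l⁻¹` on `hypPerp`: `w ↦ σ l • x w + w` is onto. -/
theorem tq_fpf {l : F} (p : Fr B e e' f f') (hl : l * σ l = 1) (hl' : l * l ≠ 1) (k : Tq B e e' f f' l l⁻¹ x)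
    (h1 : B e w = 0) (h2 : B e' w = 0) : ∃ v, B e v = 0 ∧ B e' v = 0 ∧ σ l • x.1 v + v = w := by
  obtain ⟨-, -, h3, h4, h5⟩ := h.tq_ap p k
  obtain ⟨w₀, k1, k2, k3, k4, k5⟩ := h.fr_dec p w
  have s : σ l = l⁻¹ := eq_inv_of_mul_eq_one_right hl
  have l0 : l ≠ 0 := left_ne_zero_of_mul_eq_one hl
  have n2 : 1 + l ^ 2 ≠ 0 := fun z => hl' (by rw [CharTwo.add_eq_zero.1 z, sq])
  have n1 : 1 + l ≠ 0 := fun z => hl' (by rw [← CharTwo.add_eq_zero.1 z, mul_one])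
  refine ⟨(l / (1 + l)) • w₀ + (l ^ 2 / (1 + l ^ 2)) • (B f' w • f + B f w • f'), by simp [k1, h.fr_all p], by simp [k2, h.fr_all p], ?_⟩
  conv_rhs => rw [k5]
  simp only [map_add, map_smul, h3, h4, h5 w₀ k1 k2 k3 k4, map_inv₀, inv_inv, s, h1, h2]
  match_scalars <;> field_simp

/-- The diagonal elements. -/
theorem dg_ex {r : V} (p : F5 B e e' f f' r) (ha : a ≠ 0) (hb : b ≠ 0) (hc : c * σ c = 1) (hd : a / σ a * (b / σ b) * c = 1) :
    ∃ x : SUG B, x.1 e = a • e ∧ x.1 e' = (σ a)⁻¹ • e' ∧ x.1 f = b • f ∧ x.1 f' = (σ b)⁻¹ • f' ∧ x.1 r = c • r := by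
  obtain ⟨t, t1, t2, t3⟩ := h.tor_ex p.he ha
  obtain ⟨u, u1, u2, u3⟩ := h.tor_ex p.hf hb
  obtain ⟨q, q1, q2, q3, q4, -⟩ := h.herm.exists_quasiReflection (z := r) (by simp [p.rr]) hc
  have z := h.f5_all p
  refine ⟨⟨t * u * q, mem_SUG'.2 ⟨mul_mem (mul_mem t1 u1) q1, ?_⟩⟩, ?_, ?_, ?_, ?_, ?_⟩
  · simp only [LinearEquiv.coe_toLinearMap_mul, map_mul, t2, u2, q2, hd]
  all_goals simp only [LinearEquiv.mul_apply, q3, q4 _ z.2.2.1.1, q4 _ z.2.2.1.2.1, q4 _ z.2.2.1.2.2.1, q4 _ z.2.2.1.2.2.2, map_smul, u3, t3,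
    map_add, z, p1]
  all_goals module

/-- `exists_SUG_vec`. -/
theorem vec (hu0 : u ≠ 0) (hv0 : v ≠ 0) (hu : B u u = 0) (hv : B v v = 0) : ∃ x : SUG B, x.1 u = v :=
  let ⟨g, a, b⟩ := h.herm.exists_SUG_vec (by have := h.d4; omega) hu0 hv0 (hu.trans hv.symm); ⟨⟨g, a⟩, b⟩

omit [Finite F] [Finite V] [CharP F 2] in
theorem ln_gram (p : Ln B e f) (p' : Ln B e₁ f₁) (i j : Fin 2) : B (![e, f] i) (![e, f] j) = B (![e₁, f₁] i) (![e₁, f₁] j) := by
  fin_cases i <;> fin_cases j <;> simp [p.ee, p.ff, p.ef, h.cm p.ef, p'.ee, p'.ff, p'.ef, h.cm p'.ef]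

/-- Witt in `UG`; correct the determinant by `tor` on `(f₁, f₁')` with a scalar of norm `1` (determinant `l²`). -/
theorem ln_tr (p : Ln B e f) (p' : Ln B e₁ f₁) : ∃ (x : SUG B) (a : F), a ≠ 0 ∧ x.1 e = e₁ ∧ x.1 f = a • f₁ := by
  obtain ⟨g, g1, g2⟩ := h.herm.witt_family p.li p'.li (h.ln_gram p p')
  obtain ⟨e', f', q⟩ := h.fr_ex p'
  obtain ⟨n, -, hq⟩ := h.bar
  obtain ⟨a, a0, ha⟩ := hq.exists_div_eq (h.herm.det_mul_conj g1)
  obtain ⟨t, t1, t2, t3⟩ := h.tor_ex q.hf a0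
  refine ⟨⟨t * g, mem_SUG'.2 ⟨mul_mem t1 g1, ?_⟩⟩, a, a0, ?_, ?_⟩
  · rw [LinearEquiv.coe_toLinearMap_mul, map_mul, t2, div_mul_eq_mul_div, mul_comm, ← ha, div_self ((map_ne_zero σ).2 a0)]
  · simp [show g e = e₁ from g2 0, t3, h.fr_all q]
  · simp only [LinearEquiv.mul_apply, show g f = f₁ from g2 1, t3, h.fr_all q, p1]; module

/-- `witt_family_SUG'`. -/
theorem ln_tr' (h5 : 5 ≤ finrank F V) (p : Ln B e f) (p' : Ln B e₁ f₁) : ∃ x : SUG B, x.1 e = e₁ ∧ x.1 f = f₁ :=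
  let ⟨g, k⟩ := hm_wsu h.herm p.li p'.li (h.ln_gram p p') (by simp only [Fintype.card_fin]; omega); ⟨g, k 0, k 1⟩

/-- `e ↔ f`, `e' ↔ f'` (`ei f e' 0`, `ei e f' 0` generate it: `r s r`). -/
theorem ln_swap (p : Ln B e f) : ∃ x : SUG B, x.1 e = f ∧ x.1 f = e := by
  obtain ⟨e', f', q⟩ := h.fr_ex p
  have r := h.ei_ap (Va.zero p.ff q.he.ff (h.cm q.e'f))
  have s := h.ei_ap (Va.zero p.ee q.hf.ff q.ef')
  refine ⟨ei B f e' 0 * ei B e f' 0 * ei B f e' 0, ?_, ?_⟩ <;> simp [mul_ap, r, s, h.fr_all q, -MulMemClass.coe_mul]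
  · linear_combination (norm := module) vv F e + vv F f
  · linear_combination (norm := module) vv F f

/-- Witt for hyperbolic pairs (`exists_SUG_pair`). -/
theorem hy_tr (p : Hy B e e') (p' : Hy B e₁ f₁) : ∃ x : SUG B, x.1 e = e₁ ∧ x.1 e' = f₁ :=
  let ⟨g, a, b⟩ := h.herm.exists_SUG_pair (by have := h.d4; omega) (p.ee.trans p'.ee.symm) (p.ff.trans p'.ff.symm)
    (p.ef.trans p'.ef.symm) (by simp [p.ee, p.ef, h.fe p]); ⟨⟨g, a⟩, b⟩

/-- Isotropic vectors span `hypPerp` additively: in a frame, `w = w₀ + a f + b f'`, `w₀ = (w₀ + f + c f') + f + c f'`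
with `c + σ c = B w₀ w₀`. -/
theorem indH (p : Hy B e e') {P : V → Prop} (h0 : ∀ u, B u u = 0 → B e u = 0 → B e' u = 0 → P u)
    (hadd : ∀ u v, B e u = 0 → B e' u = 0 → B e v = 0 → B e' v = 0 → P u → P v → P (u + v)) (h1 : B e w = 0)
    (h2 : B e' w = 0) : P w :=
  hm_indY (h.herm.isHerm_hypPerp p.ee p.ef) (by have := h.herm.finrank_hypPerp p.ee p.ef; have := h.d4; omega)
    (fun u hu k => h0 u k (mem_hypPerp.1 hu).1 (mem_hypPerp.1 hu).2) (fun u hu v hv => hadd u v (mem_hypPerp.1 hu).1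
      (mem_hypPerp.1 hu).2 (mem_hypPerp.1 hv).1 (mem_hypPerp.1 hv).2) (mem_hypPerp.2 ⟨h1, h2⟩)

theorem ind1 (_he : B e e = 0) {P : V → Prop} (h0 : ∀ u, B u u = 0 → B e u = 0 → P u)
    (hadd : ∀ u v, B e u = 0 → B e v = 0 → P u → P v → P (u + v)) (h1 : B e w = 0) : P w :=
  hm_ind1 h.herm h.d4 h0 hadd h1

end Ok

end Cfsg.Lib.UF
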