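import Cfsg.Agent.Lib.UF.MA
import Cfsg.Agent.Lib.Unitary.Aut
import Cfsg.Agent.Lib.Unitary.Descent

/-!
# S1778 (U₅): automorphisms of the model.  See `docs/UF.md`.
-/

set_option autoImplicit false
set_option linter.unusedSectionVars false

noncomputable section

namespace Cfsg.Lib.UF

open Module Subgroup G2S Cfsg.Lib.BG Cfsg.Lib.GW GSt.SLa Cfsg.Lib.Unitary
open scoped commutatorElement Cfsg.Lib.Transfer

variable {F V : Type*} [Field F] [CharP F 2] [Finite F] [AddCommGroup V] [Module F V] [Finite V] {σ : F →+* F}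
  {B : V →ₛₗ[σ] V →ₗ[F] F} {e w : V} {c γ : F} {x y : SUG B} {I : Submodule F V} {α β : MulAut (SUG B)} {Φ Φ' : V ≃+ V}
  {θ θ' : RingAut F}

namespace Ind
omit [CharP F 2] [Finite F] [Finite V]

theorem mul (p : Ind B α Φ θ) (p' : Ind B β Φ' θ') : Ind B (α * β) (Φ'.trans Φ) (θ * θ') :=
  ⟨fun s v => by simp [p.smul, p'.smul], fun u v => by simp [p.iso, p'.iso], fun x v => by simp [p.act, p'.act]⟩

theorem conj (x : SUG B) : Ind B (MulAut.conj x) x.1.toAddEquiv 1 :=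
  ⟨fun s v => map_smul x.1 s v, fun u v => UF.iso x u v, fun y v => show x.1 (y.1 ((x⁻¹).1 (x.1 v))) = _ by rw [ap_inv]; rfl⟩

theorem inv (p : Ind B α Φ θ) : Ind B α⁻¹ Φ.symm θ⁻¹ :=
  ⟨fun s v => Φ.injective (by simp [p.smul]), fun u v => θ.injective (by simp [← p.iso]),
    fun x v => Φ.injective (by simp [← p.act])⟩

theorem pow (p : Ind B α Φ θ) (n : ℕ) : ∃ Φ' : V ≃+ V, Ind B (α ^ n) Φ' (θ ^ n) ∧ ∀ v, Φ' v = Φ^[n] v := by
  induction n with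
  | zero => exact ⟨.refl V, ⟨fun _ _ => rfl, fun _ _ => rfl, fun _ _ => rfl⟩, fun _ => rfl⟩
  | succ n ih => obtain ⟨Φ', q, k⟩ := ih; exact ⟨Φ.trans Φ', by simpa only [pow_succ] using q.mul p, fun v => k _⟩

/-- Multiply by a scalar of norm `1`. -/
theorem scale (p : Ind B α Φ θ) {l : F} (hl : l * σ l = 1) : ∃ Φ' : V ≃+ V, Ind B α Φ' θ ∧ ∀ v, Φ' v = l • Φ v :=
  ⟨Φ.trans (LinearEquiv.smulOfNeZero F V l (left_ne_zero_of_mul_eq_one hl)).toAddEquiv, ⟨fun s v => by simp [p.smul, smul_comm l],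
    fun u v => by simp [p.iso, ← mul_assoc, hl], fun x v => by simp [p.act]⟩, fun _ => rfl⟩

theorem rg (p : Ind B α Φ θ) (v : V) : Φ v ∈ rg B (α x) ↔ v ∈ rg B x := by
  constructor
  · rintro ⟨w, k⟩
    obtain ⟨u, rfl⟩ := Φ.surjective w
    exact ⟨u, Φ.injective (by rw [← k, dev_apply, dev_apply, map_sub, p.act])⟩
  · rintro ⟨u, rfl⟩
    exact ⟨Φ u, by rw [dev_apply, dev_apply, map_sub, p.act]⟩

theorem fix (p : Ind B α Φ θ) : α x = x ↔ ∀ v, x.1 (Φ v) = Φ (x.1 v) :=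
  ⟨fun k v => by rw [← p.act, k], fun k => J_ext fun v => by obtain ⟨u, rfl⟩ := Φ.surjective v; rw [p.act, k]⟩

theorem lin (p : Ind B α Φ 1) : ∃ g ∈ UG B, (∀ v, g v = Φ v) ∧ ∀ hg : g ∈ SUG B, α = MulAut.conj ⟨g, hg⟩ :=
  ⟨Φ.toLinearEquiv p.smul, p.iso, fun _ => rfl, fun hg => MulEquiv.ext fun x => J_ext fun v => by
    obtain ⟨u, rfl⟩ := Φ.surjective v
    exact (p.act x u).trans ((conj ⟨_, hg⟩).act x u).symm⟩
end Ind

theorem Ind.lin' {n : ℕ} (p : Ind B α Φ 1) (k : ∀ v, Φ^[2 ^ n] v = v) : ∃ l : SUG B, (∀ v, l.1 v = Φ v) ∧ α = MulAut.conj l := by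
  obtain ⟨g, g1, g2, g3⟩ := p.lin
  have e : g ^ 2 ^ n = 1 := LinearEquiv.ext fun v => by rw [LinearEquiv.pow_apply, show ⇑g = Φ from funext g2, k]; rfl
  have d : g ∈ SUG B := mem_SUG'.2 ⟨g1, eq_one_of_pow_char_pow 2 (m := n) (by
    rw [← LinearEquiv.coe_det, ← Units.val_pow_eq_pow_val, ← map_pow, e, map_one, Units.val_one])⟩
  exact ⟨⟨g, d⟩, g2, g3 d⟩

/-- Conjugation by a semilinear bijection. -/
def cjL (Φ : V ≃+ V) (θ : RingAut F) (h1 : ∀ s v, Φ (s • v) = θ s • Φ v) : (V ≃ₗ[F] V) →* (V ≃ₗ[F] V) where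
  toFun g := ((Φ.symm.trans g.toAddEquiv).trans Φ).toLinearEquiv fun s v => by
    obtain ⟨u, rfl⟩ := Φ.surjective v
    obtain ⟨t, rfl⟩ := θ.surjective s
    simp [← h1]
  map_one' := by ext; simp
  map_mul' _ _ := by ext; simp

theorem cjL_ap (h1 : ∀ s v, Φ (s • v) = θ s • Φ v) (g : V ≃ₗ[F] V) (v : V) : cjL Φ θ h1 g (Φ v) = Φ (g v) := by simp [cjL]

theorem root_ex (n : ℕ) (c : F) : ∃ a, a ^ 2 ^ n = c := by
  induction n generalizing c with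
  | zero => exact ⟨c, by simp⟩
  | succ n ih => obtain ⟨b, rfl⟩ := sqrt_ex c; obtain ⟨a, rfl⟩ := ih b; exact ⟨a, by rw [pow_succ, pow_mul, pow_two]⟩

theorem Q_smul {f : V} {a : F} (ha : a ≠ 0) (k : f = a • e) (hy : y ∈ Q B f) : y ∈ Q B e := by
  simpa [mem_Q] using conj_mem_QE (one_mem _) ha (g := 1) k hy

theorem scal0 {M : V →+ V} {f : V} (he : e ∈ I) (hf : f ∈ I) (p : Ln B e f) (k : ∀ w ∈ I, ∃ a : F, M w = a • w) :
    ∃ a : F, ∀ w ∈ I, M w = a • w := by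
  obtain ⟨a, ha⟩ := k e he
  have n : ∀ w ∈ I, w ∉ F ∙ e → M w = a • w := fun w m hw => by
    obtain ⟨b, hb⟩ := k w m
    obtain ⟨c, hc⟩ := k (e + w) (add_mem he m)
    rw [map_add, ha, hb] at hc
    have := LinearIndependent.pair_iff.1 ((LinearIndependent.pair_iff' p.ne).2 fun t ht => hw (Submodule.mem_span_singleton.2 ⟨t, ht⟩))
      (a - c) (b - c) (by linear_combination (norm := module) hc)
    rw [hb, sub_eq_zero.1 this.1, sub_eq_zero.1 this.2]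
  refine ⟨a, fun w m => ?_⟩
  by_cases hw : w ∈ F ∙ e
  · have := n (w + f) (add_mem m hf) fun z => p.nm ((Submodule.add_mem_iff_right _ hw).1 z)
    rwa [map_add, n f hf p.nm, smul_add, add_left_inj] at this
  · exact n w m hw

theorem ti_ln (hI : Ti B I) (h2 : 2 ≤ finrank F I) : ∃ e ∈ I, ∃ f ∈ I, Ln B e f := by
  obtain ⟨e, he, e0⟩ := Submodule.exists_mem_ne_zero_of_ne_bot (p := I) (by rintro rfl; simp at h2)
  obtain ⟨f, hf, n⟩ := SetLike.not_le_iff_exists.1 fun k : I ≤ F ∙ e => by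
    have := Submodule.finrank_mono k
    rw [finrank_span_singleton e0] at this; omega
  exact ⟨e, he, f, hf, hI he e he, hI hf f hf, hI hf e he, e0, n⟩

namespace Ok
variable (h : Ok B)
include h

/-- `IsBar.comm`. -/
theorem θσ (θ : RingAut F) (a : F) : θ (σ a) = σ (θ a) := let ⟨_, _, hq⟩ := h.bar; hq.comm θ a

/-- A semilinear isometry normalizes `SUG B`: generators `tv` (`gen_tv`), or the determinant in a basis. -/
theorem ind_of (h1 : ∀ s v, Φ (s • v) = θ s • Φ v) (h2 : ∀ u v, B (Φ u) (Φ v) = θ (B u v)) : ∃ α, Ind B α Φ θ := by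
  obtain ⟨n, -, hq⟩ := h.bar
  have k : SUG B ≤ (SUG B).comap (cjL Φ θ h1) := (h.herm.TG_eq_SUG hq (by have := h.d4; omega)).ge.trans (TG_le fun u c hu hc => by
    have : cjL Φ θ h1 (transv B u c hu hc) = transv B (Φ u) (θ c) (by rw [h2, hu, map_zero]) (by rw [← h.θσ, ← map_add, hc, map_zero]) :=
      LinearEquiv.ext fun v => by obtain ⟨v, rfl⟩ := Φ.surjective v; simp [cjL_ap, h1, h2]
    exact mem_comap.2 (this ▸ h.herm.transv_mem_SUG ..))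
  let f : SUG B →* SUG B := ((cjL Φ θ h1).comp (SUG B).subtype).codRestrict _ fun x => k x.2
  have hf : ∀ x v, (f x).1 (Φ v) = Φ (x.1 v) := fun x v => cjL_ap h1 x.1 v
  exact ⟨MulEquiv.ofBijective f (Finite.injective_iff_bijective.1 fun x y e => J_ext fun v => Φ.injective (by rw [← hf, ← hf, e])),
    h1, h2, hf⟩

theorem ind_va (p : Ind B α Φ θ) : Va B (Φ e) (Φ w) (θ γ) ↔ Va B e w γ :=
  ⟨fun q => ⟨by simpa [p.iso] using q.ee, by simpa [p.iso] using q.ew, θ.injective (by rw [map_add, h.θσ, q.tr, p.iso])⟩,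
    fun q => ⟨by simp [p.iso, q.ee], by simp [p.iso, q.ew], by rw [← h.θσ, ← map_add, q.tr, p.iso]⟩⟩

theorem ind_ei (p : Ind B α Φ θ) (e w : V) (γ : F) : α (ei B e w γ) = ei B (Φ e) (Φ w) (θ γ) := by
  by_cases q : Va B e w γ
  · refine J_ext fun v => ?_
    obtain ⟨v, rfl⟩ := Φ.surjective v
    simp only [p.act, h.ei_ap q, h.ei_ap ((h.ind_va p).2 q), map_add, p.smul, p.iso, map_mul]
  · rw [ei_junk q, ei_junk (mt (h.ind_va p).1 q), map_one]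

theorem ind_tv (p : Ind B α Φ θ) (e : V) (c : F) : α (tv B e c) = tv B (Φ e) (θ c) := by
  rw [tv, h.ind_ei p, map_zero, tv]

theorem perf : commutator (SUG B) = ⊤ :=
  let ⟨_, _, hq⟩ := h.bar; h.herm.commutator_SUG_eq_top hq (by have := h.d4; omega) (by have := h.d4; omega)

theorem qs (N : Subgroup (SUG B)) (hN : N.Normal) : N = ⊤ ∨ N ≤ center (SUG B) :=
  let ⟨_, _, hq⟩ := h.bar; (h.herm.normal_SUG hq (by have := h.d4; omega) (by have := h.d4; omega) N).symm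

/-- `card_center_SUG`, `q + 1` is odd. -/
theorem oddZ : Odd (Nat.card (center (SUG B))) := by
  obtain ⟨n, hn, hq⟩ := h.bar
  rw [h.herm.card_center_SUG hq (by have := h.d4; omega)]
  exact Odd.of_dvd_nat (Even.add_one (Nat.even_pow.2 ⟨even_two, by omega⟩)) (Nat.gcd_dvd_right _ _)

/-- `exists_semilinear`, `ind_of`. -/
theorem lift_ind (β : MulAut (SUG B ⧸ center (SUG B))) : ∃ α Φ θ, Ind B α Φ θ ∧ ∀ x : SUG B, β x = (α x : SUG B) := by
  obtain ⟨n, -, hq⟩ := h.bar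
  obtain ⟨θ, Φ, h1, h2, k⟩ := h.herm.exists_semilinear hq (by have := h.d4; omega) (by have := h.d4; omega) β
  obtain ⟨α, p⟩ := h.ind_of h1 h2
  refine ⟨α, Φ, θ, p, fun x => ?_⟩
  obtain ⟨y, ⟨_, hy, r⟩, k'⟩ := k x.1 x.2
  rw [show α x = ⟨y, hy⟩ from J_ext fun v => by obtain ⟨v, rfl⟩ := Φ.surjective v; rw [p.act, k'], ← r]

/-- `lift_ind` for the induced automorphism (`quotCenterCongr`); two automorphisms equal modulo the centre are equal (`perf`). -/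
theorem ind_ex (α : MulAut (SUG B)) : ∃ Φ θ, Ind B α Φ θ := by
  obtain ⟨β, Φ, θ, p, k⟩ := h.lift_ind (quotCenterCongr α)
  obtain rfl : α = β := MulEquiv.ext fun x => by
    simpa using Comp.eq_self_of_perfect_of_central h.perf (α * β⁻¹).toMonoidHom (fun y => by
      simpa [div_eq_mul_inv] using QuotientGroup.eq_iff_div_mem.1 (k (β⁻¹ y))) (β x)
  exact ⟨Φ, θ, p⟩

/-- `eq_smul_of_semilinear`. -/
theorem ind_one (p : Ind B 1 Φ θ) : θ = 1 ∧ ∃ l, l * σ l = 1 ∧ ∀ v, Φ v = l • v := by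
  obtain ⟨rfl, l, k⟩ := h.herm.eq_smul_of_semilinear (by have := h.d4; omega) (h.θσ θ) Φ p.smul p.iso fun x hx =>
    ⟨1, fun v => by rw [one_smul]; exact (p.act ⟨x, hx⟩ v).symm⟩
  obtain ⟨e, h0, he⟩ := h.iso_ex
  obtain ⟨e', q⟩ := h.hy_ex h0 he
  exact ⟨rfl, l, by simpa [k, q.ef] using p.iso e e', k⟩

theorem ind_uniq (p : Ind B α Φ θ) (p' : Ind B α Φ' θ') : θ = θ' :=
  mul_inv_eq_one.1 (h.ind_one (Φ := Φ'.symm.trans Φ) (mul_inv_cancel α ▸ p.mul p'.inv)).1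

/-- The field type. -/
def Th : MulAut (SUG B) →* RingAut F := MonoidHom.mk' (fun α => (h.ind_ex α).choose_spec.choose) fun α β =>
  h.ind_uniq (h.ind_ex _).choose_spec.choose_spec ((h.ind_ex α).choose_spec.choose_spec.mul (h.ind_ex β).choose_spec.choose_spec)

theorem ind_Th (α : MulAut (SUG B)) : ∃ Φ, Ind B α Φ (h.Th α) := ⟨_, (h.ind_ex α).choose_spec.choose_spec⟩

theorem Th_eq (p : Ind B α Φ θ) : h.Th α = θ := let ⟨_, k⟩ := h.ind_Th α; h.ind_uniq k p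

/-- If `α ^ r = 1`, `r = 2 ^ n` and `σ ∈ ⟨θ⟩` or `θ = 1`: `Φ ^ r = l`, `N l = 1`.  `θ = 1`: `l = a ^ r` with `N a = 1` (odd order),
scale by `a⁻¹`. -/
theorem ind_lin {n : ℕ} (k : α ^ 2 ^ n = 1) (h1 : h.Th α = 1) : ∃ Φ : V ≃+ V, Ind B α Φ 1 ∧ ∀ v, Φ^[2 ^ n] v = v := by
  obtain ⟨Φ, p⟩ := h.ind_Th α
  rw [h1] at p
  obtain ⟨Φ', q, k'⟩ := p.pow (2 ^ n)
  obtain ⟨-, l, hl, k''⟩ := h.ind_one (k ▸ q)
  obtain ⟨a, rfl⟩ := root_ex n l
  have ha : a * σ a = 1 := eq_one_of_pow_char_pow 2 (m := n) (by rw [mul_pow, ← map_pow, hl])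
  obtain ⟨Ψ, r, kr⟩ := p.scale (l := σ a) (by rw [h.ss, mul_comm, ha])
  have : ∀ m v, Ψ^[m] v = σ a ^ m • Φ^[m] v := fun m v => by
    induction m with
    | zero => simp
    | succ m ih => simp only [Function.iterate_succ_apply', ih, kr, p.smul, smul_smul, pow_succ', RingAut.one_apply]
  exact ⟨Ψ, r, fun v => by rw [this, ← k', k'', smul_smul, ← mul_pow, mul_comm, ha, one_pow, one_smul]⟩

/-- The only involution of `RingAut F` (`eq_bar_of_orderOf`). -/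
theorem eq_σ (h2 : θ * θ = 1) (h1 : θ ≠ 1) (a : F) : θ a = σ a := by
  obtain ⟨n, -, hσ⟩ := h.bar
  obtain ⟨q', hq'⟩ := exists_isBar_of_invol (σ := (θ : F →+* F)) (fun e => h1 (RingEquiv.ext fun a => DFunLike.congr_fun e a))
    fun a => DFunLike.congr_fun h2 a
  have e : q' = 2 ^ n := Nat.pow_left_injective two_ne_zero (hq'.card.symm.trans hσ.card)
  exact (hq'.eq a).trans (e ▸ (hσ.eq a).symm)

theorem fix_σ {n : ℕ} (k : θ ^ 2 ^ n = 1) (h1 : θ ≠ 1) {l : F} (hl : θ l = l) : σ l = l := by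
  induction n generalizing θ with
  | zero => exact absurd (by simpa using k) h1
  | succ n ih =>
    by_cases h2 : θ * θ = 1
    · rw [← h.eq_σ h2 h1, hl]
    · exact ih (by rw [← pow_two, ← pow_mul, ← pow_succ', k]) h2 (by rw [RingAut.mul_apply, hl, hl])

/-- `l` commutes with `Φ`: `θ l = l`, so `σ l = l` (`σ` is the involution of `⟨θ⟩`), `l² = 1`. -/
theorem ind_out {n : ℕ} (p : Ind B α Φ θ) (k : α ^ 2 ^ n = 1) (h1 : θ ≠ 1) (v : V) : Φ^[2 ^ n] v = v := by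
  obtain ⟨Φ', q, k'⟩ := p.pow (2 ^ n)
  obtain ⟨t, l, hl, k''⟩ := h.ind_one (k ▸ q)
  obtain ⟨e, h0, -⟩ := h.iso_ex
  have c : Φ (Φ' e) = Φ' (Φ e) := by rw [k', k', ← Function.iterate_succ_apply' Φ, Function.iterate_succ_apply]
  rw [k'', k'', p.smul] at c
  have := h.fix_σ t h1 (smul_left_injective F (by simpa using h0) c)
  rw [← k', k'', sq_inj (a := l) (b := 1) (by rw [mul_one, ← hl, this]), one_smul]

/-- `ind_lin`: `det Φ ^ 2 ^ n = 1`, so `det Φ = 1`. -/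
theorem inner {n : ℕ} (k : α ^ 2 ^ n = 1) (h1 : h.Th α = 1) : ∃ l, α = MulAut.conj l :=
  let ⟨_, p, q⟩ := h.ind_lin k h1; let ⟨l, _, r⟩ := p.lin' q; ⟨l, r⟩

/-- `tri_ex`. -/
theorem tri : ∃ u a b : SUG B, u * u = 1 ∧ u ≠ 1 ∧ b * u * b⁻¹ = u * (a * u * a⁻¹) := by
  obtain ⟨e, h0, he⟩ := h.iso_ex
  obtain ⟨f, q⟩ := h.ln_ex h0 he
  obtain ⟨s, a, b, -, a1, b1, a2, b2⟩ := h.tri_ex q
  have := h.ei_tri he q.ff q.ef a1 a2 b1 b2
  refine ⟨_, a, b, this.1, fun k => ?_, this.2⟩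
  obtain ⟨t, ht, -⟩ := h.ei_inj h0 (.tv he (map_zero σ)) (.zero he q.ff q.ef) ((h.ei_zero e).trans k.symm)
  exact q.nm (Submodule.mem_span_singleton.2 ⟨t, by rw [ht, zero_add]⟩)

/-- The basic model. -/
def bm : BM (SUG B) (RingAut F) where
  Θ := h.Th
  cyc := Linear.isCyclic_ringAut
  fin := Linear.finite_ringAut
  perf := h.perf
  oddZ := h.oddZ
  qs := h.qs
  Θ_conj l := h.Th_eq (.conj l)
  inner _ _ := h.inner
  tri := h.tri
  lift β := let ⟨α, _, _, _, k⟩ := h.lift_ind β; ⟨α, k⟩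

theorem bm_Θ : h.bm.Θ = h.Th := rfl

/-- `Φ` maps subspaces to subspaces of the same order (`Ind.rg`, `Module.natCard_eq_pow_finrank`). -/
theorem rk_aut (α : MulAut (SUG B)) (x : SUG B) : rk B (α x) = rk B x := by
  obtain ⟨Φ, θ, p⟩ := h.ind_ex α
  have := Nat.card_congr (Φ.toEquiv.subtypeEquiv (p := (· ∈ rg B x)) (q := (· ∈ rg B (α x))) fun v => (p.rg v).symm)
  rw [Module.natCard_eq_pow_finrank (K := F) (V := rg B x), Module.natCard_eq_pow_finrank (K := F) (V := rg B (α x))] at this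
  exact (Nat.pow_right_injective Finite.one_lt_card this).symm

/-- `tv_eq`: `Φ e = a e`. -/
theorem aut_z (h0 : e ≠ 0) (he : B e e = 0) (hc : σ c = c) (c0 : c ≠ 0) {d : F} (hd : σ d = d) (k : α (tv B e c) = tv B e d) :
    (∀ x ∈ Stab B e, α x ∈ Stab B e) ∧ ∀ x ∈ Q B e, α x ∈ Q B e := by
  obtain ⟨Φ, θ, p⟩ := h.ind_ex α
  obtain ⟨a, a0, ha, -⟩ := h.tv_eq (by simpa using h0) (by simp [p.iso, he]) he (by rw [← h.θσ, hc]) hd (by simpa using c0)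
    ((h.ind_tv p e c).symm.trans k)
  refine ⟨fun x hx => mem_Stab.2 ?_, fun x hx => ?_⟩
  · rw [ha, map_smul, p.act, mem_Stab.1 hx]
  · obtain ⟨w, γ, -, rfl⟩ := h.Q_ex' h0 he hx
    exact Q_smul (inv_ne_zero a0) ((eq_inv_smul_iff₀ a0).2 ha.symm) (h.ind_ei p .. ▸ h.ei_mem_Q ..)

/-- `Φ e = l e`; `ei e (σ l Φ w) (N l θ γ) = ei e w (γ + d)` gives `σ l Φ w ≡ w mod e`, so `θ = 1`, `N l = 1` (compare `B w w'`).
`σ l Φ ∈ QE B e`. -/
theorem CQ' (h0 : e ≠ 0) (he : B e e = 0) (k : ∀ u ∈ Q B e, ∃ d, σ d = d ∧ α u = u * tv B e d) : ∃ u ∈ Q B e, α = MulAut.conj u := by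
  obtain ⟨Φ, θ, p⟩ := h.ind_ex α
  obtain ⟨l, hl⟩ : ∃ l : F, Φ e = l • e := by
    obtain ⟨d, hd, k1⟩ := k _ (h.tv_mem_Q e 1)
    rw [h.ind_tv p, ← h.tv_add he (map_one σ) hd] at k1
    obtain ⟨a, a0, ha, -⟩ := h.tv_eq (by simpa using h0) (by simp [p.iso, he]) he (by simp) (by simp [hd]) (by simp) k1
    exact ⟨a⁻¹, (eq_inv_smul_iff₀ a0).2 ha.symm⟩
  have l0 : l ≠ 0 := by rintro rfl; simp [h0] at hl
  have k2 : ∀ w, B e w = 0 → ∃ a : F, σ l • Φ w = w + a • e := fun w hw => by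
    obtain ⟨γ, q⟩ := h.va_ex he hw
    obtain ⟨d, hd, k1⟩ := k _ (h.ei_mem_Q e w γ)
    have q1 := (h.ind_va p).2 q
    have q2 : Va B e (Φ w) (θ γ) := ⟨he, by simpa [hl, l0] using q1.ew, q1.tr⟩
    rw [h.ind_ei p, hl, h.ei_smul q2, h.ei_tv q hd] at k1
    exact (h.ei_inj h0 (h.va_add q hd) (h.va_smul q2 l) k1.symm).imp fun _ => And.left
  obtain ⟨e', r⟩ := h.hy_ex h0 he
  obtain ⟨f, f', q⟩ := h.fr_ex' r
  have k3 : ∀ s, l * σ l * θ s = s := fun s => by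
    obtain ⟨a, ha⟩ := k2 f q.ef
    obtain ⟨b, hb⟩ := k2 (s • f') (by simp [q.ef'])
    have := congrArg₂ (fun u v => B u v) ha hb
    simp [p.iso, h.fr_all q, h.ss] at this
    linear_combination this
  have n : l * σ l = 1 := by simpa using k3 1
  obtain rfl : θ = 1 := RingEquiv.ext fun s => by simpa [n] using k3 s
  obtain ⟨Ψ, r, kr⟩ := p.scale (l := σ l) (by rw [h.ss, mul_comm, n])
  obtain ⟨g, g1, g2, g3⟩ := r.lin
  have m : g ∈ QE B e := ⟨g1, by rw [g2, kr, hl, smul_smul, mul_comm, n, one_smul], fun v hv => by rw [g2, kr]; exact k2 v hv⟩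
  exact ⟨⟨g, h.herm.QE_le_SUG h0 he m⟩, m, g3 _⟩

/-- `CQ'`, `zq`. -/
theorem CQ (h0 : e ≠ 0) (he : B e e = 0) (k : ∀ u ∈ Q B e, α u = u) : ∃ c, σ c = c ∧ α = MulAut.conj (tv B e c) := by
  obtain ⟨u, hu, rfl⟩ := h.CQ' h0 he fun u hu => ⟨0, map_zero σ, by rw [k u hu, h.tv_zero, mul_one]⟩
  obtain ⟨c, hc, rfl⟩ := h.zq h0 he (Q_le hu) fun v hv => cjf.1 (k v hv)
  exact ⟨c, hc, rfl⟩

/-- `α` fixes `tv v 1`, `v ∈ I`: `Φ v ∈ F v` on `I` (dimension `≥ 2`), so `θ = 1` and `Φ = l` on `I`, `N l = 1`; scale to `l = 1`.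
`α` fixes `ei e w γ ∈ Fix I` (`e ∈ I`, `w ∈ I^⊥`): `Φ w - w ∈ F e ∩ F f = 0`.  `Φ` fixes `I^⊥`, `(Φ - 1)² = 0`, `det Φ = 1`, `W_of_fix`. -/
theorem CR (hI : Ti B I) (h2 : 2 ≤ finrank F I) (k : ∀ x ∈ Fix B I, α x = x) : ∃ w ∈ W B I, α = MulAut.conj w := by
  obtain ⟨Φ, θ, p⟩ := h.ind_ex α
  obtain ⟨e, he, f, hf, q⟩ := ti_ln hI h2
  have k1 : ∀ v ∈ I, v ≠ 0 → ∃ a : F, a * σ a = 1 ∧ Φ v = a • v := fun v hv v0 => by
    obtain ⟨a, -, a1, a2⟩ := h.tv_eq v0 (hI hv v hv) (by simp [p.iso, hI hv v hv]) (map_one σ) (by simp) one_ne_zero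
      ((k _ (h.W_le hI (h.tv_W hv 1))).symm.trans (h.ind_tv p v 1))
    exact ⟨a, by simpa using a2.symm, a1⟩
  obtain ⟨l, hl⟩ := scal0 (M := Φ) he hf q fun v hv => by
    by_cases v0 : v = 0
    · exact ⟨0, by simp [v0]⟩
    · exact (k1 v hv v0).imp fun _ => And.right
  simp only [AddMonoidHom.coe_coe] at hl
  have n : l * σ l = 1 := by
    obtain ⟨a, a1, a2⟩ := k1 e he q.ne
    rwa [smul_left_injective F q.ne ((hl e he).symm.trans a2)]
  obtain rfl : θ = 1 := RingEquiv.ext fun s => by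
    have := p.smul s e
    rw [hl _ (I.smul_mem s he), hl e he, smul_comm] at this
    exact (smul_left_injective F (smul_ne_zero (left_ne_zero_of_mul_eq_one n) q.ne) this).symm
  obtain ⟨Ψ, r, kr⟩ := p.scale (l := σ l) (by rw [h.ss, mul_comm, n])
  have k2 : ∀ v ∈ I, v ≠ 0 → ∀ w ∈ perp B I, ∃ a : F, Ψ w = w + a • v := fun v hv v0 w hw => by
    obtain ⟨γ, s⟩ := h.va_ex (hI hv v hv) (hw v hv)
    have := k (ei B v w γ) (mem_Fix.2 fun u hu => h.ei_fix s (hI hu v hv) (h.cm (hw u hu)))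
    have t := (h.ind_va r).2 s
    rw [h.ind_ei r] at this
    rw [kr v, hl v hv, smul_smul, mul_comm, n, one_smul] at this t
    exact (h.ei_inj v0 s t this.symm).imp fun _ => And.left
  have k3 : ∀ w ∈ perp B I, Ψ w = w := fun w hw => by
    obtain ⟨a, ha⟩ := k2 e he q.ne w hw
    obtain ⟨b, hb⟩ := k2 f hf q.ne' w hw
    rw [ha, (q.indep (a := a) (b := -b) (by linear_combination (norm := module) hb - ha)).1, zero_smul, add_zero]
  obtain ⟨x, x1, x2⟩ := r.lin' (n := 1) fun v => by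
    have := k3 (Ψ v - v) (hI (h.herm.perp_perp I ▸ fun w hw => by rw [map_sub, ← k3 w hw, r.iso, k3 w hw]; simp))
    rw [map_sub] at this
    show Ψ (Ψ v) = v
    linear_combination (norm := module) this + vv F (Ψ v) - vv F v
  exact ⟨x, h.W_of_fix fun v hv => (x1 v).trans (k3 v hv), x2⟩

end Ok

end Cfsg.Lib.UF
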