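import Cfsg.Agent.Lib.UF.MA_a
import Cfsg.Agent.Lib.Symp.Basis
import Cfsg.Agent.Lib.Symp.Inv2

/-!
# S1778 (U₅): symmetric bilinear forms in characteristic `2`.  See `docs/UF.md`.
The isotropic vectors form a subspace (`v ↦ b v v` is the square of a linear functional).
-/

set_option autoImplicit false
set_option linter.unusedSectionVars false

namespace Cfsg.Lib.UF

open Module Subgroup

variable {K X X' : Type*} [Field K] [CharP K 2] [Finite K] [AddCommGroup X] [Module K X] [Finite X] [AddCommGroup X'] [Module K X']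
  [Finite X'] {b : X →ₗ[K] X →ₗ[K] K} {b' : X' →ₗ[K] X' →ₗ[K] K}

/-- Nondegenerate symmetric. -/
structure Sym (b : X →ₗ[K] X →ₗ[K] K) : Prop where
  symm : ∀ u v, b u v = b v u
  nd : ∀ u, (∀ v, b u v = 0) → u = 0

theorem Sym.nondeg (h : Sym b) : LinearMap.BilinForm.Nondegenerate b := ⟨h.nd, fun u k => h.nd u fun v => (h.symm u v).trans (k v)⟩

theorem Sym.qadd (h : Sym b) (u v : X) : b (u + v) (u + v) = b u u + b v v := by
  simp only [map_add, LinearMap.add_apply, h.symm v u]; linear_combination aa (b u v)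

theorem Sym.ex_t (h : Sym b) : ∃ t, ∀ v, b v v = b t v * b t v := by
  choose l hl using fun v => sqrt_ex (b v v)
  let L : X →ₗ[K] K :=
    { toFun := l
      map_add' := fun u v => sq_inj (by rw [hl, h.qadd, ← hl, ← hl]; linear_combination - aa (l u * l v))
      map_smul' := fun a v => sq_inj (by
        simp only [hl, map_smul, LinearMap.smul_apply, smul_eq_mul, RingHom.id_apply]; rw [← hl v]; ring) }
  exact ⟨(LinearMap.BilinForm.toDual b h.nondeg).symm L, fun v => by rw [LinearMap.BilinForm.apply_toDual_symm_apply]; exact (hl v).symm⟩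

theorem ex_ker {ι : Type*} [Fintype ι] (f : ι → X →ₗ[K] K) (W : Submodule K X) (hd : finrank K W + Fintype.card ι < finrank K X) :
    ∃ v ∉ W, ∀ i, f i v = 0 := by
  have h1 := (LinearMap.pi f).finrank_range_add_finrank_ker
  have h2 := (Submodule.finrank_le (LinearMap.range (LinearMap.pi f))).trans_eq (finrank_fintype_fun_eq_card K)
  obtain ⟨v, hv, n⟩ := SetLike.not_le_iff_exists.1 fun k : LinearMap.ker (LinearMap.pi f) ≤ W => by
    have := Submodule.finrank_mono k; omega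
  exact ⟨v, n, fun i => congrFun hv i⟩

theorem Sym.ex_orth (h : Sym b) {n : ℕ} (s : Fin n → X) (W : Submodule K X) (hd : finrank K W + n + 1 < finrank K X) :
    ∃ v ∉ W, b v v = 0 ∧ ∀ i, b (s i) v = 0 := by
  obtain ⟨t, ht⟩ := h.ex_t
  obtain ⟨v, n, k⟩ := ex_ker (fun i => b ((Fin.cons t s : Fin (n + 1) → X) i)) W (by simpa [add_assoc] using hd)
  exact ⟨v, n, by rw [ht, show b t v = 0 from k 0, mul_zero], fun i => k i.succ⟩

theorem Sym.partner (h : Sym b) {W : Submodule K X} {v : X} (hv : v ∉ W) : ∃ w, b v w = 1 ∧ ∀ u ∈ W, b u w = 0 := by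
  rw [← LinearMap.BilinForm.orthogonal_orthogonal h.nondeg (fun u v k => (h.symm v u).trans k) W] at hv
  obtain ⟨w, hw, n⟩ : ∃ w ∈ LinearMap.BilinForm.orthogonal b W, b w v ≠ 0 := by
    by_contra! k; exact hv k
  exact ⟨(b w v)⁻¹ • w, by simp [h.symm v w, n], fun u hu => by simp [show b u w = 0 from hw u hu]⟩

/-- A hyperbolic pair of isotropic vectors orthogonal to `s`. -/
theorem Sym.hyp (h : Sym b) {n : ℕ} (s : Fin n → X) (hd : 2 * n + 2 < finrank K X) : ∃ f f', b f f = 0 ∧ b f' f' = 0 ∧ b f f' = 1 ∧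
    (∀ i, b (s i) f = 0) ∧ ∀ i, b (s i) f' = 0 := by
  obtain ⟨t, ht⟩ := h.ex_t
  have := finrank_range_le_card (R := K) (Fin.cons t s : Fin (n + 1) → X)
  obtain ⟨f, n, k1, k2⟩ := h.ex_orth s (Submodule.span K (Set.range (Fin.cons t s : Fin (n + 1) → X))) (by
    simp only [Set.finrank, Fintype.card_fin] at this; omega)
  obtain ⟨f', k3, k4⟩ := h.partner n
  exact ⟨f, f', k1, by rw [ht, k4 t (Submodule.subset_span ⟨0, rfl⟩), mul_zero], k3, k2,
    fun i => k4 _ (Submodule.subset_span ⟨i.succ, rfl⟩)⟩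

/-- A maximal totally isotropic `I` has `dim I^⊥ / I ≤ 1`: two vectors of `I^⊥` independent modulo `I` have an isotropic
combination outside `I`. -/
theorem Sym.ti (h : Sym b) : ∃ v : Fin (finrank K X / 2) → X, LinearIndependent K v ∧ ∀ i j, b (v i) (v j) = 0 := by
  suffices ∀ k, 2 * k ≤ finrank K X → ∃ v : Fin k → X, LinearIndependent K v ∧ ∀ i j, b (v i) (v j) = 0 from this _ (by omega)
  intro k hk
  induction k with
  | zero => exact ⟨Fin.elim0, linearIndependent_empty_type, fun i => i.elim0⟩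
  | succ k ih =>
    obtain ⟨x, h1, h2⟩ := ih (by omega)
    obtain ⟨v, n, k1, k2⟩ := h.ex_orth x (Submodule.span K (Set.range x)) (by rw [finrank_span_eq_card h1, Fintype.card_fin]; omega)
    refine ⟨Fin.cons v x, linearIndependent_finCons.2 ⟨h1, n⟩, fun i j => ?_⟩
    cases i using Fin.cases <;> cases j using Fin.cases <;> simp [k1, k2, h2, h.symm v]

theorem Sym.on_cons (h : Sym b) {k : ℕ} {x : Fin k → X} (hx : ∀ i j, b (x i) (x j) = if i = j then 1 else 0) {y : X} (h1 : b y y = 1)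
    (h2 : ∀ i, b (x i) y = 0) (i j : Fin (k + 1)) :
    b ((Fin.cons y x : Fin (k + 1) → X) i) ((Fin.cons y x : Fin (k + 1) → X) j) = if i = j then 1 else 0 := by
  cases i using Fin.cases <;> cases j using Fin.cases <;> simp [h1, h2, hx, h.symm y, Fin.succ_ne_zero, (Fin.succ_ne_zero _).symm]

theorem Sym.on_fam (h : Sym b) (ha : ¬ ∀ v, b v v = 0) (k : ℕ) (hk : k ≤ finrank K X) : ∃ x : Fin k → X,
    (∀ i j, b (x i) (x j) = if i = j then 1 else 0) ∧ (k < finrank K X → ∃ y, b y y ≠ 0 ∧ ∀ i, b (x i) y = 0) := by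
  induction k with
  | zero => exact ⟨Fin.elim0, fun i => i.elim0, fun _ => let ⟨y, hy⟩ := not_forall.1 ha; ⟨y, hy, fun i => i.elim0⟩⟩
  | succ k ih =>
    obtain ⟨x, hx, k1⟩ := ih (by omega)
    obtain ⟨y, h1, h2⟩ : ∃ y, b y y = 1 ∧ ∀ i, b (x i) y = 0 := by
      obtain ⟨y, h1, h2⟩ := k1 (by omega)
      obtain ⟨a, ha⟩ := sqrt_ex (b y y)⁻¹
      exact ⟨a • y, by simp [← mul_assoc, ha, h1], fun i => by simp [h2]⟩
    have o := h.on_cons hx h1 h2
    by_cases c : k + 1 < finrank K X → ∃ z, b z z ≠ 0 ∧ ∀ i, b ((Fin.cons y x : Fin (k + 1) → X) i) z = 0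
    · exact ⟨_, o, c⟩
    push Not at c
    obtain ⟨u, n, hu⟩ := ex_ker (fun i => b ((Fin.cons y x : Fin (k + 1) → X) i)) ⊥ (by simpa using c.1)
    have z : ∀ z, (∀ i, b ((Fin.cons y x : Fin (k + 1) → X) i) z = 0) → b z z = 0 := fun z hz => by_contra fun m =>
      let ⟨i, hi⟩ := c.2 z m; hi (hz i)
    obtain ⟨w, w1, w2⟩ := h.partner (W := Submodule.span K (Set.range (Fin.cons y x : Fin (k + 1) → X))) (v := u) fun m => by
      obtain ⟨c, rfl⟩ := (Submodule.mem_span_range_iff_exists_fun K).1 m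
      simp only [map_sum, map_smul, o, smul_eq_mul, mul_ite, mul_one, mul_zero, Finset.sum_ite_eq, Finset.mem_univ, if_true] at hu
      simp [hu] at n
    have w3 := fun i => w2 _ (Submodule.subset_span ⟨i, rfl⟩)
    have a1 : b y u = 0 := hu 0
    have a2 : b y w = 0 := w3 0
    refine ⟨_, h.on_cons hx (y := y + u) (by rw [h.qadd, h1, z u hu, add_zero]) fun i => by simp [h2, show b (x i) u = 0 from hu i.succ],
      fun _ => ⟨y + w, by simp [h.qadd, h1, z w w3, -map_add], fun i => ?_⟩⟩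
    cases i using Fin.cases with
    | zero => simp [h1, a2, h.symm u y, a1, w1, aa]
    | succ i => simp [h2, show b (x i) w = 0 from w3 i.succ]

theorem Sym.on_basis (h : Sym b) (ha : ¬ ∀ v, b v v = 0) {n : ℕ} (hn : finrank K X = n) :
    ∃ x : Basis (Fin n) K X, ∀ i j, b (x i) (x j) = if i = j then 1 else 0 := by
  obtain ⟨x, hx, -⟩ := h.on_fam ha n hn.ge
  have li : LinearIndependent K x := .of_pairwise_dual_eq_zero_one _ (fun i => b (x i)) (fun i j k => by simp [hx, k]) (by simp [hx])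
  exact ⟨basisOfLinearIndependentOfCardEqFinrank' x li (by simp [hn]), by simpa using hx⟩

/-- In an orthonormal basis `e = x₀ + x₁`, `e' = x₁ + x₂`, `f = x₃ + x₄`, `f' = x₀ + x₁ + x₂ + x₃`, `r = ∑ xᵢ`. -/
theorem Sym.fr5 (h : Sym b) (h5 : finrank K X = 5) : ∃ e e' f f' r : X, b e e = 0 ∧ b e' e' = 0 ∧ b e e' = 1 ∧ b f f = 0 ∧ b f' f' = 0 ∧
    b f f' = 1 ∧ b e f = 0 ∧ b e f' = 0 ∧ b e' f = 0 ∧ b e' f' = 0 ∧ b r r = 1 ∧ b e r = 0 ∧ b f r = 0 := by
  obtain ⟨c, hc⟩ := Symp.exists_symC (B := b) CharTwo.two_eq_zero h.symm h.nondeg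
  obtain ⟨x, hx⟩ := h.on_basis (fun k => zero_ne_one ((k c).symm.trans (hc.odd_iff.1 (by rw [h5]; decide)))) h5
  refine ⟨x 0 + x 1, x 1 + x 2, x 3 + x 4, x 0 + x 1 + x 2 + x 3, x 0 + x 1 + x 2 + x 3 + x 4, ?_⟩
  simp [hx, aa]

/-- The isometry group is `Sp₄`. -/
theorem Sym.two5 (h : Sym b) (h5 : finrank K X = 5) {P : Subgroup (X ≃ₗ[K] X)} (hP : IsPGroup 2 P)
    (hb : ∀ x ∈ P, ∀ u v, b (x u) (x v) = b u v) : Nat.card P ≤ Nat.card K ^ 4 := by
  obtain ⟨c, hc⟩ := Symp.exists_symC (B := b) CharTwo.two_eq_zero h.symm h.nondeg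
  have d := card_dvd_of_le (show P ≤ Symp.isom b from hb)
  have : Finite (X ≃ₗ[K] X) := DFunLike.finite _
  obtain ⟨n, hn⟩ := hP.exists_card_eq
  have := Fintype.ofFinite K
  have e : Even (Nat.card K) := by rw [Nat.card_eq_fintype_card, Nat.even_iff]; exact FiniteField.even_card_of_char_two (ringChar.eq K 2)
  rw [hc.card_isom_odd (k := 2) h5, Orth.cS, hn] at d
  rw [hn]
  refine Nat.le_of_dvd (pow_pos Nat.card_pos _) (Nat.Coprime.dvd_of_dvd_mul_right (Nat.Coprime.pow_left _ ?_) d)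
  exact Nat.Coprime.prod_right fun i _ => Nat.coprime_two_left.2 (Nat.Even.sub_odd (Nat.one_le_pow _ _ Nat.card_pos)
    (e.pow_of_ne_zero (by omega)) odd_one)

/-- Alternating: symplectic bases (`Lib/Symp/Basis`).  Not alternating: orthonormal bases by induction; if `b v v = 1` and `v^⊥ ≠ 0`
is alternating, replace `v` by `v + u` (`u ≠ 0` in `v^⊥`, partner `u'`): `(v + u)^⊥ ∋ v + u'`, which has norm `1`. -/
theorem Sym.equiv (h : Sym b) (h' : Sym b') (hd : finrank K X = finrank K X') (ha : (∀ v, b v v = 0) ↔ ∀ v, b' v v = 0) :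
    ∃ f : X ≃ₗ[K] X', ∀ u v, b' (f u) (f v) = b u v := by
  by_cases c : ∀ v, b v v = 0
  · exact Symp.exists_isometry_of_finrank_eq c h.nondeg (ha.1 c) h'.nondeg hd
  · obtain ⟨x, hx⟩ := h.on_basis c rfl
    obtain ⟨y, hy⟩ := h'.on_basis (mt ha.2 c) hd.symm
    exact ⟨_, Symp.basis_equiv_isometry x y fun i j => by rw [hx, hy]⟩

theorem fr1 {A : Submodule K X} {f : X →ₗ[K] K} {a : X} (ha : a ∈ A) (h : f a ≠ 0) :
    finrank K ↥(A ⊓ LinearMap.ker f) + 1 = finrank K A := by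
  rw [← Module.Dual.finrank_ker_add_one_of_ne_zero (f := f.domRestrict A) (fun z => h (LinearMap.congr_fun z ⟨a, ha⟩)),
    LinearMap.ker_domRestrict, ← Submodule.finrank_map_subtype_eq A, Submodule.map_comap_subtype]

/-- `b` is nondegenerate on `Y`. -/
def SyNd (b : X →ₗ[K] X →ₗ[K] K) (Y : Submodule K X) : Prop := ∀ y ∈ Y, (∀ z ∈ Y, b y z = 0) → y = 0

/-- An elementary abelian group of isometries, trivial on `X / Y`. -/
structure SyGd (b : X →ₗ[K] X →ₗ[K] K) (Y : Submodule K X) (E : Subgroup (X ≃ₗ[K] X)) : Prop where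
  sq : ∀ x ∈ E, x * x = 1
  iso : ∀ x ∈ E, ∀ u v, b (x u) (x v) = b u v
  rg : ∀ x ∈ E, ∀ v, x v - v ∈ Y

/-- The complement of a hyperbolic pair. -/
abbrev syP (b : X →ₗ[K] X →ₗ[K] K) (Y : Submodule K X) (e e' : X) : Submodule K X := Y ⊓ LinearMap.ker (b e) ⊓ LinearMap.ker (b e')

section rk
variable {Y A : Submodule K X} {E : Subgroup (X ≃ₗ[K] X)} {e e' : X}

theorem Sym.sp2 (h : Sym b) (he : e ∈ Y) (he' : e' ∈ Y) (h0 : b e e = 0) (h1 : b e e' = 1) :
    finrank K (syP b Y e e') + 2 = finrank K Y := by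
  rw [← fr1 (f := b e) he' (by simp [h1]), ← fr1 (A := Y ⊓ LinearMap.ker (b e)) (f := b e') ⟨he, h0⟩ (by simp [h.symm e', h1])]

theorem Sym.sp_nd (h : Sym b) (hY : SyNd b Y) (he : e ∈ Y) (he' : e' ∈ Y) (h0 : b e e = 0) (h1 : b e e' = 1) :
    SyNd b (syP b Y e e') := fun y ⟨⟨a1, a2⟩, a3⟩ k => hY y a1 fun z hz => by
  have := k (z - b e z • e' - (b e' z - b e z * b e' e') • e) ⟨⟨sub_mem (sub_mem hz (Y.smul_mem _ he')) (Y.smul_mem _ he),
    by simp [h0, h1]⟩, by simp [h.symm e' e, h1]⟩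
  simpa [h.symm y e, h.symm y e', show b e y = 0 from a2, show b e' y = 0 from a3] using this

theorem SyGd.orth (g : SyGd b Y E) {x : X ≃ₗ[K] X} (hx : x ∈ E) (k : x e = e) (v : X) : b e (x v - v) = 0 := by
  rw [map_sub, ← g.iso x hx e v, k, sub_self]

theorem SyGd.sp (g : SyGd b Y E) (k : ∀ x ∈ E, x e = e) (k' : ∀ x ∈ E, x e' = e') : SyGd b (syP b Y e e') E :=
  ⟨g.sq, g.iso, fun x hx v => ⟨⟨g.rg x hx v, g.orth hx (k x hx) v⟩, g.orth hx (k' x hx) v⟩⟩

theorem SyGd.xx (g : SyGd b Y E) {x : X ≃ₗ[K] X} (hx : x ∈ E) (v : X) : x (x v) = v := DFunLike.congr_fun (g.sq x hx) v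

theorem SyGd.cm (g : SyGd b Y E) {x y : X ≃ₗ[K] X} (hx : x ∈ E) (hy : y ∈ E) (v : X) : x (y v) = y (x v) := by
  have := g.xx (mul_mem hx hy) (y (x v))
  simpa only [LinearEquiv.mul_apply, g.xx hx, g.xx hy] using this

theorem Sym.q0 (h : Sym b) (g : SyGd b Y E) {x : X ≃ₗ[K] X} (hx : x ∈ E) (v : X) : b (x v - v) (x v - v) = 0 := by
  rw [vsub K, h.qadd, g.iso x hx, aa]

theorem SyNd.ex (hY : SyNd b Y) (he : e ∈ Y) (h0 : e ≠ 0) : ∃ e' ∈ Y, b e e' = 1 := by
  obtain ⟨z, hz, n⟩ : ∃ z ∈ Y, b e z ≠ 0 := by by_contra! k; exact h0 (hY e he k)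
  exact ⟨(b e z)⁻¹ • z, Y.smul_mem _ hz, by simp [n]⟩

theorem Sym.ti_le (h : Sym b) (k : ℕ) (hY : SyNd b Y) (hk : finrank K Y ≤ 2 * k + 1) (hA : A ≤ Y) (h0 : ∀ u ∈ A, ∀ v ∈ A, b u v = 0) :
    finrank K A ≤ k := by
  induction k generalizing Y A with
  | zero =>
    by_contra! n
    obtain ⟨e, he, e0⟩ := Submodule.exists_mem_ne_zero_of_ne_bot (p := A) (by rintro rfl; simp at n)
    obtain ⟨e', he', h1⟩ := hY.ex (hA he) e0
    have := h.sp2 (hA he) he' (h0 e he e he) h1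
    omega
  | succ k ih =>
    by_contra! n
    obtain ⟨e, he, e0⟩ := Submodule.exists_mem_ne_zero_of_ne_bot (p := A) (by rintro rfl; simp at n)
    obtain ⟨e', he', h1⟩ := hY.ex (hA he) e0
    have := h.sp2 (hA he) he' (h0 e he e he) h1
    have := fr1 (f := b e') he (by simp [h.symm e', h1])
    have := ih (A := A ⊓ LinearMap.ker (b e')) (h.sp_nd hY (hA he) he' (h0 e he e he) h1) (by omega)
      (fun a ha => ⟨⟨hA ha.1, h0 e he a ha.1⟩, ha.2⟩) fun u hu v hv => h0 u hu.1 v hv.1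
    omega

theorem Sym.fix_ex (h : Sym b) (g : SyGd b Y E) (n : E ≠ ⊥) : ∃ e ∈ Y, e ≠ 0 ∧ b e e = 0 ∧ ∀ x ∈ E, x e = e := by
  have : Finite (X ≃ₗ[K] X) := DFunLike.finite _
  suffices ∀ s : Set (X ≃ₗ[K] X), s ⊆ E → ∃ e ∈ Y, e ≠ 0 ∧ b e e = 0 ∧ ∀ x ∈ s, x e = e from this E le_rfl
  intro s hs
  induction s, s.toFinite using Set.Finite.induction_on with
  | empty =>
    obtain ⟨x, hx, n⟩ := (E.bot_or_exists_ne_one).resolve_left n
    obtain ⟨v, hv⟩ : ∃ v, x v ≠ v := by by_contra! k; exact n (LinearEquiv.ext k)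
    exact ⟨_, g.rg x hx v, sub_ne_zero.2 hv, h.q0 g hx v, by simp⟩
  | @insert y s _ _ ih =>
    obtain ⟨hy, hs⟩ := Set.insert_subset_iff.1 hs
    obtain ⟨e, a1, a2, a3, a4⟩ := ih hs
    by_cases c : y e = e
    · exact ⟨e, a1, a2, a3, by simpa [c] using a4⟩
    refine ⟨_, g.rg y hy e, sub_ne_zero.2 c, h.q0 g hy e, Set.forall_mem_insert.2 ⟨?_, fun x hx => ?_⟩⟩
    · rw [map_sub, g.xx hy, vsub K, vsub K, add_comm]
    · rw [map_sub, g.cm (hs hx) hy, a4 x hx]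

theorem card_le_orb (E : Subgroup (X ≃ₗ[K] X)) (v : X) (k : ∀ x ∈ E, x v - v ∈ A) :
    Nat.card E ≤ Nat.card K ^ finrank K A * Nat.card ((MulAction.stabilizer E v).map E.subtype) := by
  rw [card_map_of_injective E.subtype_injective, ← (MulAction.stabilizer E v).index_mul_card, MulAction.index_stabilizer,
    ← Module.natCard_eq_pow_finrank]
  refine Nat.mul_le_mul_right _ (Set.ncard_le_ncard_of_injOn (t := A) (· - v) ?_ (fun _ _ _ _ => sub_left_inj.1) (Set.toFinite _))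
  rintro _ ⟨x, rfl⟩
  exact k x x.2

theorem Sym.rkMP (h : Sym b) (k : ℕ) : ∀ Y E, SyNd b Y → SyGd b Y E → finrank K Y ≤ 2 * k + 1 →
    Nat.card E ≤ Nat.card K ^ (k * (k + 1) / 2) ∧ ∀ A ≤ Y, (∀ a ∈ A, b a a = 0) → (∀ x ∈ E, ∀ a ∈ A, x a = a) →
      Nat.card K ^ finrank K A * Nat.card E ≤ Nat.card K ^ (k * (k + 1) / 2 + k) := by
  induction k using Nat.strong_induction_on with | _ k ih => ?_
  intro Y E hY g hk
  have q : 0 < Nat.card K := Nat.card_pos
  have T : ∀ j, (j + 1) * (j + 1 + 1) / 2 = j * (j + 1) / 2 + j + 1 := fun j => by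
    have : (j + 1) * (j + 1 + 1) = j * (j + 1) + 2 * (j + 1) := by ring
    omega
  have M : Nat.card E ≤ Nat.card K ^ (k * (k + 1) / 2) := by
    rcases eq_or_ne E ⊥ with rfl | n
    · simpa using Nat.one_le_pow _ _ q
    obtain ⟨e, he, e0, h0, fx⟩ := h.fix_ex g n
    obtain ⟨e', he', h1⟩ := hY.ex he e0
    have d := h.sp2 he he' h0 h1
    obtain ⟨j, rfl⟩ : ∃ j, k = j + 1 := ⟨k - 1, by omega⟩
    set E₀ := (MulAction.stabilizer E e').map E.subtype
    have l : E₀ ≤ E := map_subtype_le _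
    have fx' : ∀ x ∈ E₀, x e' = e' := by rintro _ ⟨x, hx, rfl⟩; exact hx
    let A : Submodule K X :=
      { carrier := {a | a ∈ Y ∧ b a a = 0 ∧ b e a = 0 ∧ ∀ x ∈ E₀, x a = a}
        add_mem' := fun ⟨a1, a2, a3, a4⟩ ⟨b1, b2, b3, b4⟩ => ⟨add_mem a1 b1, by rw [h.qadd, a2, b2, add_zero], by simp [a3, b3],
          fun x hx => by rw [map_add, a4 x hx, b4 x hx]⟩
        zero_mem' := by simp
        smul_mem' := fun c a ⟨a1, a2, a3, a4⟩ => ⟨Y.smul_mem c a1, by simp [a2], by simp [a3], fun x hx => by rw [map_smul, a4 x hx]⟩ }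
    have c1 := card_le_orb (A := A) E e' fun x hx => ⟨g.rg x hx e', h.q0 g hx e', g.orth hx (fx x hx) e', fun y hy => by
      rw [map_sub, g.cm (l hy) hx, fx' y hy]⟩
    have c2 := fr1 (A := A) (f := b e') (a := e) ⟨he, h0, h0, fun x hx => fx x (l hx)⟩ (by simp [h.symm e', h1])
    have g₀ : SyGd b Y E₀ := ⟨fun x hx => g.sq x (l hx), fun x hx => g.iso x (l hx), fun x hx => g.rg x (l hx)⟩
    have c3 := (ih j (by omega) _ _ (h.sp_nd hY he he' h0 h1) (g₀.sp (fun x hx => fx x (l hx)) fx') (by omega)).2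
      (A ⊓ LinearMap.ker (b e')) (fun a ha => ⟨⟨ha.1.1, ha.1.2.2.1⟩, ha.2⟩) (fun a ha => ha.1.2.1) fun x hx a ha => ha.1.2.2.2 x hx
    rw [← c2, pow_succ', mul_assoc] at c1
    rw [T, pow_succ']
    exact c1.trans (Nat.mul_le_mul_left _ c3)
  refine ⟨M, fun A hA h0 fx => ?_⟩
  by_cases c : ∀ u ∈ A, ∀ v ∈ A, b u v = 0
  · rw [add_comm, pow_add]
    exact Nat.mul_le_mul (Nat.pow_le_pow_right q (h.ti_le k hY hk hA c)) M
  push Not at c
  obtain ⟨e, he, z, hz, n⟩ := c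
  obtain ⟨e', he', h1⟩ : ∃ e' ∈ A, b e e' = 1 := ⟨(b e z)⁻¹ • z, A.smul_mem _ hz, by simp [n]⟩
  have d := h.sp2 (hA he) (hA he') (h0 e he) h1
  obtain ⟨j, rfl⟩ : ∃ j, k = j + 1 := ⟨k - 1, by omega⟩
  have c3 := (ih j (by omega) _ _ (h.sp_nd hY (hA he) (hA he') (h0 e he) h1) (g.sp (fun x hx => fx x hx e he) fun x hx => fx x hx e' he')
    (by omega)).2 (syP b A e e') (fun a ha => ⟨⟨hA ha.1.1, ha.1.2⟩, ha.2⟩) (fun a ha => h0 a ha.1.1) fun x hx a ha => fx x hx a ha.1.1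
  rw [← h.sp2 he he' (h0 e he) h1, add_comm _ 2, pow_add, mul_assoc]
  refine (Nat.mul_le_mul_left _ c3).trans ?_
  rw [← pow_add, T]
  exact Nat.pow_le_pow_right q (by omega)

end rk

/-- With `T k = k (k + 1) / 2`, `k = m / 2`, by simultaneous induction on `m`:
(P) if `E` fixes pointwise a subspace `A` of isotropic vectors then `|A| |E| |K| ≤ |K| ^ T (k + 1)`.  If `b A A = 0` then
`dim A ≤ k` and (M).  Otherwise `A ∋ u, u'` hyperbolic, `X = ⟨u, u'⟩ ⊥ X'`, (P) for `X'`, `T k + 1 ≤ T (k + 1) - 1`.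
(M) `E ≠ 1` fixes an isotropic `e ≠ 0` (`(x - 1) v` for a fixed point modulo the fixed space, or the radical of the fixed space);
`b e e' = 1`, `X = ⟨e, e'⟩ ⊥ X'`; `A' = K e + span {x e' - e'}` consists of isotropic vectors (`(x - 1)² = 0`, `x - 1` self-adjoint),
`|E| ≤ |A'| |E_e'|`, `E_e'` fixes `A'` pointwise (`E` is abelian) and acts faithfully on `X'`; (P) for `A = A' ⊓ X'`. -/
theorem Sym.rk2 (h : Sym b) (E : Subgroup (X ≃ₗ[K] X)) (hE : ∀ x ∈ E, x * x = 1) (hb : ∀ x ∈ E, ∀ u v, b (x u) (x v) = b u v) :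
    Nat.card E ≤ Nat.card K ^ (finrank K X / 2 * (finrank K X / 2 + 1) / 2) :=
  (h.rkMP _ ⊤ E (fun y _ k => h.nd y fun z => k z trivial) ⟨hE, hb, fun _ _ _ => trivial⟩ (by rw [finrank_top]; omega)).1

/-- The number of symmetric matrices. -/
theorem card_symm (K : Type*) [Finite K] (k : ℕ) :
    Nat.card {s : Matrix (Fin k) (Fin k) K // ∀ i j, s i j = s j i} = Nat.card K ^ (k * (k + 1) / 2) := by
  refine (Nat.card_congr (Sym2.lift (α := Fin k) (β := K))).trans ?_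
  rw [Nat.card_fun, Nat.card_eq_fintype_card (α := Sym2 _), Sym2.card,
    Nat.choose_two_right, Fintype.card_fin, mul_comm]
  rfl

end Cfsg.Lib.UF
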