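import Cfsg.Agent.Lib.UF.MSb

/-!
# S1778 (U₅): the Sylow `2`-subgroup `U` of `SU`, and the instance of `SM`.  See `docs/UF.md`.
`m = n + 3`, `k = m / 2`, `e₀ = ε ⊥`, `e₀' = ε ⊤`, `e₁ = ε 1`, `V₀ = hypPerp e₀ e₀' ≅ Q / Z`, `Q = Q e₀ ≤ U`, `Z = {tv e₀ c}`.
`Fl r` = the vectors supported on the indices `< r`; `(Fl r)^⊥ = Fl (m - r)`.
-/

set_option autoImplicit false

noncomputable section

namespace Cfsg.Lib.UF

open Module Matrix Subgroup G2S Cfsg.Lib.BG Cfsg.Lib.GW GSt.SLa Cfsg.Lib.Unitary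
open scoped commutatorElement Cfsg.Lib.Transfer

variable {F : Type*} [Field F] [CharP F 2] [Finite F] {n q : ℕ} {s θ : RingAut F} {x y : SUG (BD s n)} {i : LS.I n} {w : VV n F} {c γ : F}

namespace Ok
variable (h : Ok (BD s n))
include h

omit h [CharP F 2] [Finite F] in
/-- The projection of a finite commutative group on its Sylow `2`-subgroup. -/
theorem proj_ex (C : Type*) [Group C] [Finite C] [IsCyclic C] : ∃ (A : Subgroup C) (π : C →* A), IsPGroup 2 A ∧
    ∀ (θ : C) (k : ℕ), θ ^ 2 ^ k = 1 → (π θ : C) = θ := by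
  have cm : ∀ a b : C, Commute a b := IsCyclic.isMulCommutative.is_comm.comm
  obtain ⟨a, o, ho, e⟩ := Nat.exists_eq_two_pow_mul_odd (Nat.card_pos (α := C)).ne'
  obtain ⟨r, -, hr⟩ := Nat.exists_mul_mod_eq_one_of_coprime (ho.coprime_two_right.pow_right (a + 1)) (Nat.one_lt_two_pow (by omega))
  let f : C →* C := MonoidHom.mk' (· ^ (o * r)) fun a b => (cm a b).mul_pow _
  refine ⟨f.range, f.rangeRestrict, ?_, fun θ k hk => ?_⟩
  · rintro ⟨_, θ, rfl⟩
    exact ⟨a, Subtype.ext (by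
      change (θ ^ (o * r)) ^ 2 ^ a = 1
      rw [← pow_mul, show o * r * 2 ^ a = Nat.card C * r by rw [e]; ring, pow_mul, pow_card_eq_one', one_pow])⟩
  · have d : orderOf θ ∣ 2 ^ (a + 1) := by
      obtain ⟨j, -, hj⟩ := (Nat.dvd_prime_pow Nat.prime_two).1 (orderOf_dvd_of_pow_eq_one hk)
      have := orderOf_dvd_natCard θ
      rw [hj, e] at this
      rw [hj]
      exact ((ho.coprime_two_left.pow_left j).dvd_of_dvd_mul_right this).trans (pow_dvd_pow 2 a.le_succ)
    change θ ^ (o * r) = θ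
    rw [← Nat.div_add_mod (o * r) (2 ^ (a + 1)), hr, pow_succ, pow_mul, orderOf_dvd_iff_pow_eq_one.1 d, one_pow, one_mul]

omit h in
theorem card_fix {r : ℕ} (hq : IsBar (2 ^ r) (s : F →+* F)) : Nat.card (RingAut F) = 2 * r ∧
    ∀ θ : RingAut F, Nat.card (fixedField (θ : F →+* F)) = 2 ^ (2 * r / orderOf θ) := by
  have := Fintype.ofFinite F
  have e : Nat.card F = 2 ^ (2 * r) := by rw [hq.card, ← pow_mul, mul_comm]
  have c : Nat.card (RingAut F) = 2 * r := Linear.card_ringAut (by rw [← e, Nat.card_eq_fintype_card])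
  refine ⟨c, fun θ => Nat.pow_left_injective (orderOf_pos θ).ne' ?_⟩
  simp only
  rw [← card_eq_card_fixedField_pow, ← pow_mul, Nat.div_mul_cancel (c ▸ orderOf_dvd_natCard θ), e]

/-- `A` = the Sylow `2`-subgroup of the cyclic group `RingAut F` of order `2 r`, `q = 2 ^ r`; `Θ = π ∘ Th`, `π θ = θ ^ e` the projection on `A`
(`π θ = θ` for `2`-elements).  `a = q ^ k²`, `bb i = (2 ^ (2 r / 2 ^ (i + 1))) ^ (k (k + 1) / 2)` (`card_eq_card_fixedField_pow`),
`fU = restrAut`.  `CU` by `CQ`; `Zc`, `NF1` by `cl`; `low` with `I = Fl k`, `W_US`; `c4` by `cen_der`, `card_W`, `card_US`;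
`zc`: `X = {tv e₀ c | θ c = c}`. -/
theorem exists_sm : ∃ (A : Subgroup (RingAut F)) (m : SM (SUG (BD s n)) (US s n) A), m.j m.z = tv (BD s n) (ε F ⊥) 1 := by
  have : Finite (RingAut F) := h.bm.fin
  have : IsCyclic (RingAut F) := h.bm.cyc
  obtain ⟨A, π, pA, hπ⟩ := proj_ex (RingAut F)
  obtain ⟨r, hr, hq⟩ := h.bar
  obtain ⟨cA, cf⟩ := card_fix hq
  have dA : Nat.card A ∣ 2 * r := cA ▸ A.card_subgroup_dvd_card
  have πA : ∀ θ : A, π θ = θ := fun θ => let ⟨k, hk⟩ := pA θ; Subtype.ext (hπ θ k (congrArg Subtype.val hk))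
  have Θ2 : ∀ (α : MulAut (SUG (BD s n))) (k : ℕ), α ^ 2 ^ k = 1 → (π (h.Th α) : RingAut F) = h.Th α := fun α k e =>
    hπ _ k (by rw [← map_pow, e, map_one])
  have ι : ∀ θ : A, θ * θ = 1 → θ ≠ 1 → θ.1 = s := fun θ a b =>
    RingEquiv.ext (h.eq_σ (congrArg Subtype.val a) fun e => b (Subtype.ext e))
  have ft : ∀ θ c, h.fl θ (tv (BD s n) (ε F ⊥) c) = tv (BD s n) (ε F ⊥) (θ c) := fun θ c => by rw [h.ind_tv (h.fl_ind θ), cw_ε]
  have pi : ∀ (u : SUG (BD s n)) θ, Ind (BD s n) (MulAut.conj u * h.fl θ) ((cw θ n).trans u.1.toAddEquiv) θ := fun u θ => by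
    simpa only [one_mul] using (Ind.conj u).mul (h.fl_ind θ)
  have d4 := h.d4
  have fV : finrank F (VV n F) = n + 3 := finrank_VV
  have q1 : (2 ^ (2 * r / 2 ^ (0 + 1)) : ℕ) = 2 ^ r := by simp
  have q2 := hq.two_le
  have n2 : n = 2 := by have := h.d5; omega
  refine ⟨A, {
    Θ := π.comp h.Th
    cyc := inferInstance
    fin := inferInstance
    perf := h.perf
    oddZ := h.oddZ
    qs := h.qs
    Θ_conj l := by rw [MonoidHom.comp_apply, h.Th_eq (.conj l), map_one]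
    inner α k a b := h.inner a ((Θ2 α k a).symm.trans (congrArg Subtype.val b))
    tri := h.tri
    lift := h.bm.lift
    j := (US s n).subtype
    fl := h.fl.comp A.subtype
    fU := restrAut (h.fl.comp A.subtype) (US s n) fun θ _ => h.fl_US θ
    z := ⟨_, h.tv_US 1⟩
    a := (2 ^ r) ^ ((n + 3) / 2) ^ 2
    bb i := (2 ^ (2 * r / 2 ^ (i + 1))) ^ ((n + 3) / 2 * ((n + 3) / 2 + 1) / 2)
    cc := (2 ^ r) ^ 4
    dd := (2 ^ r) ^ 8
    em := ⟨subtype_injective _, by rw [range_subtype]; exact h.US_syl⟩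
    p2 := pA
    Θ_fl θ := (congrArg π (h.Th_eq (h.fl_ind θ))).trans (πA θ)
    fl_j _ _ := rfl
    fz θ := Subtype.ext ((ft θ 1).trans (by rw [map_one]))
    z1 e := h.tv_ne (ε_ne _) h.hy0.ee (map_one _) one_ne_zero (congrArg Subtype.val e)
    zZ := h.mem_ZU.2 ⟨1, map_one _, rfl⟩
    elZ u hu := let ⟨c, _, e⟩ := h.mem_ZU.1 hu; Subtype.ext (by rw [coe_mul, e, h.tv_sq]; rfl)
    ιZ θ a u hu := by
      obtain ⟨c, hc, e⟩ := h.mem_ZU.1 hu
      by_cases b : θ = 1
      · rw [b, map_one]; rfl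
      · exact Subtype.ext (show h.fl θ u = u by rw [e, ft, ι θ a b, hc])
    Zc u hu n := by
      obtain ⟨c, hc, e⟩ := h.mem_ZU.1 hu
      change IsConj u.1 (tv _ _ 1)
      rw [e]
      exact h.cl (h.tv_sq ..) (h.tv_sq ..) ((h.rk_tv (ε_ne _) h.hy0.ee hc (by
        rintro rfl; exact n (Subtype.ext (e.trans (h.tv_zero _))))).2.trans (h.rk_tv (ε_ne _) h.hy0.ee (map_one _) one_ne_zero).2.symm)
    CU u θ k := by
      obtain ⟨c, -, e⟩ := h.CQ (α := MulAut.conj u.1 * h.fl θ) (ε_ne _) h.hy0.ee fun x hx => congrArg Subtype.val (k ⟨x, h.Q_US hx⟩)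
      exact Subtype.ext ((h.Th_eq (pi u θ)).symm.trans (e ▸ h.Th_eq (.conj _)))
    NZ := h.NZ
    CLS := h.CLS
    sqc := h.sqc
    ZU u hu := let ⟨c, hc, e⟩ := h.mem_ZU.1 hu; mem_der.2 (e ▸ h.tv_der (by simp [bot_val]) hc)
    cab x hx y hy := Subtype.ext ((h.W_el (Fl_ti (by omega))).comm (h.cen_der hx) (h.cen_der hy))
    c4 := ?_
    CP := h.CP
    rk0 E hE := fV ▸ h.rk0 hq hE
    inn x hx := fV ▸ h.inn hq hx
    up α i a b E hE k := by
      have e : orderOf (h.Th α) = 2 ^ (i + 1) := by rw [← Θ2 α _ b, orderOf_coe]; exact a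
      have := h.up e b hE k
      rwa [cf, e, fV] at this
    low u θ i a b := by
      have e : orderOf θ.1 = 2 ^ (i + 1) := by rw [orderOf_coe]; exact a
      obtain ⟨E, h1, h2, h3⟩ := h.low (pi u θ) b e (fun z => by
        rw [z, orderOf_one] at e
        exact absurd e.symm (Nat.pow_eq_one.not.2 (by omega))) (Fl_ti (r := (n + 3) / 2) (by omega)) fun v hv => US_Fl u.2 (cw_Fl _ hv)
      refine ⟨E.subgroupOf _, fun x hx => Subtype.ext (h.W_el (Fl_ti (by omega)) _ (h1 hx)), fun x hx => Subtype.ext (h2 _ hx), ?_⟩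
      rwa [Nat.card_congr (subgroupOfEquivOfLe (h1.trans (h.W_US (by omega)))).toEquiv, ← e, ← cf, ← Fl_rank (F := F) (n := n) (r := (n + 3) / 2) (by omega)]
    bsq i d := by
      obtain ⟨t, ht⟩ := d.trans dA
      rw [← pow_mul, ← pow_mul, ← pow_mul, ht, Nat.mul_div_cancel_left _ (by positivity), pow_succ _ (i + 1), mul_assoc,
        Nat.mul_div_cancel_left _ (by positivity)]
      congr 1; ring
    b0 i := by positivity
    n1 := ?_
    n2 := by rw [q1]; exact fV ▸ h.n2 hq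
    upP α a b P hP k := h.up2 hq (fun z => by simp [z] at a) b hP k
    innP x hx := h.innP hq hx
    n5 := by
      rw [q1, ← pow_mul _ 4, mul_comm, n2]
      refine Nat.mul_lt_mul_of_pos_left ((Nat.pow_le_pow_left (Nat.le_of_dvd (by omega) dA) 2).trans_lt ?_) (by positivity)
      clear * - hr
      change _ < (2 ^ r) ^ 3
      induction r, hr using Nat.le_induction with
      | base => norm_num
      | succ r hr ih => rw [pow_succ 2 r, mul_pow (2 ^ r)]; nlinarith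
    n6 := by
      rw [q1, n2]
      calc 2 * (2 ^ r) ^ 3 ≤ (2 ^ r) ^ 4 := by rw [pow_succ' _ 3]; exact Nat.mul_le_mul_right _ q2
        _ ≤ _ := Nat.pow_le_pow_right (by omega) (by omega)
    n4 _ := by
      rw [h.card_ZU hq]
      refine (Nat.pow_le_pow_left (Nat.le_of_dvd (by omega) dA) 2).trans_lt ?_
      clear * - hr
      induction r, hr using Nat.le_induction with
      | base => norm_num
      | succ r hr ih => rw [pow_succ 2 r, mul_pow]; nlinarith
    zc θ a b := ?_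
    IDX u θ a b X k := by
      rw [h.card_ZU hq]
      exact h.IDX hq u X fun x hx => ι θ a b ▸ congrArg Subtype.val (k x hx)
    NF1 α x := h.nf1 α
    NF2 l θ' θ a b k := by
      have e := ι θ' a b
      simp only [MonoidHom.comp_apply, subtype_apply, e] at k ⊢
      exact h.NF2 l θ k }, rfl⟩
  · have c : Nat.card 𝐂(commutator (US s n)) ≤ (2 ^ r) ^ 4 := by
      have := h.card_W hq (Fl_ti (r := 2) (by omega))
      rw [Fl_rank (by omega)] at this
      exact this ▸ Nat.card_le_card_of_injective (fun u => ⟨u.1.1, h.cen_der u.2⟩) fun a b e => Subtype.ext (Subtype.ext (congrArg (·.1) e))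
    rw [h.card_US hq]
    refine (Nat.mul_le_mul_left 4 c).trans_lt ?_
    generalize 2 ^ r = q at *
    calc 4 * q ^ 4 < q ^ 3 * q ^ 4 := Nat.mul_lt_mul_of_pos_right (lt_of_lt_of_le (by norm_num) (Nat.pow_le_pow_left q2 3)) (by positivity)
      _ = q ^ 7 := by ring
      _ ≤ _ := Nat.pow_le_pow_right (by omega) (by rw [n2]; norm_num)
  · rw [q1]
    generalize 2 ^ r = q at *
    obtain ⟨k, hk⟩ : ∃ k, (n + 3) / 2 = k + 2 := ⟨(n + 3) / 2 - 2, by omega⟩
    rw [hk, ← pow_mul, Nat.div_mul_cancel (Nat.even_mul_succ_self _).two_dvd, mul_add, mul_one, pow_add, ← sq, mul_comm]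
    exact Nat.mul_lt_mul_of_pos_left (lt_of_lt_of_le (by norm_num) ((Nat.pow_le_pow_left q2 2).trans
      (Nat.pow_le_pow_right (by omega) (by omega)))) (by positivity)
  · obtain ⟨k, hk⟩ := pA θ
    have fx : ∀ c : fixedField (θ.1 : F →+* F), s c = c := fun c =>
      h.fix_σ (n := k) (congrArg Subtype.val hk) (fun e => a (Subtype.ext e)) c.2
    refine ⟨center _ ⊓ (restrAut (h.fl.comp A.subtype) (US s n) (fun θ _ => h.fl_US θ) θ).toMonoidHom.eqLocus (MonoidHom.id _), inf_le_left, ?_,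
      fun c hc => hc.2⟩
    refine le_trans ?_ (Nat.card_le_card_of_injective (fun c : fixedField (θ.1 : F →+* F) => ⟨⟨_, h.tv_US c⟩, h.mem_ZU.2 ⟨c, fx c, rfl⟩,
      Subtype.ext ((ft θ c).trans (congrArg _ c.2))⟩) fun c d e => Subtype.ext (h.tv_inj (ε_ne _) h.hy0.ee (fx c) (fx d) (congrArg (·.1.1) e)))
    rw [cf, orderOf_coe]
    exact Nat.pow_le_pow_right (n := 2) two_pos ((Nat.le_div_iff_mul_le (orderOf_pos θ)).2 (Nat.le_of_dvd (by omega) (b.trans dA)))

end Ok

end Cfsg.Lib.UF
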