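import Cfsg.Agent.Lib.UF.Sg

/-!
# S1778 (U₅): the matrix model, `V = F ^ (n + 3)`, `B (ε i) (ε j) = δ (j, rev i)`, `SU ≤ SL`, `τ g = (g^*)⁻¹`.  See `docs/UF.md`.
-/

set_option autoImplicit false

noncomputable section

namespace Cfsg.Lib.UF

open Module Matrix Subgroup G2S Cfsg.Lib.BG Cfsg.Lib.GW GSt.SLa Cfsg.Lib.Unitary
open scoped commutatorElement Cfsg.Lib.Transfer

variable {F : Type*} [Field F] {n : ℕ}

/-- The space. -/
abbrev VV (n : ℕ) (F : Type*) := LS.I n → F

/-- The Gram matrix. -/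
def DD (n : ℕ) (F : Type*) [Field F] : Matrix (LS.I n) (LS.I n) F := fun i j => if j = i.rev then 1 else 0

/-- The form. -/
def BD (s : RingAut F) (n : ℕ) : VV n F →ₛₗ[(s : F →+* F)] VV n F →ₗ[F] F := gramForm _ (DD n F)

/-- The basis. -/
def ε (F : Type*) [Field F] (i : LS.I n) : VV n F := Pi.single i 1

/-- `SU ≤ SL`. -/
def io (s : RingAut F) (n : ℕ) : SUG (BD s n) →* LS.J n F := (mSU _ (DD n F)).subtype.comp (msuEquiv _ (DD n F)).symm.toMonoidHom

variable {s : RingAut F} {i j : LS.I n} {u v w : VV n F}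

theorem DD_mulVec (v : VV n F) (i : LS.I n) : (DD n F *ᵥ v) i = v i.rev := by simp [DD, mulVec, dotProduct]
theorem BD_apply (u v : VV n F) : BD s n u v = ∑ i, s (u i) * v i.rev := by
  simp [BD, gramForm_apply, stdForm_apply, DD_mulVec]
theorem ε_apply (i j : LS.I n) : ε F i j = if j = i then 1 else 0 := by simp [ε, Pi.single_apply]
@[simp] theorem BD_ε (i : LS.I n) (v : VV n F) : BD s n (ε F i) v = v i.rev := by
  simp [BD_apply, ε_apply, apply_ite s]
theorem BD_ε' (v : VV n F) (j : LS.I n) : BD s n v (ε F j) = s (v j.rev) := by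
  simp [BD_apply, ε_apply, Fin.rev_eq_iff]
theorem BD_εε (i j : LS.I n) : BD s n (ε F i) (ε F j) = if i.rev = j then 1 else 0 := by rw [BD_ε, ε_apply]
theorem ε_ne (i : LS.I n) : ε F i ≠ 0 := fun e => by simpa [ε_apply] using congrFun e i
theorem sum_ε (v : VV n F) : ∑ i, v i • ε F i = v := by ext j; simp [ε_apply]
theorem finrank_VV : finrank F (VV n F) = n + 3 := by simp
theorem io_mulVec (x : SUG (BD s n)) (v : VV n F) : (io s n x).1 *ᵥ v = x.1 v := by
  obtain ⟨x, rfl⟩ := (msuEquiv _ (DD n F)).surjective x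
  exact (congrArg (·.1.1 *ᵥ v) ((msuEquiv _ (DD n F)).symm_apply_apply x)).trans (msuEquiv_apply (DD n F) x v).symm
theorem io_inj : Function.Injective (io s n) := Subtype.val_injective.comp (MulEquiv.injective _)
theorem SL_ext {g g' : LS.J n F} (h : ∀ v, g.1 *ᵥ v = g'.1 *ᵥ v) : g = g' := LS.J_ext (ext_of_mulVec_single fun _ => h _)
theorem mem_io {g : LS.J n F} : g ∈ (io s n).range ↔ ∀ u v, BD s n (g.1 *ᵥ u) (g.1 *ᵥ v) = BD s n u v :=
  ⟨by rintro ⟨x, rfl⟩ u v; simp [io_mulVec], fun h => ⟨msuEquiv _ _ ⟨g, mem_mSU.2 ((gramForm_mulVec_iff _ _).1 h)⟩,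
    congrArg Subtype.val ((msuEquiv _ (DD n F)).symm_apply_apply _)⟩⟩
theorem herm_BD (h1 : s ≠ 1) (h2 : ∀ a, s (s a) = a) : IsHerm (s : F →+* F) (BD s n) :=
  isHerm_gramForm (fun e => h1 (RingEquiv.ext fun a => DFunLike.congr_fun e a)) h2
    (fun i j => by simp [DD, apply_ite s, ← Fin.rev_eq_iff, eq_comm (a := j)]) (by
      have : DD n F * DD n F = 1 := by
        ext i j; rw [mul_apply, Finset.sum_eq_single i.rev (fun k _ e => by simp [DD, e]) (by simp)]; simp [DD, one_apply, eq_comm]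
      exact left_ne_zero_of_mul_eq_one (b := (DD n F).det) (by rw [← det_mul, this, det_one]))

open Classical in
variable (s) in
/-- `1 + u v^*` (`1` unless `B v u = 0`). -/
def op (u v : VV n F) : LS.J n F :=
  if h : BD s n v u = 0 then ⟨1 + vecMulVec u fun j => s (v j.rev), by
    rw [vecMulVec_eq Unit, det_one_add_replicateCol_mul_replicateRow, add_eq_left, ← h, BD_apply, dotProduct,
      ← Equiv.sum_comp Fin.revPerm]
    simp⟩ else 1

theorem op_mulVec (h : BD s n v u = 0) (x : VV n F) : (op s u v).1 *ᵥ x = x + BD s n v x • u := by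
  rw [show (op s u v).1 = 1 + vecMulVec u fun j => s (v j.rev) from congrArg Subtype.val (dif_pos h), add_mulVec, one_mulVec, vecMulVec_mulVec, op_smul_eq_smul, BD_apply, dotProduct, ← Equiv.sum_comp Fin.revPerm]
  simp

variable [CharP F 2]

/-- The graph-field automorphism. -/
def τ (s : RingAut F) (n : ℕ) : MulAut (LS.J n F) := LS.sa (s, LS.g1)

theorem τ_xr (i j : LS.I n) (c : F) : τ s n (LS.xr i j c) = LS.xr j.rev i.rev (s c) := by rw [τ, LS.sa_xr, if_neg LS.g1_ne]

/-- The upper unitriangular elements. -/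
def US (s : RingAut F) (n : ℕ) : Subgroup (SUG (BD s n)) := (LS.ju : LS.UU n F →* LS.J n F).range.comap (io s n)

variable [Finite F] {G : Type*} [Group G]

/-- Field case before the fusion analysis. -/
structure FD (ψ : SUG (BD s n) →* G) (t : G) (O : Subgroup G) (φ : LS.J n F →* G) : Prop extends S1 ψ t O where
  ext : ∀ x, φ (io s n x) = ψ x
  ct : ∀ g, t * φ g * t = φ (τ s n g)
  Oφ : ∀ o ∈ O, ∀ g, o * φ g = φ g * o

end Cfsg.Lib.UF
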