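import Cfsg.Agent.Lib.UF.MC
import Cfsg.Agent.Lib.UF.Mx

/-!
# S1778 (U₅): the Sylow `2`-subgroup `U` of `SU`, and the instance of `SM`.  See `docs/UF.md`.
`m = n + 3`, `k = m / 2`, `e₀ = ε ⊥`, `e₀' = ε ⊤`, `e₁ = ε 1`, `V₀ = hypPerp e₀ e₀' ≅ Q / Z`, `Q = Q e₀ ≤ U`, `Z = {tv e₀ c}`.
`Fl r` = the vectors supported on the indices `< r`; `(Fl r)^⊥ = Fl (m - r)`.
-/

set_option autoImplicit false

noncomputable section

namespace Cfsg.Lib.UF

open Module Matrix Subgroup G2S Cfsg.Lib.BG Cfsg.Lib.GW GSt.SLa Cfsg.Lib.Unitary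
open scoped commutatorElement Cfsg.Lib.Transfer

variable {F : Type*} [Field F] [CharP F 2] [Finite F] {n q : ℕ} {s θ : RingAut F} {x y : SUG (BD s n)} {i : LS.I n} {w : VV n F} {c γ : F}

/-- The flag. -/
def Fl (F : Type*) [Field F] (n r : ℕ) : Submodule F (VV n F) where
  carrier := {v | ∀ j : LS.I n, r ≤ j.1 → v j = 0}
  add_mem' a b j k := by simp [a j k, b j k]
  zero_mem' _ _ := rfl
  smul_mem' _ _ a j k := by simp [a j k]

omit [CharP F 2] [Finite F] in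
theorem Fl_mono {r r' : ℕ} (h : r ≤ r') : Fl F n r ≤ Fl F n r' := fun _ hv j k => hv j (h.trans k)

omit [CharP F 2] [Finite F] in
theorem ε_Fl {r : ℕ} {j : LS.I n} (h : j.1 < r) : ε F j ∈ Fl F n r := fun k e => by
  rw [ε_apply, if_neg]; rintro rfl; omega

omit [CharP F 2] [Finite F] in
theorem Fl_top {r : ℕ} (h : n + 3 ≤ r) (v : VV n F) : v ∈ Fl F n r := fun j k => absurd j.2 (by omega)

omit [CharP F 2] [Finite F] in
theorem Fl_zero {v : VV n F} (h : v ∈ Fl F n 0) : v = 0 := funext fun j => h j (Nat.zero_le _)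

omit [Finite F] in
theorem mem_ju0 {g : LS.J n F} : g ∈ (LS.ju : LS.UU n F →* LS.J n F).range ↔ ∀ j : LS.I n, g.1 *ᵥ ε F j - ε F j ∈ Fl F n j := by
  have e : ∀ i j, (g.1 - 1) i j = (g.1 *ᵥ ε F j - ε F j) i := fun i j => by
    rw [Matrix.sub_apply, Pi.sub_apply, ε_apply, one_apply, ε, mulVec_single_one]; rfl
  exact LS.mem_ju.trans ⟨fun h j i k => (e i j).symm.trans (h i j k), fun h i j k => (e i j).trans (h j i k)⟩

omit [Finite F] in
theorem mem_ju' {g : LS.J n F} : g ∈ (LS.ju : LS.UU n F →* LS.J n F).range ↔ ∀ r, ∀ v ∈ Fl F n (r + 1), g.1 *ᵥ v - v ∈ Fl F n r := by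
  refine mem_ju0.trans ⟨fun h r v hv => ?_, fun h j => h j _ (ε_Fl j.1.lt_succ_self)⟩
  have : g.1 *ᵥ v - v = ∑ j, v j • (g.1 *ᵥ ε F j - ε F j) := by
    conv_lhs => rw [← sum_ε v]
    simp only [mulVec_sum, mulVec_smul, smul_sub, Finset.sum_sub_distrib]
  rw [this]
  refine Submodule.sum_mem _ fun j _ => ?_
  rcases Nat.lt_or_ge r j with k | k
  · rw [hv j k, zero_smul]; exact zero_mem _
  · exact Submodule.smul_mem _ _ (Fl_mono k (h j))

omit [Finite F] in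
/-- `LS.mem_ju`, `io_mulVec`. -/
theorem mem_US : x ∈ US s n ↔ ∀ j : LS.I n, x.1 (ε F j) - ε F j ∈ Fl F n j := by
  simp only [← io_mulVec]; exact mem_ju0

omit [Finite F] in
theorem mem_US' : x ∈ US s n ↔ ∀ r, ∀ v ∈ Fl F n (r + 1), x.1 v - v ∈ Fl F n r := by
  simp only [← io_mulVec]; exact mem_ju'

omit [CharP F 2] [Finite F] in
theorem Fl_perp {r : ℕ} (h : r ≤ n + 3) : perp (BD s n) (Fl F n r) = Fl F n (n + 3 - r) := by
  ext v
  refine ⟨fun k j hj => ?_, fun k u hu => ?_⟩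
  · have := k (ε F j.rev) (ε_Fl (by rw [Fin.val_rev]; omega))
    rwa [BD_ε, Fin.rev_rev] at this
  · rw [BD_apply]
    refine Finset.sum_eq_zero fun j _ => ?_
    rcases Nat.lt_or_ge j r with c | c
    · rw [k j.rev (by rw [Fin.val_rev]; omega), mul_zero]
    · rw [hu j c, map_zero, zero_mul]

omit [CharP F 2] [Finite F] in
theorem Fl_rank {r : ℕ} (h : r ≤ n + 3) : finrank F (Fl F n r) = r := by
  let e : Fl F n r ≃ₗ[F] (Fin r → F) :=
    { toFun := fun v j => v.1 (j.castLE h)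
      map_add' := fun _ _ => rfl
      map_smul' := fun _ _ => rfl
      invFun := fun f => ⟨fun j => if k : j.1 < r then f ⟨j, k⟩ else 0, fun j k => dif_neg (by omega)⟩
      left_inv := fun v => Subtype.ext (funext fun j => by
        by_cases k : j.1 < r
        · exact dif_pos k
        · exact (dif_neg k).trans (v.2 j (by omega)).symm)
      right_inv := fun f => funext fun j => dif_pos j.2 }
  rw [e.finrank_eq]; simp

omit [CharP F 2] [Finite F] in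
theorem Fl_ti {r : ℕ} (h : 2 * r ≤ n + 3) : Ti (BD s n) (Fl F n r) := by
  rw [Ti, Fl_perp (by omega)]; exact Fl_mono (by omega)

omit [Finite F] in
theorem US_Fl (hx : x ∈ US s n) {r : ℕ} {v : VV n F} (hv : v ∈ Fl F n r) : x.1 v ∈ Fl F n r := by
  simpa using add_mem (mem_US'.1 hx r v (Fl_mono r.le_succ hv)) hv

omit [Finite F] in
/-- The action on `Fl (b + 1) / Fl a`, `b = a + 1`. -/
theorem ap_sd (hx : x ∈ US s n) {a b : LS.I n} (hab : b.1 = a.1 + 1) {v : VV n F} (hv : v ∈ Fl F n (b + 1)) :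
    x.1 v a = v a + v b * x.1 (ε F b) a := by
  have := mem_US'.1 hx a (v - v b • ε F b) (fun j k => by
    by_cases c : j = b
    · simp [c, ε_apply]
    · have : j.1 ≠ b.1 := fun e => c (Fin.ext e)
      simp [ε_apply, c, hv j (by omega)]) a le_rfl
  have ne : a ≠ b := fun e => by rw [e] at hab; omega
  simp only [map_sub, map_smul, Pi.sub_apply, Pi.smul_apply, smul_eq_mul, ε_apply, if_neg ne] at this
  linear_combination this

theorem bot_val : (⊥ : LS.I n).1 = 0 := rfl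

/-- Coordinatewise `θ`. -/
def cw (θ : RingAut F) (n : ℕ) : VV n F ≃+ VV n F := AddEquiv.piCongrRight fun _ => θ.toAddEquiv

omit [CharP F 2] [Finite F] in
theorem cw_ap (θ : RingAut F) (v : VV n F) (j : LS.I n) : cw θ n v j = θ (v j) := rfl

omit [CharP F 2] [Finite F] in
theorem cw_ε (θ : RingAut F) (j : LS.I n) : cw θ n (ε F j) = ε F j := funext fun k => by
  simp [cw_ap, ε_apply, apply_ite θ]

omit [CharP F 2] [Finite F] in
theorem cw_Fl (θ : RingAut F) {r : ℕ} {v : VV n F} (hv : v ∈ Fl F n r) : cw θ n v ∈ Fl F n r := fun j k => by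
  rw [cw_ap, hv j k, map_zero]

omit [CharP F 2] [Finite F] in
theorem Ind.uniq {α β : MulAut (SUG (BD s n))} {Φ : VV n F ≃+ VV n F} {θ θ' : RingAut F} (p : Ind (BD s n) α Φ θ)
    (p' : Ind (BD s n) β Φ θ') : α = β := MulEquiv.ext fun x => J_ext fun v => by
  obtain ⟨v, rfl⟩ := Φ.surjective v
  rw [p.act, p'.act]

namespace Ok
variable (h : Ok (BD s n))
include h

theorem hy0 : Hy (BD s n) (ε F ⊥) (ε F ⊤) := ⟨by simp [ε_apply], by simp [ε_apply], by simp [ε_apply]⟩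

/-- `ind_of`, `θσ`. -/
theorem cw_ind (θ : RingAut F) : ∃ α, Ind (BD s n) α (cw θ n) θ :=
  h.ind_of (fun a v => funext fun j => map_mul θ a (v j)) fun u v => by
    simp only [BD_apply, map_sum, map_mul, cw_ap]
    exact Finset.sum_congr rfl fun j _ => congrArg (· * _) (h.θσ θ _).symm

/-- The field automorphisms. -/
def fl : RingAut F →* MulAut (SUG (BD s n)) := MonoidHom.mk' (fun θ => (h.cw_ind θ).choose) fun θ θ' =>
  (h.cw_ind (θ * θ')).choose_spec.uniq ((h.cw_ind θ).choose_spec.mul (h.cw_ind θ').choose_spec)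

theorem fl_ind (θ : RingAut F) : Ind (BD s n) (h.fl θ) (cw θ n) θ := (h.cw_ind θ).choose_spec

theorem fl_US (θ : RingAut F) (hx : x ∈ US s n) : h.fl θ x ∈ US s n := mem_US.2 fun j => by
  have := cw_Fl θ (mem_US.1 hx j)
  rwa [map_sub, ← (h.fl_ind θ).act, cw_ε] at this

/-- `ei (ε i) w γ` for `w` supported strictly between `i` and `rev i`. -/
theorem ei_US (hi : i < i.rev) (hw : ∀ j, j ≤ i ∨ i.rev ≤ j → w j = 0) (γ : F) : ei (BD s n) (ε F i) w γ ∈ US s n := by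
  by_cases p : Va (BD s n) (ε F i) w γ
  swap
  · exact ei_junk p ▸ one_mem _
  refine mem_US.2 fun j k hk => ?_
  have hk' : j ≤ k := hk
  rw [h.ei_ap p, BD_ε, BD_ε']
  simp only [Pi.sub_apply, Pi.add_apply, Pi.smul_apply, smul_eq_mul, ε_apply]
  by_cases c : i.rev = j
  · subst c
    simp [hw k (.inr hk'), (hi.trans_le hk').ne']
  · by_cases d : k = i
    · subst d
      simp [c, hw j.rev (.inr (Fin.rev_le_rev.2 hk'))]
    · simp [c, d]

theorem Q_US : Q (BD s n) (ε F ⊥) ≤ US s n := fun x hx => by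
  obtain ⟨w, γ, p, k, rfl⟩ := h.Q_ex h.hy0 hx
  refine h.ei_US (by simp) (fun j hj => ?_) γ
  rcases hj with c | c
  · rw [le_bot_iff.1 c]; simpa using k
  · rw [show j = ⊤ from top_le_iff.1 (by simpa using c)]; simpa using p.ew

theorem US_stab : US s n ≤ Stab (BD s n) (ε F ⊥) := fun _ hx => sub_eq_zero.1 (Fl_zero (mem_US.1 hx ⊥))

theorem W_US {r : ℕ} (hr : 2 * r ≤ n + 3) : W (BD s n) (Fl F n r) ≤ US s n := fun x hx => mem_US.2 fun j => by
  rcases Nat.lt_or_ge j r with c | c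
  · rw [h.W_fix hx (Fl_ti hr (ε_Fl c)), sub_self]; exact zero_mem _
  · exact Fl_mono c (hx _)

/-- `x` fixes `ε j`, `ε (rev j)` for `j < r`. -/
def FxB (x : SUG (BD s n)) (r : ℕ) : Prop := ∀ j : LS.I n, j.1 < r → x.1 (ε F j) = ε F j ∧ x.1 (ε F j.rev) = ε F j.rev

omit h [CharP F 2] [Finite F] in
theorem fx_co {r : ℕ} (k : FxB x r) (v : VV n F) {j : LS.I n} (hj : j.1 < r) : x.1 v j = v j := by
  have := iso x (ε F j.rev) v
  rwa [(k j hj).2, BD_ε, BD_ε, Fin.rev_rev] at this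

omit h [Finite F] in
theorem fx_self (hx : x ∈ US s n) (k : FxB x i) : x.1 (ε F i) = ε F i := funext fun j => by
  rcases Nat.lt_or_ge j i with c | c
  · exact fx_co k _ c
  · exact sub_eq_zero.1 (mem_US.1 hx i j c)

theorem US_ind {M N : Subgroup (SUG (BD s n))} (hM : M ≤ US s n) (k : ∀ x ∈ M, ∀ i w γ, i < i.rev → (∀ j, j ≤ i ∨ i.rev ≤ j → w j = 0) →
    Va (BD s n) (ε F i) w γ → x.1 (ε F i.rev) = ε F i.rev + w + γ • ε F i → ei (BD s n) (ε F i) w γ ∈ M ⊓ N) : M ≤ N := by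
  have : ∀ r, ∀ x ∈ M, FxB x (n + 3 - r) → x ∈ N := fun r => by
    induction r with
    | zero =>
      intro x _ fx
      rw [show x = 1 from J_ext fun v => funext fun j => fx_co fx v j.2]
      exact one_mem _
    | succ r ih =>
      intro x hx fx
      rcases Nat.lt_or_ge r (n + 3) with c | c
      swap
      · exact ih x hx (by rwa [show n + 3 - r = n + 3 - (r + 1) by omega])
      obtain ⟨i, hi⟩ : ∃ i : LS.I n, i.1 = n + 3 - (r + 1) := ⟨⟨_, by omega⟩, rfl⟩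
      rw [← hi] at fx
      rw [show n + 3 - r = i + 1 by omega] at ih
      have f1 := fx_self (hM hx) fx
      have f2 : ∀ j : LS.I n, j ≤ i → x.1 (ε F j) = ε F j := fun j hj => hj.eq_or_lt.elim (fun e => e ▸ f1) fun e => (fx j e).1
      rcases lt_or_ge i i.rev with d | d
      swap
      · exact ih x hx fun j hj => ⟨f2 j (Nat.le_of_lt_succ hj), (Nat.le_of_lt_succ hj).eq_or_lt.elim
          (fun e => by rw [Fin.ext e]; exact f2 _ d) fun e => (fx j e).2⟩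
      obtain ⟨γ, hγ⟩ : ∃ γ, γ = x.1 (ε F i.rev) i := ⟨_, rfl⟩
      obtain ⟨w, hw⟩ : ∃ w, x.1 (ε F i.rev) = ε F i.rev + w + γ • ε F i := ⟨x.1 (ε F i.rev) - ε F i.rev - γ • ε F i, by module⟩
      have sp : ∀ j, j ≤ i ∨ i.rev ≤ j → w j = 0 := fun j hj => by
        have e := congrFun hw j
        rcases hj with c | c
        · rcases c.eq_or_lt with rfl | c
          · simpa [← hγ, ε_apply, d.ne] using e
          · rw [fx_co fx _ c] at e
            simpa [ε_apply, c.ne] using e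
        · rw [sub_eq_zero.1 (mem_US.1 (hM hx) i.rev j c)] at e
          simpa [ε_apply, (d.trans_le c).ne'] using e
      have p : Va (BD s n) (ε F i) w γ := ⟨by simp [ε_apply, d.ne'], by simp [sp _ (.inr le_rfl)], by
        have := iso x (ε F i.rev) (ε F i.rev)
        simp only [hw, map_add, LinearMap.add_apply, map_smul, LinearMap.map_smulₛₗ, LinearMap.smul_apply, BD_ε, BD_ε', Fin.rev_rev,
          ε_apply, if_neg d.ne, if_neg d.ne', sp _ (.inl le_rfl), sp _ (.inr le_rfl), if_true, smul_eq_mul, map_zero, map_one] at this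
        linear_combination this - aa (BD s n w w)⟩
      have m := k x hx i w γ d sp p hw
      have := ih _ (mul_mem (inv_mem m.1) hx) fun j hj => by
        have hj : j ≤ i := Nat.le_of_lt_succ hj
        refine ⟨?_, ?_⟩
        · rw [mul_ap, f2 j hj]
          exact inv_eq_of (h.ei_fix p (by simp [ε_apply, (hj.trans_lt d).ne']) (by simp [BD_ε', sp _ (.inr (Fin.rev_le_rev.2 hj))]))
        · rcases hj.eq_or_lt with rfl | c
          · rw [mul_ap, hw]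
            exact inv_eq_of (by simp [h.ei_ap p, ε_apply, BD_ε', sp _ (.inl le_rfl)])
          · rw [mul_ap, (fx j c).2]
            exact inv_eq_of (h.ei_fix p (by simp [ε_apply, c.ne']) (by simp [BD_ε', sp _ (.inl hj)]))
      simpa using mul_mem m.2 this
  exact fun x hx => this (n + 3) x hx fun j hj => absurd hj (by omega)

/-- Induction: if `x ∈ U` fixes `ε j`, `ε (rev j)` for `j < i` then `x (ε (rev i)) = ε (rev i) + w + γ ε i`, and `(ei (ε i) w γ)⁻¹ x` fixes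
`ε i`, `ε (rev i)` too.  At the end `x` fixes all `ε j`. -/
theorem US_gen {N : Subgroup (SUG (BD s n))} (k : ∀ i w γ, i < i.rev → (∀ j, j ≤ i ∨ i.rev ≤ j → w j = 0) → Va (BD s n) (ε F i) w γ →
    ei (BD s n) (ε F i) w γ ∈ N) : US s n ≤ N :=
  h.US_ind le_rfl fun _ _ i w γ a b c _ => ⟨h.ei_US a b γ, k i w γ a b c⟩

omit h [CharP F 2] [Finite F] in
theorem sp_ε {j : LS.I n} (h1 : i < j) (h2 : j < i.rev) (a : F) (k : LS.I n) (hk : k ≤ i ∨ i.rev ≤ k) : (a • ε F j) k = 0 := by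
  rw [Pi.smul_apply, ε_apply, if_neg, smul_zero]
  rintro rfl
  exact hk.elim h1.not_ge h2.not_ge

theorem va_ε1 (hi : i < i.rev) (hw : ∀ j, j ≤ i ∨ i.rev ≤ j → w j = 0) : ∃ γ, Va (BD s n) (ε F i) w γ :=
  h.va_ex (by simp [ε_apply, hi.ne']) (by simp [hw _ (.inr le_rfl)])

theorem sd_ex {a b : LS.I n} (hab : b.1 = a.1 + 1) : ∃ u ∈ US s n, u.1 (ε F b) a ≠ 0 := by
  have ab : a < b := by rw [Fin.lt_def]; omega
  rcases lt_trichotomy b a.rev with c | c | c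
  · have sp := sp_ε (Fin.lt_rev_iff.1 c) (Fin.rev_lt_rev.2 ab) (1 : F)
    obtain ⟨γ, p⟩ := h.va_ε1 (ab.trans c) sp
    exact ⟨_, h.ei_US (ab.trans c) sp γ, by rw [h.ei_ap p, BD_ε, BD_ε']; simp [ε_apply, ab.ne, c.ne']⟩
  · exact ⟨_, h.ei_US (w := 0) (c ▸ ab) (fun _ _ => rfl) 1, by
      simp [h.ei_ap (.tv (e := ε F a) (by simp [ε_apply, ← c, ab.ne']) (map_one _)), ε_apply, ab.ne, ← c]⟩
  · have c' := Fin.rev_lt_iff.1 c
    have sp := sp_ε (i := b.rev) c' (by rwa [Fin.rev_rev]) (1 : F)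
    have hb : b.rev < b.rev.rev := by rw [Fin.rev_rev]; exact c'.trans ab
    obtain ⟨γ, p⟩ := h.va_ε1 hb sp
    exact ⟨_, h.ei_US hb sp γ, by rw [h.ei_ap p, BD_ε, BD_ε']; simp [ε_apply, ab.ne, c'.ne, c'.ne']⟩

theorem Fl_fix {r : ℕ} {v : VV n F} (k : ∀ u ∈ US s n, u.1 v - v ∈ Fl F n r) : v ∈ Fl F n (r + 1) := by
  have : ∀ t, v ∈ Fl F n (r + 1 + t) → v ∈ Fl F n (r + 1) := fun t => by
    induction t with
    | zero => exact id
    | succ t ih =>
      refine fun hv => ih fun b hb => ?_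
      rcases hb.eq_or_lt with e | e
      swap
      · exact hv b e
      obtain ⟨a, ha⟩ : ∃ a : LS.I n, b.1 = a.1 + 1 := ⟨⟨r + t, by omega⟩, by simp only; omega⟩
      obtain ⟨u, hu, n⟩ := h.sd_ex ha
      have := k u hu a (by omega)
      rw [Pi.sub_apply, ap_sd hu ha (by rwa [← e]), add_sub_cancel_left] at this
      exact (mul_eq_zero.1 this).resolve_right n
  exact this (n + 3) (Fl_top (by omega) v)

omit h in
theorem US_two : IsPGroup 2 (US s n) := LS.em_ju.syl.pgroup.comap_of_injective _ io_inj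

/-- A `2`-group `P ≥ U` fixes a vector `≠ 0` of `V / Fl r` if it stabilizes `Fl r`; the vectors fixed by `U` modulo `Fl r` are `Fl (r + 1)`
(the simple root elements: `ei (ε i) (ε (i + 1)) γ` or `tv (ε i) 1` moves `ε (rev i)` to `ε (rev i - 1)`, and `ε (i + 1)` to `ε i`).
Or: `LS.em_ju` and conjugate in `SL`, the flag of `U` is unique. -/
theorem US_syl : Syl 2 (US s n) ⊤ := by
  refine Syl.of_max le_top US_two fun P hP hU _ => ?_
  obtain ⟨g, -, hg⟩ := LS.em_ju.syl.exists_le_conj (hP.map (io s n)) le_top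
  let T := SpecialLinearGroup.toLin' g
  have e : ∀ x ∈ P, ∀ r, ∀ v ∈ Fl F n (r + 1), x.1 (T v) - T v ∈ (Fl F n r).map T.toLinearMap := fun x hx r v hv =>
    ⟨_, mem_ju'.1 (Transfer.mem_conj.1 (hg ⟨x, hx, rfl⟩)) r v hv, by
      change g.1 *ᵥ _ = x.1 (g.1 *ᵥ v) - g.1 *ᵥ v
      rw [mulVec_sub, mulVec_mulVec, ← io_mulVec, mulVec_mulVec]
      congr 2
      exact congrArg Subtype.val (show g * (g⁻¹ * io s n x * g) = io s n x * g by group)⟩
  have le : ∀ r, (Fl F n r).map T.toLinearMap ≤ Fl F n r := fun r => by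
    induction r with
    | zero => rintro _ ⟨v, hv, rfl⟩; rw [Fl_zero hv, map_zero]; exact zero_mem _
    | succ r ih => rintro _ ⟨v, hv, rfl⟩; exact h.Fl_fix fun u hu => ih (e u (hU hu) r v hv)
  refine fun x hx => mem_US'.2 fun r v hv => ?_
  obtain ⟨v, hv', rfl⟩ := (Submodule.eq_of_le_of_finrank_eq (le (r + 1)) (LinearEquiv.finrank_map_eq T _)).ge hv
  exact le r (e x hx r v hv')

theorem q_two (hq : IsBar q (s : F →+* F)) : ∃ r, 1 ≤ r ∧ q = 2 ^ r :=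
  let ⟨r, a, b⟩ := h.bar; ⟨r, a, Nat.pow_left_injective two_ne_zero (hq.card.symm.trans b.card)⟩

/-- The `2`-part of `card_SUG`. -/
theorem card_US (hq : IsBar q (s : F →+* F)) : Nat.card (US s n) = q ^ ((n + 3) * (n + 2) / 2) := by
  obtain ⟨r, hr, rfl⟩ := h.q_two hq
  have e := h.herm.card_SUG hq (by simp)
  obtain ⟨a, ha⟩ := IsPGroup.iff_card.1 (US_two (s := s) (n := n))
  have i := h.US_syl.not_dvd'
  rw [relIndex_top_right] at i
  have ev : ∀ k, Even ((2 ^ r) ^ (k + 1)) := fun k => Nat.even_pow.2 ⟨Nat.even_pow.2 ⟨even_two, by omega⟩, by omega⟩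
  have o1 : Odd ((2 ^ r + 1) * (US s n).index) := Odd.mul (by simpa using (ev 0).add_one) (by rwa [← Nat.not_even_iff_odd, even_iff_two_dvd])
  have o2 : Odd (∏ i ∈ Finset.range (n + 3), uf (2 ^ r) i) := Finset.prod_induction _ _ (fun _ _ => Odd.mul) odd_one fun i _ => by
    unfold uf
    split_ifs
    · exact (ev i).add_one
    · exact Nat.Even.sub_odd (Nat.one_le_pow _ _ (by positivity)) (ev i) odd_one
  rw [finrank_VV, guOrder, ← (US s n).card_mul_index, ha, mul_left_comm, ← pow_mul] at e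
  rw [ha, ← pow_mul]
  exact Nat.dvd_antisymm ((o2.coprime_two_left.pow_left _).dvd_of_dvd_mul_right (e ▸ dvd_mul_right _ _))
    ((o1.coprime_two_left.pow_left _).dvd_of_dvd_mul_right (e ▸ dvd_mul_right _ _))

/-- `zq`. -/
theorem mem_ZU {u : US s n} : u ∈ center (US s n) ↔ ∃ c, s c = c ∧ u.1 = tv (BD s n) (ε F ⊥) c :=
  ⟨fun k => h.zq (ε_ne _) h.hy0.ee (h.US_stab u.2) fun x hx => congrArg Subtype.val (mem_center_iff.1 k ⟨x, h.Q_US hx⟩).symm,
    fun ⟨c, _, k⟩ => mem_center_iff.2 fun x => Subtype.ext (by rw [coe_mul, coe_mul, k]; exact h.stab_tv (h.US_stab x.2) c)⟩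

theorem tv_US (c : F) : tv (BD s n) (ε F ⊥) c ∈ US s n := h.Q_US (h.tv_mem_Q _ c)

theorem card_ZU (hq : IsBar q (s : F →+* F)) : Nat.card (center (US s n)) = q := by
  rw [← hq.card_fixedField]
  refine (Nat.card_eq_of_bijective (fun c : fixedField (s : F →+* F) => (⟨⟨_, h.tv_US c⟩, h.mem_ZU.2 ⟨c, c.2, rfl⟩⟩ : center (US s n)))
    ⟨fun c d e => Subtype.ext (h.tv_inj (ε_ne _) h.hy0.ee c.2 d.2 (congrArg (·.1.1) e)), fun u => ?_⟩).symm
  obtain ⟨c, a, b⟩ := h.mem_ZU.1 u.2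
  exact ⟨⟨c, a⟩, Subtype.ext (Subtype.ext b.symm)⟩

/-- An involution centralizing a Sylow `2`-subgroup is a transvection. -/
theorem syl_tv {P : Subgroup (SUG (BD s n))} (hP : IsPGroup 2 P) (hc : Nat.card (US s n) ≤ Nat.card P) (x2 : x * x = 1) (x1 : x ≠ 1)
    (k : ∀ y ∈ P, x * y = y * x) : rk (BD s n) x = 1 := by
  obtain ⟨g, -, rfl⟩ := h.US_syl.exists_conj_eq (h.US_syl.of_card_le' hP le_top hc)
  obtain ⟨x, rfl⟩ : ∃ z, x = g * z * g⁻¹ := ⟨g⁻¹ * x * g, by group⟩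
  have k' : ∀ y ∈ US s n, x * y = y * x := fun y hy => by
    have := k _ (Transfer.conj_mem_conj.2 hy)
    rwa [conj_mul, conj_mul, mul_left_inj, mul_right_inj] at this
  obtain ⟨a, -, ha⟩ := h.cz (ε_ne _) h.hy0.ee (map_one _) one_ne_zero (k' _ (h.tv_US 1))
  obtain ⟨c, hc, rfl⟩ := h.zq (ε_ne _) h.hy0.ee (h.two_fix (n := 1) (by
    rwa [conj_mul, conj_eq_one_iff, ← sq, ← pow_one 2] at x2) ha) fun u hu => k' u (h.Q_US hu)
  rw [rk_conj]
  exact (h.rk_tv (ε_ne _) h.hy0.ee hc (by rintro rfl; simp [h.tv_zero] at x1)).2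

theorem QZ_w (hx : x ∈ Q (BD s n) (ε F ⊥)) (hz : ¬ ∃ c, s c = c ∧ x = tv (BD s n) (ε F ⊥) c) :
    ∃ w γ, Va (BD s n) (ε F ⊥) w γ ∧ w ∉ F ∙ ε F ⊥ ∧ x = ei (BD s n) (ε F ⊥) w γ := by
  obtain ⟨w, γ, p, rfl⟩ := h.Q_ex' (ε_ne _) h.hy0.ee hx
  refine ⟨w, γ, p, fun k => hz ?_, rfl⟩
  obtain ⟨a, rfl⟩ := Submodule.mem_span_singleton.1 k
  have p' : Va (BD s n) (ε F ⊥) 0 γ := ⟨p.ee, by simp, by simpa [p.ee, -BD_ε] using p.tr⟩
  exact ⟨_, (h.va_add p' (h.tK a)).fix, by rw [tv, ← h.ei_shift p', zero_add]⟩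

omit h [Finite F] in
theorem nQ_w {e : VV n F} (hx : x ∈ Stab (BD s n) e) (hq : x ∉ Q (BD s n) e) : ∃ w, BD s n e w = 0 ∧ x.1 w + w ∉ F ∙ e := by
  by_contra! k
  refine hq ⟨x.2.1, hx, fun v hv => ?_⟩
  obtain ⟨a, ha⟩ := Submodule.mem_span_singleton.1 (k v hv)
  exact ⟨a, by rw [ha, add_left_comm, vv F, add_zero]; rfl⟩

theorem cm_ei {e : VV n F} (hx : x.1 e = e) (p : Va (BD s n) e w γ) :
    ∃ δ, Va (BD s n) e (x.1 w + w) δ ∧ ⁅x, ei (BD s n) e w γ⁆ = ei (BD s n) e (x.1 w + w) δ := by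
  have p' := p.map x
  rw [hx] at p'
  exact ⟨_, h.va_mul p' (h.va_inv p), by rw [commutatorElement_def, h.ei_conj, hx, h.ei_inv p, h.ei_mul p' (h.va_inv p)]⟩

theorem eiU (w : VV n F) (γ : F) : ei (BD s n) (ε F ⊥) w γ ∈ US s n := h.Q_US (h.ei_mem_Q ..)

/-- `x ∈ U ∖ Q` acts non-trivially on `Q / Z`: `⁅x, u⁆ ∈ Q ∖ Z` for some `u ∈ Q`.  `x ∈ Q ∖ Z`: `⁅x, Q⁆ = Z` (`bf_onto`). -/
theorem NZ (N : Subgroup (US s n)) (hN : N.Normal) : N ≤ center (US s n) ∨ center (US s n) ≤ N := by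
  refine or_iff_not_imp_left.2 fun k z hz => ?_
  obtain ⟨u, hu, nu⟩ := SetLike.not_le_iff_exists.1 k
  have cm : ∀ a ∈ N, ∀ b, ⁅a, b⁆ ∈ N := fun a ha b => by
    simpa [commutatorElement_def, mul_assoc] using mul_mem ha (hN.conj_mem _ (inv_mem ha) b)
  obtain ⟨w, γ, p, nw, m⟩ : ∃ w γ, Va (BD s n) (ε F ⊥) w γ ∧ w ∉ F ∙ ε F ⊥ ∧ (⟨_, h.eiU w γ⟩ : US s _) ∈ N := by
    by_cases c : u.1 ∈ Q (BD s _) (ε F ⊥)
    · obtain ⟨w, γ, p, a, b⟩ := h.QZ_w c (mt h.mem_ZU.2 nu)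
      exact ⟨w, γ, p, a, (Subtype.ext b : u = ⟨_, h.eiU w γ⟩) ▸ hu⟩
    · obtain ⟨w, a, b⟩ := nQ_w (h.US_stab u.2) c
      obtain ⟨γ, p⟩ := h.va_ex h.hy0.ee a
      obtain ⟨δ, p', e⟩ := h.cm_ei (h.US_stab u.2) p
      exact ⟨_, δ, p', b, (Subtype.ext e : ⁅u, ⟨_, h.eiU w γ⟩⁆ = ⟨_, h.eiU _ δ⟩) ▸ cm u hu _⟩
  obtain ⟨c, hc, e⟩ := h.mem_ZU.1 hz
  obtain ⟨w', a, rfl⟩ := h.bf_onto p.ee nw hc
  obtain ⟨γ', p'⟩ := h.va_ex p.ee a
  exact (Subtype.ext (e.trans (h.tv_cm' p p')) : z = ⁅(⟨_, h.eiU w γ⟩ : US s n), (⟨_, h.eiU w' γ'⟩ : US s n)⁆) ▸ cm _ m _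

theorem idx_le {T : Type*} [AddCommGroup T] (f : T →+ VV n F) (hf : ∀ t, BD s n (ε F ⊥) (f t) = 0) (X : Subgroup (US s n))
    (k : ∀ t γ, Va (BD s n) (ε F ⊥) (f t) γ → (⟨_, h.eiU (f t) γ⟩ : US s n) ∈ X → t = 0) : Nat.card T ≤ X.index := by
  choose γ p using fun t => h.va_ex h.hy0.ee (hf t)
  refine Nat.card_le_card_of_injective (fun t => ((⟨_, h.eiU (f t) (γ t)⟩ : US s n) : US s n ⧸ X)) fun t t' e => ?_
  have e1 : f (t - t') = f t + f t' := by rw [map_sub, vsub F]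
  refine sub_eq_zero.1 (k _ _ (e1 ▸ h.va_mul (h.va_inv (p t)) (p t')) ?_)
  convert QuotientGroup.eq.1 e using 1
  exact Subtype.ext (by rw [coe_mul, coe_inv, h.ei_inv (p t), h.ei_mul (h.va_inv (p t)) (p t'), e1])

/-- `x ∈ Q ∖ Z`: the class contains `x Z`.  `x ∉ Q`: the conjugates by `ei e₀ (a w) _`, `a ∈ F`, `x w ≢ w`, are distinct. -/
theorem CLS (x : US s n) (hx : x ∉ center (US s n)) : Nat.card (center (US s n)) ≤ (𝐂[x]).index := by
  obtain ⟨r, -, hq⟩ := h.bar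
  obtain ⟨w, hw, k⟩ : ∃ w, BD s n (ε F ⊥) w = 0 ∧ ∀ c γ, s c = c → Va (BD s n) (ε F ⊥) (c • w) γ →
      ei (BD s n) (ε F ⊥) (c • w) γ * x = x * ei (BD s n) (ε F ⊥) (c • w) γ → c = 0 := by
    by_cases c : x.1 ∈ Q (BD s _) (ε F ⊥)
    · obtain ⟨w, γ, p, a, b⟩ := h.QZ_w c (mt h.mem_ZU.2 hx)
      obtain ⟨w', a', e⟩ := h.bf_onto p.ee a (map_one _)
      refine ⟨w', a', fun c δ hc p' k => by_contra fun c0 => h.tv_ne (ε_ne _) p.ee hc c0 ?_⟩
      rwa [b, h.ei_swap p p', bf_smul_right hc, e, mul_one, left_eq_mul] at k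
    · obtain ⟨w, a, b⟩ := nQ_w (h.US_stab x.2) c
      refine ⟨w, a, fun c δ hc p' k => by_contra fun c0 => b ?_⟩
      have e := cjf.2 k.symm
      have p := p'.map x.1
      rw [h.ei_conj] at e
      rw [mem_Stab.1 (h.US_stab x.2)] at e p
      obtain ⟨a, ha, -⟩ := h.ei_inj (ε_ne _) p' p e.symm
      refine Submodule.mem_span_singleton.2 ⟨c⁻¹ * a, ?_⟩
      rw [map_smul] at ha
      rw [mul_smul, inv_smul_eq_iff₀ c0, smul_add, ha, add_right_comm, vv F, zero_add]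
  rw [h.card_ZU hq, ← hq.card_fixedField]
  exact h.idx_le (AddMonoidHom.mk' (fun c : fixedField (s : F →+* F) => (c : F) • w) fun _ _ => add_smul ..) (fun t => by simp [hw, -BD_ε]) _
    fun t γ p m => Subtype.ext (k t γ t.2 p (congrArg Subtype.val (mem_centralizer_singleton_iff.1 m)))

end Ok

end Cfsg.Lib.UF
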