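import Cfsg.Agent.Lib.UF.Z1a

/-!
# S1778 (U₅): the groups `Y v`, part b: `q = 2`.  See `docs/UF.md`.
-/

set_option autoImplicit false
set_option linter.unusedSectionVars false

namespace Cfsg.Lib.UF

open Module Subgroup G2S Cfsg.Lib.BG Cfsg.Lib.GW GSt.SLa Cfsg.Lib.Unitary
open scoped commutatorElement Cfsg.Lib.Transfer

variable {F V : Type*} [Field F] [CharP F 2] [Finite F] [AddCommGroup V] [Module F V] [Finite V] {σ : F →+* F}
  {B : V →ₛₗ[σ] V →ₗ[F] F} {G : Type*} [Group G] [Finite G] {ψ : SUG B →* G} {t g k w : G} {e e' f f' : V} {c d : F} {x y : SUG B}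

namespace Z1
variable (h : Ok B)
include h

theorem af_lev (hx : x.1 e = e) (hx' : x.1 e' = e') : AF ψ e e' (ψ x) fun v => ⟨x.1 v, lmem hx hx' v⟩ :=
  af_lin h (a := 1) (by rw [one_smul, hx]) fun v => by simp

theorem af_stab (p : Hy B e e') (hx : x ∈ Stab B e) : ∃ (y : SUG B) (h1 : y.1 e = e) (h2 : y.1 e' = e'), x * y⁻¹ ∈ Q B e ∧
    AF ψ e e' (ψ x) fun v => ⟨y.1 v, lmem h1 h2 v⟩ := by
  obtain ⟨u, hu, y, h1, h2, rfl⟩ := h.stab_dec p hx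
  exact ⟨y, h1, h2, by simpa using hu, map_mul ψ u y ▸ (af_Q h p hu).mul (af_lev h h1 h2)⟩

theorem conj_W {I : Submodule F V} (k : ∀ v ∈ I, x.1 v ∈ I) (hy : y ∈ W B I) : x * y * x⁻¹ ∈ W B I := fun v => by
  simpa [mul_ap, -InvMemClass.coe_inv, -MulMemClass.coe_mul] using k _ (hy ((x⁻¹).1 v))

variable (s : St ψ t)
include s

theorem mem_Q_of (p : Hy B e e') (hx : x ∈ Stab B e) (a : AF ψ e e' (ψ x) id) : x ∈ Q B e := by
  obtain ⟨y, h1, h2, hu, a'⟩ := af_stab (ψ := ψ) h p hx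
  obtain rfl : y = 1 := h.hy_ext p h1 h2 fun w w1 w2 => congrArg Subtype.val (a'.uniq h s p a ⟨w, mem_hypPerp.2 ⟨w1, w2⟩⟩)
  simpa using hu

theorem gd_inv (h0 : e ≠ 0) (hg : Gd ψ t e g) (hx : x ∈ Stab B e) : ∃ y ∈ Stab B e, g⁻¹ * ψ x * g = ψ y := by
  obtain ⟨γ, k⟩ := s.gd_aut h h0 hg
  refine ⟨_, (γ.symm ⟨x, hx⟩).2, ?_⟩
  have := k (γ.symm ⟨x, hx⟩)
  rw [MulEquiv.apply_symm_apply] at this
  rw [← this]; group

theorem gd_left (hg : Gd ψ t e g) (hx : x ∈ Stab B e) : Gd ψ t e (ψ x * g) := by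
  have z : ψ x * ψ (tv B e 1) = ψ (tv B e 1) * ψ x := by rw [← map_mul, ← map_mul, h.stab_tv hx]
  refine ⟨?_, by rw [mul_assoc, hg.gz, ← mul_assoc, z, mul_assoc], fun u hu => ?_⟩
  · calc _ = ψ x * (g * t * g⁻¹) * (ψ x)⁻¹ := by group
      _ = _ := by rw [hg.gt, ← mul_assoc, tz s, mul_assoc t, z]; group
  · obtain ⟨y, hy, k⟩ := hg.gS u hu
    exact ⟨_, mul_mem (mul_mem hx hy) (inv_mem hx), by rw [map_mul, map_mul, map_inv, ← k]; group⟩

theorem compat {e₂ : V} {T : hypPerp B e e' → hypPerp B e e'} {T' : hypPerp B e e₂ → hypPerp B e e₂} (p : Hy B e e')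
    (a : AF ψ e e' k T) (a' : AF ψ e e₂ k T') (v : hypPerp B e e') (v' : hypPerp B e e₂) (q : v.1 - v'.1 ∈ F ∙ e) :
    (T v).1 - (T' v').1 ∈ F ∙ e := by
  obtain ⟨b, hb⟩ := Submodule.mem_span_singleton.1 q
  have hv : v.1 = v'.1 + b • e := by rw [hb]; abel
  obtain ⟨γ, r⟩ := h.va_ex p.ee (h1 v')
  obtain ⟨_, r1, k1⟩ := a v γ (hv ▸ h.va_shift r b)
  obtain ⟨_, r2, k2⟩ := a' v' _ (h.va_add r (h.tK b))
  rw [← h.ei_shift r, ← hv, k1] at k2
  obtain ⟨c, k, -⟩ := h.ei_inj p.ne r2 r1 (Qinj h s p.ne (h.ei_mem_Q ..) (h.ei_mem_Q ..) k2.symm)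
  exact Submodule.mem_span_singleton.2 ⟨c, by rw [k]; abel⟩

theorem two_inj {n m : ℕ} (hx : x ^ 2 ^ n = 1) (hy : y ^ 2 ^ m = 1) (k : ψ x = ψ y) : x = y := s.inj2 h.bm hx hy k

end Z1

open Z1

namespace St
variable (s : St ψ t) (h : Ok B)
include s h

section two
variable (hq : ∀ c, σ c = c → c = 0 ∨ c = 1)
include hq

/-- `T` normalizes the action of the Levi factor (`stab_dec`: `γ x ∈ Q y`), so `T a T⁻¹` commutes with it (finiteness or `γ⁻¹`), `endo`: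
`T a T⁻¹ = ρ a`, `ρ` a ring automorphism, `ρ = 1` or `σ` (`two`).  `bf` is preserved (`aq_cm`); apply this to `v`, `ω v`. -/
theorem gd_semi (p : Hy B e e') (hg : Gd ψ t e g) {T : hypPerp B e e' ≃+ hypPerp B e e'} (a : AQ ψ e e' g T) :
    ∃ θ : RingAut F, (∀ (a : F) v, T (a • v) = θ a • T v) ∧ ∀ v w : hypPerp B e e', B (T v) (T w) = θ (B v w) := by
  have a' := AF.inv h s p a
  have key : ∀ b : F, ∃ r : F, ∀ v, T (b • T.symm v) = r • v := fun b =>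
    h.endo p (T.toAddMonoidHom.comp ((DistribSMul.toAddMonoidHom _ b).comp T.symm.toAddMonoidHom)) fun x v w hx hx' hv => by
      obtain ⟨x', hx1, k⟩ := gd_inv h s p.ne hg hx
      obtain ⟨y, y1, y2, -, ay⟩ := af_stab (ψ := ψ) h p hx1
      have e1 := ((a'.mul (af_lev h hx hx')).mul a).uniq h s p (k ▸ ay)
      have e2 : ∀ v, x.1 (T v) = T ⟨y.1 v, lmem y1 y2 v⟩ := fun v => by rw [← e1]; simp
      obtain ⟨v, rfl⟩ := T.surjective v
      obtain rfl : w = T ⟨y.1 v, lmem y1 y2 v⟩ := Subtype.ext (hv.symm.trans (e2 v))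
      show x.1 (T (b • T.symm (T v))) = T (b • T.symm (T _))
      rw [e2, T.symm_apply_apply, T.symm_apply_apply]
      congr 2; ext; simp
  choose ρ hρ using key
  replace hρ : ∀ b v, T (b • v) = ρ b • T v := fun b v => by rw [← hρ, T.symm_apply_apply]
  obtain ⟨v₀, hv₀⟩ := hnt h p
  have inj := smul_left_injective F (show T v₀ ≠ 0 by simpa using hv₀)
  let ρ' : F →+* F :=
    { toFun := ρ, map_one' := inj (by simp [← hρ]), map_zero' := inj (by simp [← hρ])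
      map_mul' a b := inj (by simp only [← hρ, mul_smul]), map_add' a b := inj (by simp only [← hρ, add_smul, map_add]) }
  let θ : RingAut F := RingEquiv.ofBijective ρ' (Finite.injective_iff_bijective.1 ρ'.injective)
  obtain ⟨χ, c0, cK, c1, c2⟩ := AF.chi h s p a
  have c3 : ∀ v w, bf B (T v).1 (T w).1 = θ (bf B v.1 w.1) := fun v w => by
    rw [c2]
    rcases hq _ (h.bfK v.1 w.1) with k | k <;> rw [k]
    · rw [c0, map_zero]
    · rw [map_one]; exact tvi h s p.ne p.ee (cK _) (map_one σ) (by rw [← c1, cjf.2 hg.gz])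
  refine ⟨θ, hρ, fun v w => CharTwo.add_eq_zero.1 (h.tr_nd fun c => ?_)⟩
  obtain ⟨c, rfl⟩ := θ.surjective c
  have := c3 v (c • w)
  rw [hρ, h.bf_eq, h.bf_eq, map_add, h.θσ] at this
  simp only [Submodule.coe_smul, map_smul, smul_eq_mul, map_mul] at this
  simp only [map_mul, map_add]
  change θ c * _ + σ (θ c) * _ = _ at this
  linear_combination this + aa (θ c * θ (B v w)) + aa (σ (θ c) * σ (θ (B v w)))

/-- `g³` has `det T³ = 1` (`det_mul_conj`, `two`), `levi`; `w = (ψ x)⁻¹ g³`. -/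
theorem gd_lin (p : Hy B e e') (hg : Gd ψ t e g) {T : hypPerp B e e' ≃+ hypPerp B e e'} (a : AQ ψ e e' g T)
    (hT : ∀ (a : F) v, T (a • v) = a • T v) : ∃ w, W0 ψ t e w 1 := by
  obtain ⟨θ, t1, t2⟩ := s.gd_semi h hq p hg a
  obtain ⟨v₀, hv₀⟩ := hnt h p
  have t3 : ∀ a, θ a = a := fun a => smul_left_injective F (show T v₀ ≠ 0 by simpa using hv₀) (by simp only [← t1, hT])
  have hL : T.toLinearEquiv hT ∈ UG (B.domRestrict₁₂ (hypPerp B e e') (hypPerp B e e')) := fun v w => (t2 v w).trans (t3 _)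
  have d1 := (h.herm.isHerm_hypPerp p.ee p.ef).det_mul_conj hL
  rw [(h.two hq).2.2.1] at d1
  obtain ⟨x, x1, x2, x3⟩ := h.levi p (T := (T.toLinearEquiv hT * T.toLinearEquiv hT * T.toLinearEquiv hT)⁻¹)
    (inv_mem (mem_SUG'.2 ⟨mul_mem (mul_mem hL hL) hL, by
      rw [LinearEquiv.coe_toLinearMap_mul, LinearEquiv.coe_toLinearMap_mul, map_mul, map_mul, mul_assoc, d1]⟩))
  have zz : ψ (tv B e 1) * ψ (tv B e 1) = 1 := by rw [← map_mul, h.tv_sq, map_one]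
  have g2 : g * (g * t * g⁻¹) * g⁻¹ = t := by rw [hg.gt, ← conj_mul, hg.gt, cjf.2 hg.gz, mul_assoc, zz, mul_one]
  refine ⟨ψ x * (g * g * g), Z1.w0_of h s p (map_one σ) ?_ (((af_lev h x1 x2).mul ((AF.mul a a).mul a)).congr fun v => Subtype.ext ?_)⟩
  · calc _ = ψ x * (g * (g * (g * t * g⁻¹) * g⁻¹) * g⁻¹) * (ψ x)⁻¹ := by group
      _ = _ := by rw [g2, hg.gt, ← conj_mul, cjf.2 (tz s x), ← map_inv, ← map_mul, ← map_mul, h.tv_conj, x1]
  · exact (x3 _).trans (congrArg Subtype.val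
      ((T.toLinearEquiv hT * T.toLinearEquiv hT * T.toLinearEquiv hT).symm_apply_apply v))

/-- `f = f₀ + a e`, `f₀ ∈ V₀`.  `γ (tv f 1)` acts on `V₀` as `tv (T f₀) 1`, so `γ (tv f 1) = u · tv (T f₀) 1`, `u ∈ Q` (an element of `Stab e`
trivial on `e^⊥ / e` lies in `Q`).  Both centralize the `ei e w _` with `B (T f₀) w = 0`, so the class of `u` is `b • T f₀`; `tv_ln`. -/
theorem gd_tv (p : Ln B e f) (hg : Gd ψ t e g) : ∃ f', Ln B e f' ∧
    (g * ψ (tv B f 1) * g⁻¹ = ψ (tv B f' 1) ∨ g * ψ (tv B f 1) * g⁻¹ = ψ (tv B f' 1 * tv B e 1)) ∧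
    ∀ (p' : Hy B e e') (T : hypPerp B e e' ≃+ hypPerp B e e') (v : hypPerp B e e'), AQ ψ e e' g T → f - v ∈ F ∙ e →
      f' - T v ∈ F ∙ e := by
  obtain ⟨e₁, f₁, r⟩ := h.fr_ex p
  have q := r.he
  obtain ⟨T, a⟩ := s.aq_ex h q (s.gd_Q h p.ne p.ee hg).1
  obtain ⟨θ, t1, t2⟩ := s.gd_semi h hq q hg a
  obtain ⟨f₀, rfl⟩ : ∃ f₀ : hypPerp B e e₁, f = f₀ := ⟨⟨f, mem_hypPerp.2 ⟨r.ef, r.e'f⟩⟩, rfl⟩
  have ff : B (T f₀) (T f₀) = 0 := by rw [t2, p.ff, map_zero]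
  have fx : ∀ u : hypPerp B e e₁, (tv B u.1 1).1 e = e ∧ (tv B u.1 1).1 e₁ = e₁ := fun u =>
    ⟨h.tv_fix (h.cm (h1 u)) 1, h.tv_fix (h.cm (h2 u)) 1⟩
  obtain ⟨y, hy, k⟩ := hg.gS _ (fx f₀).1
  have hu : y * tv B (T f₀) 1 ∈ Q B e := mem_Q_of h s q (mul_mem hy (fx _).1) (by
    rw [map_mul, ← k]
    refine ((((AF.mul a (af_lev h (fx f₀).1 (fx f₀).2)).mul (AF.inv h s q a))).mul (af_lev h (fx _).1 (fx _).2)).congr fun v => ?_
    obtain ⟨v, rfl⟩ := T.surjective v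
    have e1 : ∀ u v : hypPerp B e e₁, B u u = 0 → (⟨(tv B u.1 1).1 v, lmem (fx u).1 (fx u).2 v⟩ : hypPerp B e e₁) = v + B u v • u :=
      fun u v uu => Subtype.ext (by simp [h.tv_ap uu (map_one σ)])
    simp only [Function.comp, e1 _ _ ff, e1 _ _ p.ff, id, t2, ← t1, ← map_add, T.symm_apply_apply]
    simp [p.ff, add_assoc, vv F])
  obtain ⟨v₀, γ₀, r₀, k₀⟩ := Qex h q hu
  have key : ∀ w : hypPerp B e e₁, B (T f₀) w = 0 → bf B v₀.1 w = 0 := fun w hw => by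
    obtain ⟨w, rfl⟩ := T.surjective w
    obtain ⟨γ, r1⟩ := vex h q w
    obtain ⟨γ', r2, k2⟩ := a w γ r1
    have c1 : ∀ u w : hypPerp B e e₁, B u w = 0 → ∀ γ, tv B u.1 1 * ei B e w γ = ei B e w γ * tv B u.1 1 := fun u w z γ =>
      cjf.1 (by rw [h.ei_conj, (fx u).1, h.tv_fix z])
    have c2 : y * ei B e (T w) γ' = ei B e (T w) γ' * y :=
      s.stab_inj h p.ne (mul_mem hy (Q_le (h.ei_mem_Q ..))) (mul_mem (Q_le (h.ei_mem_Q ..)) hy) (by
        rw [map_mul, map_mul, ← k, ← k2]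
        exact cjc (by rw [← map_mul, ← map_mul, c1 _ _ (by simpa [t2] using hw)]) g)
    have c3 := ei_cj h r₀ r2
    rw [← k₀, cjf.2 (by rw [mul_assoc, c1 _ _ hw, ← mul_assoc, c2, mul_assoc]), left_eq_mul] at c3
    exact h.tv_inj p.ne p.ee (h.bfK ..) (map_zero σ) (c3.trans (h.tv_zero e).symm)
  obtain ⟨b, hb⟩ := Submodule.mem_span_singleton.1 (hm_nd h.herm (e := (T f₀).1) (v := v₀.1) fun (w : V) hw => by
    have := key ⟨w + B e₁ w • e + B e w • e₁, mem_hypPerp.2 ⟨by simp [p.ee, q.ef, aa], by simp [q.ff, h.fe q, aa]⟩⟩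
      (by simp [hw, h.cm (h1 _), h.cm (h2 _)])
    simpa [bf, h1, h2, h.cm (h1 _), h.cm (h2 _)] using this)
  have g0 : σ γ₀ = γ₀ := (CharTwo.add_eq_zero.1 (by rw [r₀.tr, ← hb]; simp [ff])).symm
  have f0 : (T f₀).1 ∉ F ∙ e := fun z => by
    obtain ⟨c, hc⟩ := Submodule.mem_span_singleton.1 z
    have := h2 (T f₀)
    rw [← hc, map_smul, h.fe q, smul_eq_mul, mul_one] at this
    have k : T f₀ = 0 := Subtype.ext (by simpa [this] using hc.symm)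
    exact p.ne' (by simpa using k)
  have k3 : y = tv B (σ b • e + (1 : F) • (T f₀).1) 1 * tv B e (γ₀ + σ b * σ (σ b) * 1) := by
    have K : σ (γ₀ + σ b * σ (σ b) * 1) = γ₀ + σ b * σ (σ b) * 1 := by rw [map_add, g0, mul_one, h.nK]
    rw [h.tv_ln p.ee ff (h1 _) (map_one σ), mul_assoc, h.tv_comm (h.cm (h1 _)), ← mul_assoc, h.ei_tv _ K, eq_comm, ← eq_mul_inv_iff_mul_eq]
    · simp only [map_one, mul_one, h.tv_inv, k₀, h.ss, hb]
      congr 1; linear_combination aa (σ b * b)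
    · exact ⟨p.ee, by simp [h1], by simp [ff, h.ss, mul_comm, aa]⟩
  refine ⟨σ b • e + (1 : F) • (T f₀).1, ⟨p.ee, by simp [p.ee, ff, h1, h.cm (h1 _)], by simp [p.ee, h1], p.ne, fun z => f0 ?_⟩, ?_, ?_⟩
  · simpa using Submodule.sub_mem _ z (Submodule.smul_mem _ (σ b) (Submodule.mem_span_singleton_self e))
  · rw [k, k3]
    rcases hq (γ₀ + σ b * σ (σ b) * 1) (by rw [map_add, g0, mul_one, h.nK]) with z | z <;> rw [z]
    exacts [.inl (by rw [h.tv_zero, mul_one]), .inr rfl]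
  · intro p' T' v a' hv
    have := Submodule.add_mem _ (Submodule.smul_mem _ (σ b) (Submodule.mem_span_singleton_self e)) (compat h s q a a' f₀ v hv)
    rwa [one_smul, add_sub_assoc]

/-- `tv f 1 = i²`, `i = ei f r γ` commutes with `x = diag (1, 1, ω, ω, ω)`.  `y = γ x` has order `3` and is a scalar `≠ 1` on `e^⊥ / e`,
its fixed vectors are `⟨e, e''⟩`, `e'' = e' + y e' + y² e'`.  So `(γ i)²` fixes `e''`, but `tv f₁ 1 * tv e 1` does not. -/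
theorem gd_G (p : Ln B e f) (hg : Gd ψ t e g) : ∃ f', Ln B e f' ∧ g * ψ (tv B f 1) * g⁻¹ = ψ (tv B f' 1) := by
  obtain ⟨-, N1, sg, ω, ω2, ω0, ω1, -⟩ := h.two hq
  have two : (2 : F) = 0 := CharTwo.two_eq_zero
  obtain ⟨e', f', r⟩ := h.fr_ex p
  obtain ⟨f₁, l, k | k, -⟩ := s.gd_tv h hq (e' := e') p hg
  · exact ⟨f₁, l, k⟩
  exfalso
  have q := r.he
  obtain ⟨r, fr⟩ := h.f5_ex r
  have z := h.f5_all fr
  have ω3 : ω * ω * ω = 1 := by rw [← sg, mul_comm, N1 ω ω0]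
  obtain ⟨x, x1, x2, x3, x4, x5⟩ := h.dg_ex fr one_ne_zero ω0 (N1 ω ω0) (by rw [map_one, sg]; field_simp)
  rw [one_smul] at x1
  rw [map_one, inv_one, one_smul] at x2
  rw [inv_eq_of_mul_eq_one_left (N1 ω ω0)] at x4
  have xs : ∀ v : hypPerp B e e', x.1 v = ω • v := fun v => by
    rw [h.f5_dec fr v, h1 v, h2 v]; simp only [map_add, map_smul, x1, x2, x3, x4, x5]; module
  have xo : x * (x * x) = 1 := h.hy_ext q (by simp only [mul_ap, x1, one_ap]) (by simp only [mul_ap, x2, one_ap]) fun w a b => by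
    have := xs ⟨w, mem_hypPerp.2 ⟨a, b⟩⟩
    simp only [mul_ap, this, map_smul, smul_smul, ω3, one_smul, one_ap]
  obtain ⟨γ, v⟩ := h.va_ex p.ff fr.fr
  have iS : ei B f r γ ∈ Stab B e := h.ei_fix v (h.cm p.ef) z.2.2.1.1
  have xi : x * ei B f r γ = ei B f r γ * x := cjf.1 (by
    rw [h.ei_conj, x3, x5, h.ei_smul ⟨v.ee, by simp [z], by simp [v.tr, ← mul_assoc, N1 ω ω0]⟩, smul_smul, mul_comm, N1 ω ω0, one_smul,
      one_mul])
  obtain ⟨y, hy, ky⟩ := hg.gS x x1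
  obtain ⟨j, hj, kj⟩ := hg.gS _ iS
  have yj : y * j = j * y := s.stab_inj h p.ne (mul_mem hy hj) (mul_mem hj hy) (by
    rw [map_mul, map_mul, ← ky, ← kj]; exact cjc (by rw [← map_mul, xi, map_mul]) g)
  have yo : y * (y * y) = 1 := s.stab_inj h p.ne (mul_mem hy (mul_mem hy hy)) (one_mem _) (by
    simp only [map_mul, ← ky, conj_mul]; rw [← map_mul, ← map_mul, xo, map_one, mul_one, mul_inv_cancel])
  have jj : j * j = tv B f₁ 1 * tv B e 1 := s.stab_inj h p.ne (mul_mem hj hj) (mul_mem (h.tv_fix (h.cm l.ef) 1) (h.tv_fix p.ee 1)) (by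
    rw [← k, map_mul, ← kj, conj_mul, ← map_mul, h.ei_sq v, fr.rr])
  obtain ⟨T, a⟩ := s.aq_ex h q (s.gd_Q h p.ne p.ee hg).1
  obtain ⟨θ, t1, -⟩ := s.gd_semi h hq q hg a
  obtain ⟨y₀, y1, y2, hu, ay⟩ := af_stab (ψ := ψ) h q hy
  have e1 := ((AF.mul a (af_lev h x1 x2)).mul (AF.inv h s q a)).uniq h s q (ky ▸ ay)
  obtain ⟨w₀, δ, vw, ku⟩ := h.Q_ex' p.ne p.ee hu
  have fx : ∀ w, B e w = 0 → y.1 w = w → ∃ c : F, w = c • e := fun w a b => by
    obtain ⟨u, u1, u2, d⟩ := h.herm.hyp_decomp q.ee q.ff q.ef w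
    have e2 : y₀.1 u = θ ω • u := by
      have := congrArg Subtype.val (e1 ⟨u, mem_hypPerp.2 ⟨u1, u2⟩⟩)
      simp only [Function.comp] at this
      rw [← this, show (⟨x.1 _, _⟩ : hypPerp B e e') = ω • T.symm ⟨u, mem_hypPerp.2 ⟨u1, u2⟩⟩ from Subtype.ext (xs _), t1,
        T.apply_symm_apply]; rfl
    rw [a, zero_smul, add_zero] at d
    rw [d, eq_mul_of_mul_inv_eq ku, mul_ap, map_add, map_smul, e2, y1, h.ei_perp vw (by simp [u1, p.ee])] at b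
    have b' := congrArg (B e') b
    simp only [map_add, map_smul, u2, h.fe q, smul_eq_mul, mul_zero, mul_one, zero_add, add_eq_left, h.cm vw.ew, add_zero] at b'
    have : (θ ω - 1) • u = 0 := by
      simp only [map_add, map_smul, smul_eq_mul, h.cm vw.ew, mul_zero, add_zero, b', zero_smul] at b
      linear_combination (norm := module) b
    exact ⟨_, by rwa [(smul_eq_zero.1 this).resolve_left fun z => ω1 (by simpa using sub_eq_zero.1 z), zero_add] at d⟩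
  have S : ∀ {x : SUG B}, x ∈ Stab B e → ∀ v, B e (x.1 v) = B e v := fun {x} hx v => by rw [← iso x e v, hx]
  obtain ⟨w, w1, w2⟩ : ∃ w, B e w = 1 ∧ y.1 w = w := ⟨e' + y.1 e' + y.1 (y.1 e'), by simp [S hy, q.ef, aa], by
    rw [map_add, map_add, show y.1 (y.1 (y.1 e')) = e' from congrArg (fun x : SUG B => x.1 e') yo]; abel⟩
  obtain ⟨c, hc⟩ := fx (j.1 w - w) (by rw [map_sub, S hj, sub_self]) (by rw [map_sub, ← mul_ap, yj, mul_ap, w2])
  have E := congrArg (fun x : SUG B => x.1 w) jj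
  simp only [mul_ap, sub_eq_iff_eq_add.1 hc, map_add, map_smul, mem_Stab.1 hj, h.tv_ap l.ff (map_one σ), h.tv_ap p.ee (map_one σ), w1,
    h.cm l.ef] at E
  exact one_ne_zero (l.indep (a := 1) (b := B f₁ w) (by linear_combination (norm := module) - E + vv F (c • e))).1

theorem gd_G' (p : Ln B e f) (hg : Gd ψ t e g) : ∃ f', Ln B e f' ∧ g * ψ (tv B f 1) * g⁻¹ = ψ (tv B f' 1) ∧
    ∀ (p' : Hy B e e') (T : hypPerp B e e' ≃+ hypPerp B e e') (v : hypPerp B e e'), AQ ψ e e' g T → f - v ∈ F ∙ e →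
      f' - T v ∈ F ∙ e := by
  obtain ⟨f₁, l₁, k | k, r⟩ := s.gd_tv h hq (e' := e') p hg
  · exact ⟨f₁, l₁, k, r⟩
  obtain ⟨f₂, l₂, k'⟩ := s.gd_G h hq p hg
  have E := s.stab_inj h p.ne (h.tv_fix (h.cm l₂.ef) 1) (mul_mem (h.tv_fix (h.cm l₁.ef) 1) (h.tv_fix p.ee 1)) (k'.symm.trans k)
  obtain ⟨w, w1, w2⟩ := h.ln_w (h.ln_symm l₁) 1
  have E' := congrArg (fun x : SUG B => x.1 w) E
  have w3 : B e w = 1 := by rw [← h.symm, w2, map_one]
  simp only [mul_ap, h.tv_ap l₂.ff (map_one σ), h.tv_ap l₁.ff (map_one σ), h.tv_ap p.ee (map_one σ), w3, one_mul, one_smul, map_add,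
    w1, h.cm l₁.ef, add_zero, zero_smul, add_right_inj] at E'
  exact ((h.ln_symm l₂).nm (Submodule.mem_span_singleton.2 ⟨_, E'⟩)).elim

omit s in
theorem tv_sm {v : V} (hv : B v v = 0) {a : F} (ha : a ≠ 0) : tv B (a • v) 1 = tv B v 1 := by
  rw [h.tv_smul hv (map_one σ), (h.two hq).2.1 a ha, mul_one]

omit hq in
theorem pt_inj (p : Ln B e f) {a b a' b' : F} (h0 : a ≠ 0 ∨ b ≠ 0) (k : ψ (tv B (a • e + b • f) 1) = ψ (tv B (a' • e + b' • f) 1)) :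
    a * b' = a' * b := by
  have i : ∀ a b : F, B (a • e + b • f) (a • e + b • f) = 0 := fun a b => by simp [p.ee, p.ff, p.ef, h.cm p.ef]
  obtain ⟨c, -, k1, -⟩ := h.tv_eq (fun z => by have := p.indep z; tauto) (i ..) (i ..) (map_one σ) (map_one σ) one_ne_zero
    (two_inj h s (h.ei_two ..) (h.ei_two ..) k)
  obtain ⟨k2, k3⟩ := p.indep (a := a' - c * a) (b := b' - c * b) (by linear_combination (norm := module) k1)
  linear_combination a * k3 - b * k2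

theorem gd_pt (p : Ln B e f) (hg : Gd ψ t e g) (k : g * ψ (tv B f 1) * g⁻¹ = ψ (tv B f 1)) {a : F} (ha : a ≠ 0) :
    ∃ b : F, b ≠ 0 ∧ g * ψ (tv B (e + a • f) 1) * g⁻¹ = ψ (tv B (e + b • f) 1) := by
  obtain ⟨e₁, f₁, r⟩ := h.fr_ex p
  obtain ⟨T, hT⟩ := s.aq_ex h r.he (s.gd_Q h p.ne p.ee hg).1
  obtain ⟨θ, t1, -⟩ := s.gd_semi h hq r.he hg hT
  obtain ⟨u, rfl⟩ : ∃ u : hypPerp B e e₁, f = u := ⟨⟨f, mem_hypPerp.2 ⟨r.ef, r.e'f⟩⟩, rfl⟩
  obtain ⟨f₂, l₂, k₂, r₂⟩ := s.gd_G' h hq (e' := e₁) p hg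
  obtain ⟨c, -, rfl, -⟩ := h.tv_eq p.ne' p.ff l₂.ff (map_one σ) (map_one σ) one_ne_zero
    (two_inj h s (h.ei_two ..) (h.ei_two ..) (k.symm.trans k₂))
  obtain ⟨m, hm⟩ := Submodule.mem_span_singleton.1 (r₂ r.he T u hT (by simp))
  have L : Ln B e (e + a • u.1) := ⟨p.ee, by simp [p.ee, p.ff, p.ef, h.cm p.ef], by simp [p.ee, p.ef], p.ne, fun z =>
    (p.smul ha).nm (by simpa using Submodule.sub_mem _ z (Submodule.mem_span_singleton_self e))⟩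
  obtain ⟨f₃, l₃, k₃, r₃⟩ := s.gd_G' h hq (e' := e₁) L hg
  obtain ⟨m', hm'⟩ := Submodule.mem_span_singleton.1 (r₃ r.he T (a • u) hT (by simp))
  rw [t1, Submodule.coe_smul] at hm'
  obtain ⟨μ, b, rfl⟩ : ∃ μ b : F, f₃ = μ • e + b • u.1 := ⟨m' - θ a * m, θ a * c, by linear_combination (norm := module) θ a • hm - hm'⟩
  have b0 : b ≠ 0 := by rintro rfl; exact l₃.nm (Submodule.mem_span_singleton.2 ⟨μ, by simp⟩)
  have μ0 : μ ≠ 0 := by
    rintro rfl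
    rw [zero_smul, zero_add, tv_sm h hq p.ff b0, ← k, mul_left_inj, mul_right_inj] at k₃
    simpa using s.pt_inj h p (a := 1) (b := a) (a' := 0) (b' := 1) (.inl one_ne_zero) (by simpa using k₃)
  refine ⟨b / μ, div_ne_zero b0 μ0, ?_⟩
  rw [k₃, ← tv_sm h hq (v := e + _) (by simp [p.ee, p.ff, p.ef, h.cm p.ef]) μ0, smul_add, smul_smul, mul_div_cancel₀ _ μ0]

omit s in
theorem W_five (p : Ln B e f) {N : Subgroup (SUG B)} (h1 : tv B e 1 ∈ N) (h2 : tv B f 1 ∈ N) (h3 : ∀ a : F, a ≠ 0 → tv B (e + a • f) 1 ∈ N) :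
    W B (Submodule.span F {e, f}) ≤ N := fun x hx => by
  obtain ⟨α, β, α', a1, a2, rfl⟩ := (h.mem_Wl p).1 hx
  have z : ∀ v c, tv B v 1 ∈ N → σ c = c → tv B v c ∈ N := fun v c k hc => by
    rcases hq c hc with rfl | rfl
    exacts [h.tv_zero v ▸ one_mem N, k]
  refine mul_mem ?_ (z _ _ h2 a2)
  by_cases b0 : β = 0
  · rw [b0, zero_smul]; exact z _ _ h1 a1
  have := h3 β b0
  rw [← one_smul F e, h.tv_ln p.ee p.ff p.ef (map_one σ), mul_mem_cancel_right (z _ _ h2 (by rw [mul_one, h.nK]))] at this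
  simp only [map_one, one_mul, mul_one] at this
  have K : σ (1 + α) = 1 + α := by rw [map_add, map_one, a1]
  have := mul_mem this (z _ _ h1 K)
  rwa [h.ei_tv ⟨p.ee, by simp [p.ef], by simp [p.ff, aa]⟩ K, ← add_assoc, aa, zero_add] at this

theorem gd_W0 (p : Ln B e f) (hg : Gd ψ t e g) : ∃ k, k * t * k⁻¹ = t * ψ (tv B e 1) * ψ (tv B f 1) ∧
    ∀ x ∈ W B (Submodule.span F {e, f}), k * ψ x = ψ x * k := by
  obtain ⟨h7, N1, sg, ω, ω2, ω0, ω1, all⟩ := h.two hq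
  have two : (2 : F) = 0 := CharTwo.two_eq_zero
  have cj : ∀ (x : SUG B) v, ψ x * ψ (tv B v 1) * (ψ x)⁻¹ = ψ (tv B (x.1 v) 1) := fun x v => by
    rw [← map_inv, ← map_mul, ← map_mul, h.tv_conj]
  have cj' : ∀ a b y : G, a * b * y * (a * b)⁻¹ = a * (b * y * b⁻¹) * a⁻¹ := fun a b y => by group
  have i : ∀ a b : F, B (a • e + b • f) (a • e + b • f) = 0 := fun a b => by simp [p.ee, p.ff, p.ef, h.cm p.ef]
  obtain ⟨g, hg, k1⟩ : ∃ g, Gd ψ t e g ∧ g * ψ (tv B f 1) * g⁻¹ = ψ (tv B f 1) := by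
    obtain ⟨f', l, k⟩ := s.gd_G h hq p hg
    obtain ⟨x, x1, x2⟩ := h.ln_tr' (by omega) l p
    exact ⟨_, gd_left h s hg x1, by rw [cj', k, cj, x2]⟩
  obtain ⟨g, hg, k1, k2⟩ : ∃ g, Gd ψ t e g ∧ g * ψ (tv B f 1) * g⁻¹ = ψ (tv B f 1) ∧
      g * ψ (tv B (e + (1 : F) • f) 1) * g⁻¹ = ψ (tv B (e + (1 : F) • f) 1) := by
    obtain ⟨b, b0, k⟩ := s.gd_pt h hq p hg k1 one_ne_zero
    obtain ⟨x, x1, x2⟩ := h.ln_tr' (by omega) p (p.smul (inv_ne_zero b0))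
    exact ⟨_, gd_left h s hg x1, by rw [cj', k1, cj, x2, tv_sm h hq p.ff (inv_ne_zero b0)], by
      rw [cj', k, cj, map_add, map_smul, x1, x2, smul_inv_smul₀ b0, one_smul]⟩
  have w0 : ω + 1 ≠ 0 := fun z => ω1 (CharTwo.add_eq_zero.1 z)
  obtain ⟨b, b0, k3⟩ := s.gd_pt h hq p hg k1 ω0
  obtain ⟨c, c0, k4⟩ := s.gd_pt h hq p hg k1 w0
  have pi : ∀ {a b : F}, g * ψ (tv B (e + a • f) 1) * g⁻¹ = g * ψ (tv B (e + b • f) 1) * g⁻¹ → a = b := fun {a b} k => by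
    simpa [eq_comm] using s.pt_inj h p (a := 1) (b := a) (a' := 1) (b' := b) (.inl one_ne_zero) (by simpa using k)
  have b1 : b ≠ 1 := by rintro rfl; exact ω1 (pi (k3.trans k2.symm))
  have c1 : c ≠ 1 := by rintro rfl; exact ω0 (by simpa using pi (k4.trans k2.symm))
  have bc : b ≠ c := by rintro rfl; simpa using pi (k3.trans k4.symm)
  have bc' : b = ω ∧ c = ω + 1 ∨ b = ω + 1 ∧ c = ω := by have := all b; have := all c; grind
  obtain ⟨n, n1, n2⟩ := h.ln_swap p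
  have n3 : ∀ a b : F, a * b = 1 → ψ n * ψ (tv B (e + a • f) 1) * (ψ n)⁻¹ = ψ (tv B (e + b • f) 1) := fun a b ab => by
    rw [cj, map_add, map_smul, n1, n2, ← tv_sm h hq (v := e + _) (by simpa using i 1 b) (left_ne_zero_of_mul_eq_one ab), smul_add,
      smul_smul, ab, one_smul, add_comm]
  have n4 := n3 ω (ω + 1) (by linear_combination ω2 + ω * two)
  have n5 := n3 (ω + 1) ω (by linear_combination ω2 + ω * two)
  have cen : ∀ y, g * (ψ n * y * (ψ n)⁻¹) * g⁻¹ = ψ n * (g * y * g⁻¹) * (ψ n)⁻¹ → y * ((ψ n * g)⁻¹ * (g * ψ n)) =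
      (ψ n * g)⁻¹ * (g * ψ n) * y := fun y k => (cjf.1 (by rw [cj', cj', k]; group)).symm
  refine ⟨(ψ n * g)⁻¹ * (g * ψ n), ?_, fun x hx => (mc.1 (W_five h hq p (N := 𝐂[_].comap ψ) (mc.2 (cen _ ?_)) (mc.2 (cen _ ?_))
    (fun a a0 => mc.2 (cen _ ?_)) hx)).symm⟩
  · calc _ = g⁻¹ * ((ψ n)⁻¹ * (g * (ψ n * t * (ψ n)⁻¹) * g⁻¹) * ψ n) * g := by group
      _ = g⁻¹ * ((ψ n)⁻¹ * (ψ n * t * (ψ n)⁻¹ * (ψ n * ψ (tv B f 1) * (ψ n)⁻¹)) * ψ n) * g := by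
        rw [cjf.2 (tz s n), hg.gt, cj, n2]
      _ = g⁻¹ * t * g * (g⁻¹ * (g * ψ (tv B f 1) * g⁻¹) * g) := by rw [k1]; group
      _ = _ := by rw [inv_t h s 1 hg.gt hg.gz]; group
  · rw [cjf.2 hg.gz, cj, n1, k1]
  · rw [k1, cj, n2, cjf.2 hg.gz]
  · rcases all a with rfl | rfl | rfl | rfl
    · exact (a0 rfl).elim
    · rw [k2, n3 1 1 (one_mul 1), k2]
    · rcases bc' with ⟨rfl, rfl⟩ | ⟨rfl, rfl⟩
      exacts [by rw [n4, k3, k4, n4], by rw [n4, k3, k4, n5]]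
    · rcases bc' with ⟨rfl, rfl⟩ | ⟨rfl, rfl⟩
      exacts [by rw [n5, k3, k4, n5], by rw [n5, k3, k4, n4]]

/-- Change `g` by `ψ x`, `x ∈ Stab e` (`ln_tr'`): `γ z_f = z_f`; `γ` permutes `z_(e + a f)`, `a ≠ 0` (`gd_G`, `gd_tv`, `gd_semi`); by
`f ↦ a f` arrange `γ z_(e + f) = z_(e + f)`.  `n` of `ln_swap` commutes with `γ` on the five `z_v`, which generate `W ℓ`.
`k = ⁅g, ψ n⁆` centralizes `ψ (W ℓ)`, `k t k⁻¹ = t z_e z_f`.  The `d ∈ W ℓ` obtained in this way form a subgroup invariant under the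
stabilizer of `ℓ` (`ln_tr'`), and `z_e = z_f z_(e + f) · z_(e + ω f) z_(e + ω² f)`. -/
theorem gd_W (p : Ln B e f) (hg : Gd ψ t e g) : ∃ g₁, g₁ * t * g₁⁻¹ = t * ψ (tv B e 1) ∧
    ∀ x ∈ W B (Submodule.span F {e, f}), g₁ * ψ x = ψ x * g₁ := by
  obtain ⟨h7, N1, sg, ω, ω2, ω0, ω1, all⟩ := h.two hq
  have two : (2 : F) = 0 := CharTwo.two_eq_zero
  have cj : ∀ (x : SUG B) v, ψ x * ψ (tv B v 1) * (ψ x)⁻¹ = ψ (tv B (x.1 v) 1) := fun x v => by
    rw [← map_inv, ← map_mul, ← map_mul, h.tv_conj]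
  have cj' : ∀ a b y : G, a * b * y * (a * b)⁻¹ = a * (b * y * b⁻¹) * a⁻¹ := fun a b y => by group
  have i : ∀ a b : F, B (a • e + b • f) (a • e + b • f) = 0 := fun a b => by simp [p.ee, p.ff, p.ef, h.cm p.ef]
  obtain ⟨k, q1, q2⟩ := s.gd_W0 h hq p hg
  have P : ∀ a b c d : F, a * d + b * c ≠ 0 → ∃ k, k * t * k⁻¹ = t * ψ (tv B (a • e + b • f) 1) * ψ (tv B (c • e + d • f) 1) ∧
      ∀ x ∈ W B (Submodule.span F {e, f}), k * ψ x = ψ x * k := fun a b c d D => by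
    obtain ⟨x, x1, x2⟩ := h.ln_tr' (by omega) p (e₁ := a • e + b • f) (f₁ := c • e + d • f)
      ⟨i .., i .., by simp [p.ee, p.ff, p.ef, h.cm p.ef], fun z => D (by simp [p.indep z]), fun z => D (by
        obtain ⟨m, hm⟩ := Submodule.mem_span_singleton.1 z
        obtain ⟨k2, k3⟩ := p.indep (a := m * a - c) (b := m * b - d) (by linear_combination (norm := module) hm)
        linear_combination -a * k3 - b * k2 + m * a * b * two)⟩
    refine ⟨ψ x * k * (ψ x)⁻¹, ?_, fun y hy => ?_⟩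
    · calc _ = ψ x * (k * ((ψ x)⁻¹ * t * ψ x) * k⁻¹) * (ψ x)⁻¹ := by group
        _ = _ := by rw [mul_assoc _ t, s.tψ, inv_mul_cancel_left, q1, ← conj_mul, ← conj_mul, cj, cj, x1, x2, cjf.2 (tz s x)]
    · have := cjc (q2 _ (conj_W h (x := x⁻¹) (fun v hv => ?_) hy)) (ψ x)
      · simpa [mul_assoc] using this
      obtain ⟨r, u, rfl⟩ := Submodule.mem_span_pair.1 hv
      refine Submodule.mem_span_pair.2 ⟨(r * d + u * c) / (a * d + b * c), (r * b + u * a) / (a * d + b * c), (inv_eq_of ?_).symm⟩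
      rw [map_add, map_smul, map_smul, x1, x2]
      match_scalars <;> field_simp <;> grind
  obtain ⟨k₁, a1, a2⟩ := P 0 1 1 1 (by simp)
  obtain ⟨k₂, a3, a4⟩ := P 1 ω 1 (ω + 1) (by rw [show 1 * (ω + 1) + ω * 1 = 1 by linear_combination ω * two]; exact one_ne_zero)
  have m : ∀ a b : F, tv B (a • e + b • f) 1 ∈ W B (Submodule.span F {e, f}) := fun a b =>
    h.tv_W (Submodule.mem_span_pair.2 ⟨a, b, rfl⟩) 1
  refine ⟨k₁ * k₂, ?_, fun x hx => by rw [mul_assoc, a4 x hx, ← mul_assoc, a2 x hx, mul_assoc]⟩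
  rw [cj', a3, ← conj_mul, ← conj_mul, a1, cjf.2 (a2 _ (m _ _)), cjf.2 (a2 _ (m _ _))]
  simp only [mul_assoc, ← map_mul]
  congr 2
  refine J_ext fun w => ?_
  simp only [mul_ap, h.tv_ap (i ..) (map_one σ), h.tv_ap p.ee (map_one σ), map_add, map_smul, LinearMap.map_smulₛₗ, LinearMap.add_apply,
    LinearMap.smul_apply, smul_eq_mul, sg, p.ee, p.ff, p.ef, h.cm p.ef]
  match_scalars <;> grind

/-- `g⁻¹ g₁ ∈ C(t)` fixes `ψ z`, so normalizes `ψ (Stab e)` (`act_fix`, `aut_z`): `Gd g₁`.  Its `T` fixes the classes `a f`, so `θ = 1`;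
`gd_lin`. -/
theorem w0_two (h0 : e ≠ 0) (he : B e e = 0) (p : Gd ψ t e g) : ∃ w, W0 ψ t e w 1 := by
  obtain ⟨f, l⟩ := h.ln_ex h0 he
  obtain ⟨g₁, k1, k2⟩ := s.gd_W h hq l p
  have me : e ∈ Submodule.span F {e, f} := Submodule.subset_span (by simp)
  have mf : f ∈ Submodule.span F {e, f} := Submodule.subset_span (by simp)
  have z := k2 _ (h.tv_W me 1)
  have c : g⁻¹ * g₁ ∈ 𝐂[t] := mc.2 (cjf.1 (by
    calc _ = g⁻¹ * (g₁ * t * g₁⁻¹) * g := by group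
      _ = _ := by rw [k1, ← p.gt]; group))
  have c' := (h.aut_z h0 he (map_one σ) one_ne_zero (map_one σ) (s.act_fix h.bm c (h.ei_two e 0 1)
    ((show Commute g _ from p.gz).inv_left.mul_left z))).1
  have hg : Gd ψ t e g₁ := ⟨k1, z, fun x hx => by
    obtain ⟨y, hy, k⟩ := p.gS _ (c' x hx)
    exact ⟨y, hy, by rw [← k, s.act_spec]; simp [mul_assoc]⟩⟩
  obtain ⟨e₁, f₁, r⟩ := h.fr_ex l
  obtain ⟨T, hT⟩ := s.aq_ex h r.he (s.gd_Q h h0 he hg).1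
  obtain ⟨θ, t1, -⟩ := s.gd_semi h hq r.he hg hT
  obtain ⟨u, rfl⟩ : ∃ u : hypPerp B e e₁, f = u := ⟨⟨f, mem_hypPerp.2 ⟨r.ef, r.e'f⟩⟩, rfl⟩
  have fx : ∀ a : F, T (a • u) = a • u := fun a => by
    have v : Va B e (a • u).1 0 := .zero he (by simp [l.ff]) (h1 _)
    obtain ⟨γ, v', k⟩ := hT _ _ v
    rw [cjf.2 (k2 _ (h.ei_W (w := (a • u).1) me (Submodule.smul_mem _ a mf) 0))] at k
    exact (eii h s r.he v v' k).1.symm
  refine s.gd_lin h hq r.he hg hT fun a v => ?_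
  have u1 := fx 1
  rw [one_smul] at u1
  rw [t1, smul_left_injective F (show u ≠ 0 from fun z => l.ne' (congrArg Subtype.val z)) (show θ a • u = a • u by rw [← fx a, t1, u1])]

end two
end St

end Cfsg.Lib.UF
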